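import Cfsg.Agent.Lib.McLThree.Pairs

/-!
# The stabilizer of `q0` permutes three axes, with determinant one
-/

set_option autoImplicit false
set_option linter.unusedSectionVars false
set_option maxRecDepth 20000
set_option synthInstance.maxSize 4000
set_option synthInstance.maxHeartbeats 400000

namespace CfsgLib.McLThree

/-- The coordinate space of the orthogonal complement of `q0`. -/
abbrev V3 := Fin 3 → ZMod 3

/-- The embedding of the coordinates: the axes are `(1,0,0,1)`, `eA` and `eC`. -/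
def ax : V3 →+ V4 where
  toFun v := (v 0, v 1, v 2, v 0)
  map_zero' := rfl
  map_add' _ _ := rfl

/-- The axes. -/
def ev (i : Fin 3) : V3 := fun j => if j = i then 1 else 0

/-- A signed permutation of the coordinates. -/
def mon (σ : Equiv.Perm (Fin 3)) (ε : Fin 3 → ZMod 3) (v : V3) : V3 := fun j => ε (σ.symm j) * v (σ.symm j)

/-- The sign of a permutation, in the field. -/
def sgn3 (σ : Equiv.Perm (Fin 3)) : ZMod 3 := if Equiv.Perm.sign σ = 1 then 1 else 2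

/-- The determinant condition. -/
def detOne (σ : Equiv.Perm (Fin 3)) (ε : Fin 3 → ZMod 3) : Prop :=
  (∀ i, ε i ≠ 0) ∧ sgn3 σ * (ε 0 * ε 1 * ε 2) = 1

instance (σ : Equiv.Perm (Fin 3)) (ε : Fin 3 → ZMod 3) : Decidable (detOne σ ε) :=
  inferInstanceAs (Decidable (_ ∧ _))

theorem ax_perp : ∀ v : V3, perp (ax v) := by decide +kernel

theorem ax_surj : ∀ u : V4, perp u → ∃ v : V3, ax v = u := by decide +kernel

theorem ax_inj : Function.Injective ax := fun v w h => by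
  have h0 : v 0 = w 0 := congrArg Prod.fst h
  have h1 : v 1 = w 1 := congrArg (fun u : V4 => u.2.1) h
  have h2 : v 2 = w 2 := congrArg (fun u : V4 => u.2.2.1) h
  funext j; fin_cases j <;> assumption

theorem q0_decomp : ∀ u : V4, ∃ k : ZMod 3, ∃ v : V3, u = k.val • q0 + ax v := by decide +kernel

theorem q0_unique : ∀ k : ZMod 3, ∀ v : V3, k.val • q0 + ax v = 0 → k = 0 ∧ v = 0 := by decide +kernel

theorem axis_vectors : ∀ v : V3, qf (ax v) = 1 → ∃ i : Fin 3, ∃ e : ZMod 3, e ≠ 0 ∧ v = e.val • ev i := by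
  decide +kernel

theorem ev_decomp : ∀ v : V3, v = (v 0).val • ev 0 + (v 1).val • ev 1 + (v 2).val • ev 2 := by decide +kernel

theorem axis_img : ∀ i : Fin 3, qf (ax (ev i)) = 1 ∧
    (∀ j : Fin 3, i ≠ j → qf (ax (ev i) + ax (ev j)) = 2) ∧ ∀ e : ZMod 3, e ≠ 0 → ∀ f : ZMod 3, f ≠ 0 →
      qf (ax (e.val • ev i) + ax (f.val • ev i)) ≠ 2 := by decide +kernel

theorem mon_eval : ∀ σ : Equiv.Perm (Fin 3), ∀ ε : V3, ∀ v : V3,
    mon σ ε v = (v 0).val • ((ε 0).val • ev (σ 0)) + (v 1).val • ((ε 1).val • ev (σ 1)) +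
      (v 2).val • ((ε 2).val • ev (σ 2)) := by decide +kernel

theorem mon_cube : ∀ σ : Equiv.Perm (Fin 3), ∀ ε : V3, (∀ i, ε i ≠ 0) →
    (∀ i : Fin 3, mon σ ε (mon σ ε (mon σ ε (ev i))) = ev i) →
    (σ = 1 → ∀ v, mon σ ε v = v) ∧
    (σ ≠ 1 → sgn3 σ * (ε 0 * ε 1 * ε 2) = 1 ∧ ∀ j : Fin 3, j = 0 ∨ σ j = 0 ∨ σ (σ j) = 0) := by decide +kernel

theorem det_comp : ∀ σ τ : Equiv.Perm (Fin 3), ∀ ε η : V3, detOne σ ε → (∀ i, η i ≠ 0) →
    detOne (σ * τ) (fun i => ε (τ i) * η i) → detOne τ η := by decide +kernel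

theorem mon_comp (σ τ : Equiv.Perm (Fin 3)) (ε η : Fin 3 → ZMod 3) (v : V3) :
    mon σ ε (mon τ η v) = mon (σ * τ) (fun i => ε (τ i) * η i) v := by
  funext j
  have e : (σ * τ).symm j = τ.symm (σ.symm j) := rfl
  simp only [mon, e, Equiv.apply_symm_apply]
  ring

theorem q0_eZ : eZ = (2 : ZMod 3).val • q0 + ax ((2 : ZMod 3).val • ev 0) ∧
    eB = q0 + ax ((2 : ZMod 3).val • ev 0) := by decide +kernel

theorem axis_fix : ∀ σ : Equiv.Perm (Fin 3), ∀ ε : V3, σ 0 = 0 → ε 0 = 1 →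
    (∀ i, ε i ≠ 0) → ¬ detOne σ ε →
    (2 : ZMod 3).val • q0 + ax (mon σ ε ((2 : ZMod 3).val • ev 0)) = eZ ∧
    q0 + ax (mon σ ε ((2 : ZMod 3).val • ev 0)) = eB ∧
    (ax (mon σ ε (ev 1)) ≠ eA ∨ ax (mon σ ε (ev 2)) ≠ eC) ∧
    (ax (mon σ ε (ev 1)) ≠ tauV eA ∨ ax (mon σ ε (ev 2)) ≠ tauV eC) ∧
    ∀ s : ZMod 3, s ≠ 0 → (ax (mon σ ε (ev 1)) ≠ eMap 1 s eA ∨ ax (mon σ ε (ev 2)) ≠ eMap 1 s eC) := by
  decide +kernel

theorem axis_swap : ∀ σ : Equiv.Perm (Fin 3), σ 0 = 0 → ∀ ε : V3, ε 0 = 2 → (∀ i, ε i ≠ 0) → ¬ detOne σ ε →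
    ∀ p q : ZMod 3, p * p + q * q = 1 →
    (gMap 2 p q ((2 : ZMod 3).val • q0 + ax (mon σ ε ((2 : ZMod 3).val • ev 0))) = eZ ∧
      gMap 2 p q (q0 + ax (mon σ ε ((2 : ZMod 3).val • ev 0))) = eB ∧
      (gMap 2 p q (ax (mon σ ε (ev 1))) ≠ eA ∨ gMap 2 p q (ax (mon σ ε (ev 2))) ≠ eC) ∧
      (gMap 2 p q (ax (mon σ ε (ev 1))) ≠ tauV eA ∨ gMap 2 p q (ax (mon σ ε (ev 2))) ≠ tauV eC) ∧
      ∀ s : ZMod 3, s ≠ 0 → (gMap 2 p q (ax (mon σ ε (ev 1))) ≠ eMap 1 s eA ∨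
        gMap 2 p q (ax (mon σ ε (ev 2))) ≠ eMap 1 s eC)) ∧
    ∀ e : ZMod 3, e ≠ 0 →
      eMap 2 e (gMap 1 p q ((2 : ZMod 3).val • q0 + ax (mon σ ε ((2 : ZMod 3).val • ev 0)))) = eZ ∧
      eMap 2 e (gMap 1 p q (q0 + ax (mon σ ε ((2 : ZMod 3).val • ev 0)))) = eB ∧
      (eMap 2 e (gMap 1 p q (ax (mon σ ε (ev 1)))) ≠ eA ∨ eMap 2 e (gMap 1 p q (ax (mon σ ε (ev 2)))) ≠ eC) ∧
      (eMap 2 e (gMap 1 p q (ax (mon σ ε (ev 1)))) ≠ tauV eA ∨
        eMap 2 e (gMap 1 p q (ax (mon σ ε (ev 2)))) ≠ tauV eC) ∧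
      ∀ s : ZMod 3, s ≠ 0 → (eMap 2 e (gMap 1 p q (ax (mon σ ε (ev 1)))) ≠ eMap 1 s eA ∨
        eMap 2 e (gMap 1 p q (ax (mon σ ε (ev 2)))) ≠ eMap 1 s eC) := by decide +kernel

theorem ax_evs : ax (ev 1) = eA ∧ ax (ev 2) = eC := by decide +kernel

theorem fix_middle : ∀ u1 u2 : ZMod 3, (u1, u2) ≠ (0, 0) →
    (-u2, u1) ≠ ((0, 0) : ZMod 3 × ZMod 3) ∧ tr 1 (-u2, u1) (0, u1, u2, 0) = (0, u1, u2, 0) := by
  decide +kernel

theorem q0_move : ∀ a p q : ZMod 3, a ≠ 0 → p * p + q * q = 1 →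
    ∃ w w' : ZMod 3 × ZMod 3, ∃ u1 u2 : ZMod 3, (u1, u2) ≠ (0, 0) ∧
      tr 1 w' (gMap a p q (tr 1 w q0)) = (0, u1, u2, 0) := by decide +kernel

theorem tr_cube : ∀ w, ∀ v : V4, tr 1 w (tr 1 w (tr 1 w v)) = v := by decide +kernel

theorem tr_eq_id : ∀ w, tr 1 w eB = eB → w = (0, 0) := by decide +kernel

theorem mon_zero : ∀ v : V3, v = 0 → ax v = 0 := by decide +kernel

namespace Data

variable {G : Type*} [Group G] [Finite G] {H : Hyp G} (D : Data H)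

/-- The centralizer of `q0`. -/
def C0 : Subgroup G := Subgroup.centralizer {D.F.φ q0}

theorem mem_C0 {x : G} : x ∈ D.C0 ↔ x * D.F.φ q0 = D.F.φ q0 * x := Subgroup.mem_centralizer_singleton_iff

/-- `n` acts on the axes as `(σ, ε)`. -/
def Acts {n : G} (hn : n ∈ H.NJ) (σ : Equiv.Perm (Fin 3)) (ε : Fin 3 → ZMod 3) : Prop :=
  D.F.act hn q0 = q0 ∧ (∀ i, ε i ≠ 0) ∧ ∀ v, D.F.act hn (ax v) = ax (mon σ ε v)

theorem act_q0 {n : G} (hn : n ∈ H.NJ) (hC : n ∈ D.C0) : D.F.act hn q0 = q0 :=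
  D.F.act_eq _ (mul_inv_eq_iff_eq_mul.mpr (D.mem_C0.mp hC))

theorem act_isometry {n : G} (hn : n ∈ H.NJ) (hq : D.F.act hn q0 = q0) (v : V4) :
    qf (D.F.act hn v) = qf v := by
  obtain ⟨μ, hμ, hsim⟩ := sim (D.F.act_injective hn) (D.toGeo.zero_act hn)
  have hμ1 : μ = 1 := by
    have h := hsim q0
    rw [hq] at h
    rcases zmod_ne_zero μ hμ with rfl | rfl
    · rfl
    · exact absurd h (by decide)
  rw [hsim, hμ1, one_mul]

theorem exists_acts {n : G} (hn : n ∈ H.NJ) (hC : n ∈ D.C0) : ∃ σ ε, D.Acts hn σ ε := by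
  have hq := D.act_q0 hn hC
  have hiso := D.act_isometry hn hq
  have hex : ∀ i, ∃ j, ∃ e : ZMod 3, e ≠ 0 ∧ D.F.act hn (ax (ev i)) = ax (e.val • ev j) := by
    intro i
    have hp : perp (D.F.act hn (ax (ev i))) := by
      rw [perp_iff]
      conv_lhs => rw [← hq]
      rw [← map_add, hiso, hiso]
      exact (perp_iff _).mp (ax_perp _)
    obtain ⟨v, hv⟩ := ax_surj _ hp
    obtain ⟨j, e, he, rfl⟩ := axis_vectors v (by rw [hv, hiso]; exact (axis_img i).1)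
    exact ⟨j, e, he, hv.symm⟩
  choose σ₀ ε hε himg using hex
  have hinj : Function.Injective σ₀ := by
    intro i j h
    by_contra hne
    have h2 := hiso (ax (ev i) + ax (ev j))
    rw [map_add, himg, himg, h, (axis_img i).2.1 j hne] at h2
    exact (axis_img (σ₀ j)).2.2 _ (hε i) _ (hε j) h2
  let σ : Equiv.Perm (Fin 3) := Equiv.ofBijective σ₀ (Finite.injective_iff_bijective.mp hinj)
  refine ⟨σ, ε, hq, hε, fun v => ?_⟩
  rw [mon_eval]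
  conv_lhs => rw [ev_decomp v]
  simp only [map_add, map_nsmul, himg]
  rfl

theorem acts_mul {n m : G} {hn : n ∈ H.NJ} {hm : m ∈ H.NJ} {σ τ : Equiv.Perm (Fin 3)} {ε η : Fin 3 → ZMod 3}
    (h : D.Acts hn σ ε) (h' : D.Acts hm τ η) :
    D.Acts (mul_mem hn hm) (σ * τ) (fun i => ε (τ i) * η i) := by
  refine ⟨?_, fun i => mul_ne_zero (h.2.1 _) (h'.2.1 _), fun v => ?_⟩
  · rw [D.F.act_mul hn hm, h'.1, h.1]
  · rw [D.F.act_mul hn hm, h'.2.2, h.2.2, mon_comp]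

theorem exists_cyclic : ∃ r, ∃ hr : r ∈ H.NJ, r ∈ D.C0 ∧ r ^ 3 ∈ H.J ∧ ∃ σ ε, D.Acts hr σ ε ∧
    detOne σ ε ∧ σ ≠ 1 ∧ ∀ j : Fin 3, j = 0 ∨ σ j = 0 ∨ σ (σ j) = 0 := by
  obtain ⟨w, w', u1, u2, hu, hv⟩ := q0_move D.ga D.gp D.gq D.ga0 D.gpq
  obtain ⟨p, -, hp, hpv⟩ := D.F.act_tr w
  obtain ⟨p', -, hp', hp'v⟩ := D.F.act_tr w'
  obtain ⟨hw0, hfix⟩ := fix_middle u1 u2 hu
  obtain ⟨s, -, hs, hsv⟩ := D.F.act_tr (-u2, u1)
  have hgN := H.M0_le D.hg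
  have hh : p' * D.g * p ∈ H.NJ := mul_mem (mul_mem hp' hgN) hp
  set h := p' * D.g * p with hhdef
  have hhq : D.F.act hh q0 = (0, u1, u2, 0) := by
    rw [D.F.act_mul (mul_mem hp' hgN) hp, D.F.act_mul hp' hgN, hpv, D.g_act, hp'v, hv]
  have hhi : ∀ v, D.F.act (inv_mem hh) (D.F.act hh v) = v := fun v => D.F.act_eq _ (by
    rw [D.F.act_spec]; group)
  have hr : h⁻¹ * s * h ∈ H.NJ := mul_mem (mul_mem (inv_mem hh) hs) hh
  have hact : ∀ v, D.F.act hr v = D.F.act (inv_mem hh) (tr 1 (-u2, u1) (D.F.act hh v)) := fun v => by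
    rw [D.F.act_mul (mul_mem (inv_mem hh) hs) hh, D.F.act_mul (inv_mem hh) hs, hsv]
  have hrq : D.F.act hr q0 = q0 := by rw [hact, hhq, hfix, ← hhq, hhi]
  have hrC : h⁻¹ * s * h ∈ D.C0 := D.mem_C0.mpr (mul_inv_eq_iff_eq_mul.mp (by
    rw [← D.F.act_spec hr, hrq]))
  obtain ⟨σ, ε, hA⟩ := D.exists_acts hr hrC
  have hcube : ∀ v, D.F.act hr (D.F.act hr (D.F.act hr v)) = v := fun v => by
    have hhi' : ∀ u, D.F.act hh (D.F.act (inv_mem hh) u) = u := fun u => D.F.act_eq _ (by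
      rw [D.F.act_spec]; group)
    simp only [hact, hhi', tr_cube, hhi]
  have hm : ∀ i : Fin 3, mon σ ε (mon σ ε (mon σ ε (ev i))) = ev i := fun i => ax_inj (by
    rw [← hA.2.2, ← hA.2.2, ← hA.2.2, hcube])
  obtain ⟨hone, hcyc⟩ := mon_cube σ ε hA.2.1 hm
  have hne : σ ≠ 1 := fun e => by
    have hid : ∀ v, D.F.act hr v = v := fun v => by
      obtain ⟨k, u, rfl⟩ := q0_decomp v
      rw [map_add, map_nsmul, hrq, hA.2.2, hone e]
    refine hw0 (tr_eq_id _ ?_)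
    have hh' : ∀ u, D.F.act hh (D.F.act (inv_mem hh) u) = u := fun u => D.F.act_eq _ (by
      rw [D.F.act_spec]; group)
    conv_rhs => rw [← hh' eB]
    conv_lhs => rw [← hh' eB, ← hh' (tr 1 (-u2, u1) (D.F.act hh (D.F.act (inv_mem hh) eB)))]
    rw [← hact, hid]
  refine ⟨_, hr, hrC, ?_, σ, ε, hA, ⟨hA.2.1, (hcyc hne).1⟩, hne, (hcyc hne).2⟩
  have e3 : (h⁻¹ * s * h) ^ 3 = h⁻¹ * s * h * (h⁻¹ * s * h * (h⁻¹ * s * h)) := by
    rw [pow_succ', pow_two]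
  rw [e3]
  exact D.F.act_id_mem (mul_mem hr (mul_mem hr hr)) fun v => by
    rw [D.F.act_mul hr (mul_mem hr hr), D.F.act_mul hr hr, hcube]

/-- Every element of the stabilizer has determinant one on the axes. -/
theorem acts_det {n : G} {hn : n ∈ H.NJ} (hC : n ∈ D.C0) {σ : Equiv.Perm (Fin 3)} {ε : Fin 3 → ZMod 3}
    (hA : D.Acts hn σ ε) : detOne σ ε := by
  obtain ⟨r, hr, hrC, -, ρ, η, hR, hRd, -, hcyc⟩ := D.exists_cyclic
  -- reduce to the case where the first axis is fixed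
  suffices key : ∀ m : G, ∀ hm : m ∈ H.NJ, m ∈ D.C0 → ∀ τ θ, D.Acts hm τ θ → τ 0 = 0 → detOne τ θ by
    rcases hcyc (σ 0) with e | e | e
    · exact key n hn hC σ ε hA e
    · exact det_comp ρ σ η ε hRd hA.2.1
        (key _ (mul_mem hr hn) (mul_mem hrC hC) _ _ (D.acts_mul hR hA) e)
    · refine det_comp ρ σ η ε hRd hA.2.1 ?_
      refine det_comp ρ (ρ * σ) η (fun i => η (σ i) * ε i) hRd (fun i => mul_ne_zero (hR.2.1 _) (hA.2.1 _)) ?_
      exact key _ (mul_mem hr (mul_mem hr hn)) (mul_mem hrC (mul_mem hrC hC)) _ _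
        (D.acts_mul hR (D.acts_mul hR hA)) e
  intro m hm hmC τ θ hM h0
  by_contra hdet
  have hz : D.F.act hm eZ = (2 : ZMod 3).val • q0 + ax (mon τ θ ((2 : ZMod 3).val • ev 0)) := by
    conv_lhs => rw [q0_eZ.1]
    rw [map_add, map_nsmul, hM.1, hM.2.2]
  have hb : D.F.act hm eB = q0 + ax (mon τ θ ((2 : ZMod 3).val • ev 0)) := by
    conv_lhs => rw [q0_eZ.2]
    rw [map_add, hM.1, hM.2.2]
  have hA1 : D.F.act hm eA = ax (mon τ θ (ev 1)) := by rw [← ax_evs.1, hM.2.2]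
  have hC1 : D.F.act hm eC = ax (mon τ θ (ev 2)) := by rw [← ax_evs.2, hM.2.2]
  have finish : ∀ k : G, ∀ hk : k ∈ H.NJ, D.F.act hk eZ = eZ → D.F.act hk eB = eB →
      (D.F.act hk eA ≠ eA ∨ D.F.act hk eC ≠ eC) →
      (D.F.act hk eA ≠ tauV eA ∨ D.F.act hk eC ≠ tauV eC) →
      (∀ s : ZMod 3, s ≠ 0 → (D.F.act hk eA ≠ eMap 1 s eA ∨ D.F.act hk eC ≠ eMap 1 s eC)) → False := by
    intro k hk k1 k2 n1 n2 n3
    rcases D.fix_both hk k1 k2 with c | c | ⟨-, s, hs, c⟩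
    · rcases n1 with n | n <;> exact n (c _)
    · rcases n2 with n | n <;> exact n (c _)
    · rcases n3 s hs with n | n <;> exact n (c _)
  rcases zmod_ne_zero _ (hM.2.1 0) with e0 | e0
  · obtain ⟨f1, f2, n1, n2, n3⟩ := axis_fix τ θ h0 e0 hM.2.1 hdet
    exact finish m hm (hz.trans f1) (hb.trans f2) (by rwa [hA1, hC1]) (by rwa [hA1, hC1]) (by rwa [hA1, hC1])
  · obtain ⟨hsw2, hsw1⟩ := axis_swap τ h0 θ e0 hM.2.1 hdet D.gp D.gq D.gpq
    have hgN := H.M0_le D.hg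
    have hgm : D.g * m ∈ H.NJ := mul_mem hgN hm
    rcases zmod_ne_zero _ D.ga0 with ega | ega
    · have heN := H.M0_le D.he
      have hk : D.e * (D.g * m) ∈ H.NJ := mul_mem heN hgm
      have ha : ∀ v, D.F.act hk v = eMap 2 D.es (gMap 1 D.gp D.gq (D.F.act hm v)) := fun v => by
        rw [D.F.act_mul heN hgm, D.F.act_mul hgN hm, D.g_act, D.e_act, ega]
      obtain ⟨f1, f2, n1, n2, n3⟩ := hsw1 D.es D.es0
      exact finish _ hk (by rw [ha, hz, f1]) (by rw [ha, hb, f2]) (by rwa [ha, ha, hA1, hC1])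
        (by rwa [ha, ha, hA1, hC1]) (by rwa [ha, ha, hA1, hC1])
    · have ha : ∀ v, D.F.act hgm v = gMap 2 D.gp D.gq (D.F.act hm v) := fun v => by
        rw [D.F.act_mul hgN hm, D.g_act, ega]
      obtain ⟨f1, f2, n1, n2, n3⟩ := hsw2
      exact finish _ hgm (by rw [ha, hz, f1]) (by rw [ha, hb, f2]) (by rwa [ha, ha, hA1, hC1])
        (by rwa [ha, ha, hA1, hC1]) (by rwa [ha, ha, hA1, hC1])

end Data

end CfsgLib.McLThree
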