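import Cfsg.Agent.Lib.McLThree.Kernel2
import Cfsg.Agent.Lib.Gaschutz.Split
import Cfsg.Agent.Lib.AltEightThree.Data

/-!
# The centralizer of the involution modulo the involution
-/

set_option autoImplicit false
set_option linter.unusedSectionVars false

open Equiv

namespace CfsgLib.McLThree

namespace Hyp

variable {G : Type*} [Group G] [Finite G] (H : Hyp G)

/-- The involution as an element of its centralizer. -/
noncomputable def tC : H.C := ⟨H.t, H.t_mem_C⟩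

/-- The group it generates. -/
noncomputable def T : Subgroup H.C := Subgroup.zpowers H.tC

instance T_normal : H.T.Normal := ⟨fun m hm x => by
  obtain ⟨k, rfl⟩ := Subgroup.mem_zpowers_iff.mp hm
  have hc : Commute x H.tC := Subtype.ext (Subgroup.mem_centralizer_singleton_iff.mp x.2)
  rw [(hc.zpow_right k).eq, mul_inv_cancel_right]
  exact hm⟩

theorem mem_T {x : H.C} : x ∈ H.T ↔ (x : G) = 1 ∨ (x : G) = H.t := by
  constructor
  · intro h
    obtain ⟨k, rfl⟩ := Subgroup.mem_zpowers_iff.mp h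
    rcases Int.even_or_odd k with ⟨m, rfl⟩ | ⟨m, rfl⟩
    · left
      show H.t ^ (m + m) = 1
      rw [← two_mul, zpow_mul, show H.t ^ (2 : ℤ) = 1 by rw [zpow_two, H.t_sq], one_zpow]
    · right
      show H.t ^ (2 * m + 1) = H.t
      rw [zpow_add, zpow_mul, show H.t ^ (2 : ℤ) = 1 by rw [zpow_two, H.t_sq], one_zpow, one_mul, zpow_one]
  · rintro (h | h)
    · rw [show x = 1 from Subtype.ext h]; exact one_mem _
    · rw [show x = H.tC from Subtype.ext h]; exact Subgroup.mem_zpowers _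

/-- The reduction modulo the involution. -/
noncomputable abbrev bar : H.C →* H.C ⧸ H.T := QuotientGroup.mk' H.T

theorem bar_eq {x y : H.C} : H.bar x = H.bar y ↔ (x : G) = y ∨ (x : G) = H.t * y := by
  have hyt : H.t * (y : G) = y * H.t := (Subgroup.mem_centralizer_singleton_iff.mp y.2).symm
  rw [eq_comm, QuotientGroup.mk'_apply, QuotientGroup.mk'_apply, QuotientGroup.eq, H.mem_T, hyt,
    Subgroup.coe_mul, Subgroup.coe_inv]
  constructor
  · rintro (h | h)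
    · exact Or.inl (inv_mul_eq_one.mp h).symm
    · exact Or.inr (by rw [← h, mul_inv_cancel_left])
  · rintro (h | h)
    · exact Or.inl (by rw [h, inv_mul_cancel])
    · exact Or.inr (by rw [h, inv_mul_cancel_left])

theorem bar_t : H.bar H.tC = 1 := (QuotientGroup.eq_one_iff _).mpr (Subgroup.mem_zpowers _)

/-- Cubes detect equality modulo the involution. -/
theorem eq_of_cube {x y : G} (hy : y ∈ H.C) (hx3 : x ^ 3 = 1) (hy3 : y ^ 3 = 1)
    (h : x = y ∨ x = H.t * y) : x = y := by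
  refine h.resolve_right fun e => ?_
  have hc : Commute H.t y := (Subgroup.mem_centralizer_singleton_iff.mp hy).symm
  rw [e, hc.mul_pow, hy3, mul_one, pow_succ, pow_two, H.t_sq, one_mul] at hx3
  exact H.t_not_Q (hx3 ▸ one_mem _)

/-- The element `z` in the centralizer. -/
noncomputable def zC : H.C := ⟨H.z, H.Z_le_C H.z_spec.1⟩

theorem z_pow_exists {m : G} (hm : m ∈ H.Z) : ∃ i : Fin 3, m = H.z ^ (i : ℕ) := by
  rcases H.mem_Z_cases hm with e | e | e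
  · exact ⟨0, by simpa using e⟩
  · exact ⟨1, by simpa using e⟩
  · refine ⟨2, e.trans (inv_eq_of_mul_eq_one_right ?_)⟩
    show H.z * H.z ^ 2 = 1
    rw [← pow_succ', H.z_spec.2.1]

theorem N1_z {n : G} (hn : n ∈ H.N1) : n * H.z * n⁻¹ = H.z ∨ n * H.z * n⁻¹ = H.z⁻¹ := by
  rcases H.mem_Z_cases ((Subgroup.mem_normalizer_iff.mp hn.2 H.z).mp H.z_spec.1) with e | e | e
  · exact absurd (conj_eq_one_iff.mp e) H.z_spec.2.2.1
  · exact Or.inl e
  · exact Or.inr e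

theorem mem_N1_of_conj {x : G} (hx : x ∈ H.C) (h : x * H.z * x⁻¹ = H.z ∨ x * H.z * x⁻¹ = H.z⁻¹) :
    x ∈ H.N1 := by
  refine ⟨hx, ?_⟩
  show x ∈ Subgroup.normalizer (H.Z : Set G)
  rw [← H.z_spec.2.2.2, Subgroup.mem_normalizer_iff_map_conj_eq, MonoidHom.map_zpowers]
  show Subgroup.zpowers (x * H.z * x⁻¹) = _
  rcases h with e | e <;> rw [e]
  exact Subgroup.zpowers_inv

theorem θ_t : H.θ ⟨H.t, H.K_le_N1 H.t_mem_K⟩ = 1 := (H.θ_K H.t_mem_K).mpr (Or.inr H.piL_t)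

theorem θ_Z {m : G} (hm : m ∈ H.Z) : H.θ ⟨m, H.K_le_N1 (H.Z_le_K hm)⟩ = 1 :=
  (H.θ_K (H.Z_le_K hm)).mpr (Or.inl ((H.piL_ker _).mpr (H.Z_le_Q hm)))

/-- No element centralizing `Z` induces an odd permutation. -/
def Case1 : Prop := ∀ c, ∀ hc : c ∈ H.N1, c * H.z * c⁻¹ = H.z → Perm.sign (H.θ ⟨c, hc⟩) = 1

end Hyp

namespace Data

variable {G : Type*} [Group G] [Finite G] {H : Hyp G} (D : Data H)

include D

theorem θ_surj (π : Perm (Fin 5)) : ∃ n, ∃ hn : n ∈ H.N1, H.θ ⟨n, hn⟩ = π := by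
  rcases Int.units_eq_one_or (Perm.sign π) with h | h
  · obtain ⟨x, hx, e⟩ := H.θ_alt h
    exact ⟨x, H.K_le_N1 hx, e⟩
  · obtain ⟨x, hx, e⟩ := H.θ_alt (π := π * (H.θ ⟨D.e, D.e_N1.1⟩)⁻¹)
      (by rw [map_mul, map_inv, h, D.sign_e]; rfl)
    refine ⟨x * D.e, mul_mem (H.K_le_N1 hx) D.e_N1.1, ?_⟩
    rw [show (⟨x * D.e, _⟩ : H.N1) = ⟨x, H.K_le_N1 hx⟩ * ⟨D.e, D.e_N1.1⟩ from rfl, map_mul, e,
      inv_mul_cancel_right]

theorem conj_sign (h1 : H.Case1) {n : G} (hn : n ∈ H.N1) :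
    n * H.z * n⁻¹ = if Perm.sign (H.θ ⟨n, hn⟩) = 1 then H.z else H.z⁻¹ := by
  rcases H.N1_z hn with e | e
  · rw [if_pos (h1 n hn e)]; exact e
  · rw [if_neg ?_]; · exact e
    intro hs
    obtain ⟨he, hez, -⟩ := D.e_N1
    have hc : n * D.e * H.z * (n * D.e)⁻¹ = H.z := by
      rw [show n * D.e * H.z * (n * D.e)⁻¹ = n * (D.e * H.z * D.e⁻¹) * n⁻¹ by group, hez,
        show n * H.z⁻¹ * n⁻¹ = (n * H.z * n⁻¹)⁻¹ by group, e, inv_inv]
    have := h1 (n * D.e) (mul_mem hn he) hc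
    rw [show (⟨n * D.e, _⟩ : H.N1) = ⟨n, hn⟩ * ⟨D.e, he⟩ from rfl, map_mul, map_mul, hs, D.sign_e] at this
    exact absurd this (by decide)

theorem ker_θ (h1 : H.Case1) {n : G} (hn : n ∈ H.N1) (hθ : H.θ ⟨n, hn⟩ = 1) :
    n ∈ H.Z ∨ H.t * n ∈ H.Z :=
  D.ker_cases hn hθ (by rw [D.conj_sign h1 hn, hθ, map_one, if_pos rfl])

/-- A section of the permutation action on a subgroup of `N1` with kernel `⟨t⟩Z`. -/
theorem exists_section_of (N0 : Subgroup G) (hN0 : N0 ≤ H.N1) (hK : H.K ≤ N0)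
    (hsurj : ∀ π : Perm (Fin 5), ∃ n, ∃ hn : n ∈ N0, H.θ ⟨n, hN0 hn⟩ = π)
    (hker0 : ∀ n, ∀ hn : n ∈ N0, H.θ ⟨n, hN0 hn⟩ = 1 → n ∈ H.Z ∨ H.t * n ∈ H.Z) :
    ∃ Ω : Perm (Fin 5) →* H.C ⧸ H.T,
      ∀ π, ∃ n, ∃ hn : n ∈ N0, H.θ ⟨n, hN0 hn⟩ = π ∧ Ω π = H.bar ⟨n, (hN0 hn).1⟩ := by
  classical
  let incl : N0 →* H.C := Subgroup.inclusion (hN0.trans inf_le_left)
  let T1 : Subgroup N0 := H.T.comap incl
  have hT1 : T1 ≤ (H.θ.comp (Subgroup.inclusion hN0)).ker := fun x hx => by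
    rw [MonoidHom.mem_ker]
    rcases H.mem_T.mp (show incl x ∈ H.T from hx) with e | e
    · rw [show x = 1 from Subtype.ext e, map_one]
    · rw [show x = ⟨H.t, hK H.t_mem_K⟩ from Subtype.ext e]; exact H.θ_t
  let f : N0 ⧸ T1 →* Perm (Fin 5) := QuotientGroup.lift T1 (H.θ.comp (Subgroup.inclusion hN0)) hT1
  have hfm : ∀ x : N0, f (QuotientGroup.mk' T1 x) = H.θ ⟨(x : G), hN0 x.2⟩ := fun x => rfl
  have hfs : Function.Surjective f := fun π => by
    obtain ⟨n, hn, e⟩ := hsurj π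
    exact ⟨QuotientGroup.mk' T1 ⟨n, hn⟩, (hfm _).trans e⟩
  have hker : ∀ x ∈ f.ker, ∃ m, ∃ hm : m ∈ H.Z, x = QuotientGroup.mk' T1 ⟨m, hK (H.Z_le_K hm)⟩ := by
    intro x hx
    induction x using QuotientGroup.induction_on with | _ x => ?_
    have hθ : H.θ ⟨(x : G), hN0 x.2⟩ = 1 := hx
    rcases hker0 x x.2 hθ with h | h
    · exact ⟨_, h, rfl⟩
    · refine ⟨_, h, QuotientGroup.eq.mpr ?_⟩
      show incl (x⁻¹ * _) ∈ H.T
      refine H.mem_T.mpr (Or.inr ?_)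
      show (x : G)⁻¹ * (H.t * (x : G)) = H.t
      rw [← Subgroup.mem_centralizer_singleton_iff.mp (hN0 x.2).1, inv_mul_cancel_left]
  haveI : IsMulCommutative ↥f.ker := ⟨⟨fun a b => Subtype.ext (by
    obtain ⟨m, hm, ea⟩ := hker a a.2
    obtain ⟨m', hm', eb⟩ := hker b b.2
    show (a : N0 ⧸ T1) * b = b * a
    rw [ea, eb, ← map_mul, ← map_mul]
    exact congrArg _ (Subtype.ext (H.hJc m (H.Z_le_J hm) m' (H.Z_le_J hm'))))⟩⟩
  have hp : IsPGroup 3 ↥f.ker := fun a => ⟨1, Subtype.ext (by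
    obtain ⟨m, hm, ea⟩ := hker a a.2
    show (a : N0 ⧸ T1) ^ (3 ^ 1) = 1
    rw [ea, ← map_pow, pow_one, show (⟨m, hK (H.Z_le_K hm)⟩ : N0) ^ 3 = 1 from
      Subtype.ext (H.hQexp m (H.Z_le_Q hm)), map_one])⟩
  haveI : Fact (Nat.Prime 3) := ⟨Nat.prime_three⟩
  obtain ⟨k, hk⟩ := IsPGroup.iff_card.mp hp
  -- the Sylow subgroup containing the kernel
  set bq := QuotientGroup.mk' T1 ⟨D.b, hK D.b_K⟩ with hbq
  have hb3 : bq ^ 3 = 1 := by
    rw [hbq, ← map_pow, show (⟨D.b, hK D.b_K⟩ : N0) ^ 3 = 1 from Subtype.ext (H.hJexp _ D.b_J),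
      map_one]
  have hfb : f bq ≠ 1 := by
    intro e
    have e' : H.θ ⟨D.b, H.K_le_N1 D.b_K⟩ = 1 := e
    rcases (H.θ_K D.b_K).mp e' with h | h
    · exact D.piL_b_spec.2 h
    · have h3 := D.piL_b_spec.1
      rw [h] at h3
      exact absurd h3 (by decide +kernel)
  have ho : orderOf (f bq) = 3 := orderOf_eq_prime (by rw [← map_pow, hb3, map_one]) hfb
  set U := (Subgroup.zpowers (f bq)).comap f with hU
  have hcop : (Nat.card f.ker).Coprime U.index := by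
    rw [hk, hU, Subgroup.index_comap_of_surjective _ hfs]
    refine Nat.Coprime.pow_left _ ((Nat.prime_three.coprime_iff_not_dvd).mpr ?_)
    have := (Subgroup.zpowers (f bq)).card_mul_index
    rw [Nat.card_zpowers, ho, Nat.card_perm, Nat.card_fin] at this
    norm_num [Nat.factorial] at this
    omega
  have hAK : Subgroup.zpowers bq ⊓ f.ker = ⊥ := by
    rw [eq_bot_iff]
    rintro x ⟨hx1, hx2⟩
    obtain ⟨j, rfl⟩ := Subgroup.mem_zpowers_iff.mp hx1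
    have hd : (orderOf (f bq) : ℤ) ∣ j := orderOf_dvd_iff_zpow_eq_one.mpr (by rw [← map_zpow]; exact hx2)
    rw [ho] at hd
    obtain ⟨l, rfl⟩ := hd
    rw [Subgroup.mem_bot, zpow_mul, zpow_natCast, hb3, one_zpow]
  have hKA : f.ker ⊔ Subgroup.zpowers bq = U := by
    rw [hU, ← MonoidHom.map_zpowers f bq, Subgroup.comap_map_eq, sup_comm]
  obtain ⟨W, hW⟩ := CfsgLib.Gaschutz.exists_complement (K := f.ker) (fun x hx => by
    show f x ∈ Subgroup.zpowers (f bq)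
    rw [MonoidHom.mem_ker.mp hx]; exact one_mem _) hcop hAK hKA
  have hinj : Function.Injective (f.comp W.subtype) := by
    refine (injective_iff_map_eq_one _).mpr fun w hw => Subtype.ext ?_
    have : (w : N0 ⧸ T1) ∈ f.ker ⊓ W := ⟨hw, w.2⟩
    rwa [hW.disjoint.eq_bot, Subgroup.mem_bot] at this
  have hsur : Function.Surjective (f.comp W.subtype) := fun π => by
    obtain ⟨x, rfl⟩ := hfs π
    obtain ⟨⟨a, w⟩, e⟩ := hW.2 x
    refine ⟨w, ?_⟩
    rw [← e]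
    show f (w : N0 ⧸ T1) = f ((a : N0 ⧸ T1) * w)
    rw [map_mul, MonoidHom.mem_ker.mp a.2, one_mul]
  let E := MulEquiv.ofBijective (f.comp W.subtype) ⟨hinj, hsur⟩
  let ι : N0 ⧸ T1 →* H.C ⧸ H.T := QuotientGroup.map T1 H.T incl le_rfl
  refine ⟨ι.comp (W.subtype.comp E.symm.toMonoidHom), fun π => ?_⟩
  obtain ⟨n, hn⟩ := QuotientGroup.mk'_surjective T1 ((E.symm π : W) : N0 ⧸ T1)
  refine ⟨n, n.2, ?_, ?_⟩
  · have h := E.apply_symm_apply π
    rw [← hfm, hn]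
    exact h
  · show ι ((E.symm π : W) : N0 ⧸ T1) = _
    rw [← hn]
    rfl

/-- A section of the permutation action. -/
theorem exists_section (h1 : H.Case1) : ∃ Ω : Perm (Fin 5) →* H.C ⧸ H.T,
    ∀ π, ∃ n, ∃ hn : n ∈ H.N1, H.θ ⟨n, hn⟩ = π ∧ Ω π = H.bar ⟨n, hn.1⟩ :=
  D.exists_section_of H.N1 le_rfl H.K_le_N1 D.θ_surj fun _ hn hθ => D.ker_θ h1 hn hθ

end Data

end CfsgLib.McLThree
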