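import Mathlib

/-!
# Finite facts about `SL₂(5)`

Used in the recognition of McLaughlin's group by three-local data.
-/

set_option autoImplicit false
set_option maxRecDepth 20000

namespace CfsgLib.McLThree

open Equiv

/-- The group `SL₂(5)`. -/
abbrev SL25 := Matrix.SpecialLinearGroup (Fin 2) (ZMod 5)

/-- An element of order five of `SL₂(5)`. -/
def slFive : SL25 := ⟨!![1, 1; 0, 1], by decide⟩

theorem slFive_spec : slFive ^ 5 = 1 ∧ slFive ≠ 1 := by decide +kernel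

theorem card_sl : Fintype.card SL25 = 120 := by decide +kernel

theorem neg_one_spec : (-1 : SL25) ≠ 1 ∧ (-1 : SL25) * -1 = 1 := by decide +kernel

theorem neg_one_central : ∀ x : SL25, (-1 : SL25) * x = x * -1 := by decide +kernel

theorem neg_one_unique : ∀ x : SL25, x * x = 1 → x = 1 ∨ x = -1 := by decide +kernel

theorem three_gen : ∀ x : SL25, x ^ 3 = 1 → x ≠ 1 →
    (∃ g : SL25, (x * (g * x * g⁻¹)) * (x * (g * x * g⁻¹)) = -1) ∧
    (∃ k : SL25, k * x * k⁻¹ = x⁻¹) ∧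
    ∃ g : SL25, g * x * g⁻¹ ≠ 1 ∧ g * x * g⁻¹ ≠ x ∧ g * x * g⁻¹ ≠ x⁻¹ := by decide +kernel

theorem cent_three : ∀ x : SL25, x ^ 3 = 1 → x ≠ 1 → ∀ g : SL25, g * x = x * g →
    g = 1 ∨ g = x ∨ g = x⁻¹ ∨ g = -1 ∨ g = -x ∨ g = -x⁻¹ := by decide +kernel

theorem neg_one_comm : ∃ a b : SL25, a * b * a⁻¹ * b⁻¹ = -1 :=
  ⟨⟨!![2, 0; 0, 3], by decide⟩, ⟨!![0, 1; 4, 0], by decide⟩, by decide +kernel⟩

/-- A quaternion subgroup. -/
def qList : List SL25 :=
  [1, -1, ⟨!![2, 0; 0, 3], by decide⟩, ⟨!![3, 0; 0, 2], by decide⟩, ⟨!![0, 1; 4, 0], by decide⟩,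
    ⟨!![0, 4; 1, 0], by decide⟩, ⟨!![0, 2; 2, 0], by decide⟩, ⟨!![0, 3; 3, 0], by decide⟩]

theorem qList_mul : (1 : SL25) ∈ qList ∧ (∀ a ∈ qList, ∀ b ∈ qList, a * b ∈ qList) ∧
    qList.toFinset.card = 8 := by decide +kernel

/-- The permutations normalizing the quaternion subgroup. -/
def qNorm (g : SL25) : Bool := qList.all fun a => decide (g * a * g⁻¹ ∈ qList)

theorem qNorm_card : (Finset.univ.filter fun g : SL25 => qNorm g = true).card = 24 := by decide +kernel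

theorem qNorm_core : ∀ g : SL25, (∀ h : SL25, qNorm (h * g * h⁻¹) = true) → g = 1 ∨ g = -1 := by
  decide +kernel

end CfsgLib.McLThree
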