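import Mathlib

/-!
# Finite facts about the alternating group of degree six
-/

set_option autoImplicit false
set_option maxRecDepth 20000
set_option synthInstance.maxSize 4000
set_option synthInstance.maxHeartbeats 400000

namespace CfsgLib.McLThree

open Equiv

attribute [local instance 2000] List.decidableBAll List.decidableBEx

/-- The alternating group of degree six. -/
abbrev A6 := alternatingGroup (Fin 6)

/-- A standard subgroup of order nine of `A₆`, as a list. -/
def nineList : List A6 :=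
  [1,
    ⟨swap 0 1 * swap 1 2, Perm.mem_alternatingGroup.mpr (by decide)⟩,
    ⟨swap 0 2 * swap 2 1, Perm.mem_alternatingGroup.mpr (by decide)⟩,
    ⟨swap 3 4 * swap 4 5, Perm.mem_alternatingGroup.mpr (by decide)⟩,
    ⟨swap 3 5 * swap 5 4, Perm.mem_alternatingGroup.mpr (by decide)⟩,
    ⟨swap 0 1 * swap 1 2 * (swap 3 4 * swap 4 5), Perm.mem_alternatingGroup.mpr (by decide)⟩,
    ⟨swap 0 1 * swap 1 2 * (swap 3 5 * swap 5 4), Perm.mem_alternatingGroup.mpr (by decide)⟩,
    ⟨swap 0 2 * swap 2 1 * (swap 3 4 * swap 4 5), Perm.mem_alternatingGroup.mpr (by decide)⟩,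
    ⟨swap 0 2 * swap 2 1 * (swap 3 5 * swap 5 4), Perm.mem_alternatingGroup.mpr (by decide)⟩]

/-- An element of order four normalizing it. -/
def fourSix : A6 := ⟨swap 0 3 * swap 3 1 * swap 1 4 * swap 2 5, Perm.mem_alternatingGroup.mpr (by decide)⟩

theorem nine_facts : (1 : A6) ∈ nineList ∧ (∀ a ∈ nineList, ∀ b ∈ nineList, a * b ∈ nineList) ∧
    nineList.toFinset.card = 9 ∧ (∀ a ∈ nineList, fourSix * a * fourSix⁻¹ ∈ nineList) ∧
    fourSix ^ 4 = 1 ∧ fourSix ^ 2 ≠ 1 := by decide +kernel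

theorem cent_four : ∀ x : A6, x * x ≠ 1 → x ^ 4 = 1 → ∀ y : A6, x * y = y * x →
    y = 1 ∨ y = x ∨ y = x * x ∨ y = x * (x * x) := by decide +kernel

theorem invol_conj : ∀ x : A6, x * x = 1 → x ≠ 1 →
    ∃ g : A6, g * x * g⁻¹ = fourSix * fourSix := by decide +kernel

end CfsgLib.McLThree
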