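import Cfsg.Prelude.Def_Transfer
import Cfsg.Agent.Lib.Fitting.Basic
import Cfsg.Agent.Lib.Extraspecial.Basics
import Cfsg.Agent.Lib.McLThree.Finite
import Cfsg.Agent.Lib.McLThree.FiniteSix

/-!
# The three-local hypothesis and its first consequences
-/

set_option autoImplicit false
set_option linter.unusedSectionVars false

open scoped commutatorElement Pointwise

namespace CfsgLib.McLThree

/-- The three-local hypothesis. -/
structure Hyp (G : Type*) [Group G] [Finite G] where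
  S : Sylow 3 G
  J : Subgroup G
  hJS : J ≤ (S : Subgroup G)
  hJc : ∀ x ∈ J, ∀ y ∈ J, x * y = y * x
  hJexp : ∀ a ∈ J, a ^ 3 = 1
  hJcard : Nat.card J = 81
  Z : Subgroup G
  hZ : Z = (S : Subgroup G) ⊓ Subgroup.centralizer ((S : Subgroup G) : Set G)
  M0 : Subgroup G
  hM0 : M0 = Subgroup.closure {g : G | g ∈ Subgroup.normalizer (J : Set G) ∧ ∃ k : ℕ, orderOf g = 3 ^ k}
  hJM : J ≤ M0
  piM : M0 →* A6
  piM_surj : Function.Surjective piM
  piM_ker : ∀ x : M0, piM x = 1 ↔ (x : G) ∈ J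
  L0 : Subgroup G
  hL0 : L0 = Subgroup.closure {g : G | g ∈ Subgroup.normalizer (Z : Set G) ∧ ∃ k : ℕ, orderOf g = 3 ^ k}
  Q : Subgroup G
  hQ : Q = (Cfsg.pCore 3 (Subgroup.normalizer (Z : Set G))).map (Subgroup.normalizer (Z : Set G)).subtype
  hQex : Cfsg.IsExtraspecial 3 Q
  hQcard : Nat.card Q = 243
  hQexp : ∀ a ∈ Q, a ^ 3 = 1
  hQL : Q ≤ L0
  piL : L0 →* SL25
  piL_surj : Function.Surjective piL
  piL_ker : ∀ x : L0, piL x = 1 ↔ (x : G) ∈ Q
  hCQ : Subgroup.centralizer (Q : Set G) ≤ Q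

theorem card_of_surj {H K : Type*} [Group H] [Group K] {N : Subgroup H} (f : H →* K)
    (hf : Function.Surjective f) (hker : ∀ x, f x = 1 ↔ x ∈ N) :
    Nat.card H = Nat.card K * Nat.card N := by
  have : f.ker = N := by ext x; rw [MonoidHom.mem_ker, hker]
  rw [Subgroup.card_eq_card_quotient_mul_card_subgroup f.ker,
    Nat.card_congr (QuotientGroup.quotientKerEquivOfSurjective f hf).toEquiv, this]

theorem card_A6 : Nat.card A6 = 360 := by
  rw [Nat.card_eq_fintype_card, ← Nat.card_eq_fintype_card, nat_card_alternatingGroup, Nat.card_fin]; rfl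

theorem conj_three_cases {G : Type*} [Group G] {z : G} (hz : z ^ 3 = 1) {w : G}
    (hw : w ∈ Subgroup.zpowers z) : w = 1 ∨ w = z ∨ w = z⁻¹ := by
  obtain ⟨k, rfl⟩ := Subgroup.mem_zpowers_iff.mp hw
  rw [show k = 3 * (k / 3) + k % 3 by omega, zpow_add, zpow_mul,
    show z ^ (3 : ℤ) = 1 by exact_mod_cast hz, one_zpow, one_mul]
  rcases (show k % 3 = 0 ∨ k % 3 = 1 ∨ k % 3 = 2 by omega) with e | e | e <;> rw [e]
  · exact Or.inl (zpow_zero z)
  · exact Or.inr (Or.inl (zpow_one z))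
  · refine Or.inr (Or.inr (eq_inv_of_mul_eq_one_left ?_))
    rw [show (2 : ℤ) = ((2 : ℕ) : ℤ) from rfl, zpow_natCast, ← pow_succ, hz]

namespace Hyp

variable {G : Type*} [Group G] [Finite G] (H : Hyp G)

/-- The normalizer of `Z`. -/
def NZ : Subgroup G := Subgroup.normalizer (H.Z : Set G)

/-- The normalizer of `J`. -/
def NJ : Subgroup G := Subgroup.normalizer (H.J : Set G)

theorem three_order {x : G} (hx : x ∈ (H.S : Subgroup G)) : ∃ k : ℕ, orderOf x = 3 ^ k := by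
  haveI : Fact (Nat.Prime 3) := ⟨Nat.prime_three⟩
  obtain ⟨k, hk⟩ := IsPGroup.iff_orderOf.mp H.S.isPGroup' ⟨x, hx⟩
  exact ⟨k, by rw [← hk, Subgroup.orderOf_mk]⟩

theorem L0_le : H.L0 ≤ H.NZ := H.hL0.le.trans ((Subgroup.closure_le _).mpr fun _ h => h.1)

theorem M0_le : H.M0 ≤ H.NJ := H.hM0.le.trans ((Subgroup.closure_le _).mpr fun _ h => h.1)

theorem three_mem_L0 {x : G} (hx : x ∈ H.NZ) (h : ∃ k : ℕ, orderOf x = 3 ^ k) : x ∈ H.L0 := by
  rw [H.hL0]; exact Subgroup.subset_closure ⟨hx, h⟩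

theorem three_mem_M0 {x : G} (hx : x ∈ H.NJ) (h : ∃ k : ℕ, orderOf x = 3 ^ k) : x ∈ H.M0 := by
  rw [H.hM0]; exact Subgroup.subset_closure ⟨hx, h⟩

theorem S_le_NZ : (H.S : Subgroup G) ≤ H.NZ := fun x hx => by
  refine Subgroup.mem_normalizer_iff.mpr fun n => ?_
  have key : ∀ m ∈ H.Z, x * m = m * x := fun m hm => by
    rw [H.hZ] at hm; exact Subgroup.mem_centralizer_iff.mp hm.2 x hx
  constructor
  · intro hn
    rw [key n hn, mul_inv_cancel_right]; exact hn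
  · intro hn
    have e : n = x * n * x⁻¹ := by
      have h := key _ hn
      calc n = x⁻¹ * (x * n * x⁻¹ * x) := by group
        _ = x * n * x⁻¹ := by rw [← h]; group
    rw [e]; exact hn

theorem S_le_L0 : (H.S : Subgroup G) ≤ H.L0 := fun _ hx => H.three_mem_L0 (H.S_le_NZ hx) (H.three_order hx)

theorem card_L0 : Nat.card H.L0 = 29160 := by
  rw [card_of_surj H.piL H.piL_surj (N := H.Q.subgroupOf H.L0) (fun x => by
      rw [H.piL_ker, Subgroup.mem_subgroupOf]),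
    Nat.card_congr (Subgroup.subgroupOfEquivOfLe H.hQL).toEquiv, H.hQcard, Nat.card_eq_fintype_card, card_sl]

theorem card_M0 : Nat.card H.M0 = 29160 := by
  rw [card_of_surj H.piM H.piM_surj (N := H.J.subgroupOf H.M0) (fun x => by
      rw [H.piM_ker, Subgroup.mem_subgroupOf]),
    Nat.card_congr (Subgroup.subgroupOfEquivOfLe H.hJM).toEquiv, H.hJcard, card_A6]

theorem card_S : Nat.card (H.S : Subgroup G) = 729 := by
  haveI : Fact (Nat.Prime 3) := ⟨Nat.prime_three⟩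
  obtain ⟨n, hn⟩ := IsPGroup.iff_card.mp H.S.isPGroup'
  have h1 := Subgroup.card_dvd_of_le H.S_le_L0
  rw [H.card_L0, show 29160 = 3 ^ 6 * 40 by norm_num, hn] at h1
  have h2 : 3 ^ n ∣ 3 ^ 6 := (Nat.Coprime.pow_left n (by norm_num : Nat.Coprime 3 40)).dvd_of_dvd_mul_right h1
  have hg : 3 ^ 6 ∣ Nat.card G := by
    refine dvd_trans ?_ H.M0.card_subgroup_dvd_card
    rw [H.card_M0]; norm_num
  have h3 : 3 ^ 6 ∣ 3 ^ n := by
    rw [← hn]; exact H.S.pow_dvd_card_of_pow_dvd_card hg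
  rw [hn]
  exact Nat.dvd_antisymm h2 h3

theorem Q_le_NZ : H.Q ≤ H.NZ := H.hQ.le.trans (Subgroup.map_subtype_le _)

theorem Q_pgroup : IsPGroup 3 H.Q := IsPGroup.of_card (n := 5) (by rw [H.hQcard]; norm_num)

theorem Q_conj {x : G} (hx : x ∈ H.NZ) {q : G} (hq : q ∈ H.Q) : x * q * x⁻¹ ∈ H.Q := by
  rw [H.hQ] at hq ⊢
  obtain ⟨y, hy, rfl⟩ := hq
  exact ⟨⟨x, hx⟩ * y * ⟨x, hx⟩⁻¹, (Fitting.pCore_normal 3).conj_mem y hy _, rfl⟩

theorem le_Q {K : Subgroup G} (hK : K ≤ H.NZ) (hp : IsPGroup 3 K)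
    (hn : ∀ x ∈ H.NZ, ∀ k ∈ K, x * k * x⁻¹ ∈ K) : K ≤ H.Q := by
  rw [H.hQ]
  intro k hk
  refine ⟨⟨k, hK hk⟩, ?_, rfl⟩
  haveI : (K.subgroupOf H.NZ).Normal := ⟨fun y hy x => hn _ x.2 _ hy⟩
  exact Fitting.le_pCore (N := K.subgroupOf H.NZ) inferInstance
    (hp.of_equiv (Subgroup.subgroupOfEquivOfLe hK).symm) hk

theorem Q_le_S : H.Q ≤ (H.S : Subgroup G) := by
  have hsup : IsPGroup 3 ↥(H.Q ⊔ (H.S : Subgroup G)) :=
    IsPGroup.to_sup_of_normal_left' H.Q_pgroup H.S.isPGroup' fun x hx =>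
      Subgroup.mem_normalizer_iff.mpr fun q => ⟨H.Q_conj (H.S_le_NZ hx), fun h => by
        simpa [mul_assoc] using H.Q_conj (inv_mem (H.S_le_NZ hx)) h⟩
  exact le_sup_left.trans (H.S.is_maximal' hsup le_sup_right).le

theorem Z_le_S : H.Z ≤ (H.S : Subgroup G) := H.hZ.le.trans inf_le_left

theorem Z_comm {m x : G} (hm : m ∈ H.Z) (hx : x ∈ (H.S : Subgroup G)) : x * m = m * x := by
  rw [H.hZ] at hm; exact Subgroup.mem_centralizer_iff.mp hm.2 x hx

theorem Z_le_Q : H.Z ≤ H.Q :=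
  H.le_Q Subgroup.le_normalizer (H.S.isPGroup'.to_le H.Z_le_S) fun _ hx _ hk =>
    (Subgroup.mem_normalizer_iff.mp hx _).mp hk

theorem card_Z : Nat.card H.Z = 3 := by
  haveI : Fact (Nat.Prime 3) := ⟨Nat.prime_three⟩
  have hc := H.hQex.2
  have hle : H.Z ≤ (Subgroup.center H.Q).map H.Q.subtype := fun m hm =>
    ⟨⟨m, H.Z_le_Q hm⟩, Subgroup.mem_center_iff.mpr fun q => Subtype.ext (H.Z_comm hm (H.Q_le_S q.2)), rfl⟩
  have hd := Subgroup.card_dvd_of_le hle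
  rw [Subgroup.card_map_of_injective H.Q.subtype_injective, hc] at hd
  refine ((Nat.dvd_prime Nat.prime_three).mp hd).resolve_left fun h1 => ?_
  haveI : Nontrivial (H.S : Subgroup G) := Finite.one_lt_card_iff_nontrivial.mp (by rw [H.card_S]; norm_num)
  haveI := H.S.isPGroup'.center_nontrivial
  obtain ⟨⟨⟨c, hcS⟩, hcc⟩, hne⟩ := exists_ne (1 : Subgroup.center (H.S : Subgroup G))
  have hcZ : c ∈ H.Z := by
    rw [H.hZ]
    exact ⟨hcS, Subgroup.mem_centralizer_iff.mpr fun x hx =>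
      congrArg Subtype.val (Subgroup.mem_center_iff.mp hcc ⟨x, hx⟩)⟩
  rw [Subgroup.card_eq_one] at h1
  rw [h1, Subgroup.mem_bot] at hcZ
  exact hne (Subtype.ext (Subtype.ext hcZ))

theorem Z_eq_center : H.Z = (Subgroup.center H.Q).map H.Q.subtype := by
  refine Subgroup.eq_of_le_of_card_ge (fun m hm =>
    ⟨⟨m, H.Z_le_Q hm⟩, Subgroup.mem_center_iff.mpr fun q => Subtype.ext (H.Z_comm hm (H.Q_le_S q.2)), rfl⟩) ?_
  rw [Subgroup.card_map_of_injective H.Q.subtype_injective, H.hQex.2, H.card_Z]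

theorem comm_mem_Z {x y : G} (hx : x ∈ H.Q) (hy : y ∈ H.Q) : x * y * x⁻¹ * y⁻¹ ∈ H.Z := by
  rw [H.Z_eq_center, ← H.hQex.1.2.2]
  refine ⟨⁅(⟨x, hx⟩ : H.Q), ⟨y, hy⟩⁆, ?_, rfl⟩
  exact Subgroup.commutator_mem_commutator (Subgroup.mem_top _) (Subgroup.mem_top _)

theorem exists_z : ∃ z : G, z ∈ H.Z ∧ z ^ 3 = 1 ∧ z ≠ 1 ∧ Subgroup.zpowers z = H.Z := by
  haveI : Nontrivial H.Z := Finite.one_lt_card_iff_nontrivial.mp (by rw [H.card_Z]; norm_num)
  obtain ⟨⟨z, hz⟩, hne⟩ := exists_ne (1 : H.Z)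
  have hz1 : z ≠ 1 := fun e => hne (Subtype.ext e)
  have ho : orderOf z = 3 := orderOf_eq_prime (H.hQexp z (H.Z_le_Q hz)) hz1
  refine ⟨z, hz, H.hQexp z (H.Z_le_Q hz), hz1, ?_⟩
  refine Subgroup.eq_of_le_of_card_ge (Subgroup.zpowers_le.mpr hz) ?_
  rw [Nat.card_zpowers, ho, H.card_Z]

/-- A generator of `Z`. -/
noncomputable def z : G := H.exists_z.choose

theorem z_spec : H.z ∈ H.Z ∧ H.z ^ 3 = 1 ∧ H.z ≠ 1 ∧ Subgroup.zpowers H.z = H.Z := H.exists_z.choose_spec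

theorem mem_Z_cases {m : G} (hm : m ∈ H.Z) : m = 1 ∨ m = H.z ∨ m = H.z⁻¹ :=
  conj_three_cases H.z_spec.2.1 (H.z_spec.2.2.2.symm ▸ hm)

theorem Q_abelian_card {B : Subgroup G} (hB : B ≤ H.Q) (hc : ∀ x ∈ B, ∀ y ∈ B, x * y = y * x) :
    Nat.card B ≤ 27 := by
  haveI : Fact (Nat.Prime 3) := ⟨Nat.prime_three⟩
  obtain ⟨n, hn⟩ := IsPGroup.iff_card.mp (H.Q_pgroup.to_le hB)
  have h := Subgroup.card_dvd_of_le hB
  rw [H.hQcard, hn, show (243 : ℕ) = 3 ^ 5 by norm_num, Nat.pow_dvd_pow_iff_le_right (by norm_num)] at h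
  rw [hn, show (27 : ℕ) = 3 ^ 3 by norm_num]
  refine Nat.pow_le_pow_right (by norm_num) ?_
  by_contra hlt
  push Not at hlt
  have hcm : IsMulCommutative (B.subgroupOf H.Q) :=
    ⟨⟨fun a b => Subtype.ext (Subtype.ext (hc _ a.2 _ b.2))⟩⟩
  have hi := (B.subgroupOf H.Q).card_mul_index
  rw [Nat.card_congr (Subgroup.subgroupOfEquivOfLe hB).toEquiv, hn, H.hQcard] at hi
  rcases (show n = 4 ∨ n = 5 by omega) with rfl | rfl
  · have hi3 : (B.subgroupOf H.Q).index = 3 := by norm_num at hi; omega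
    have := Extraspecial.card_le_of_abelian H.hQex (B.subgroupOf H.Q) hcm hi3
    rw [H.hQcard] at this; norm_num at this
  · have hi1 : (B.subgroupOf H.Q).index = 1 :=
      Nat.eq_of_mul_eq_mul_left (show 0 < 3 ^ 5 by norm_num) (by rw [hi]; rfl)
    have htop := Subgroup.index_eq_one.mp hi1
    have hcen : Subgroup.center H.Q = ⊤ := by
      rw [eq_top_iff]; intro a _
      refine Subgroup.mem_center_iff.mpr fun b => Subtype.ext ?_
      have ha : (a : G) ∈ B := Subgroup.mem_subgroupOf.mp (htop ▸ Subgroup.mem_top a)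
      have hb : (b : G) ∈ B := Subgroup.mem_subgroupOf.mp (htop ▸ Subgroup.mem_top b)
      exact hc _ hb _ ha
    have := H.hQex.2
    rw [hcen, Subgroup.card_top, H.hQcard] at this
    norm_num at this

/-- The intersection of `J` and `Q`. -/
def A : Subgroup G := H.J ⊓ H.Q

theorem A_le_Q : H.A ≤ H.Q := inf_le_right
theorem A_le_J : H.A ≤ H.J := inf_le_left

theorem J_not_le : ¬ H.J ≤ H.Q := fun h => by
  have := H.Q_abelian_card h H.hJc
  rw [H.hJcard] at this; norm_num at this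

theorem card_A : Nat.card H.A = 27 := by
  have hi := (H.Q.subgroupOf (H.S : Subgroup G)).card_mul_index
  rw [Nat.card_congr (Subgroup.subgroupOfEquivOfLe H.Q_le_S).toEquiv, H.hQcard, H.card_S] at hi
  have h3 : H.Q.relIndex (H.S : Subgroup G) = 3 := by
    show (H.Q.subgroupOf (H.S : Subgroup G)).index = 3; omega
  have h1 : H.Q.relIndex H.J ≤ 3 :=
    h3 ▸ Subgroup.relIndex_le_of_le_right H.hJS (by rw [h3]; norm_num)
  have h2 := (H.Q.subgroupOf H.J).card_mul_index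
  have e : Nat.card (H.Q.subgroupOf H.J) = Nat.card H.A := by
    rw [← Subgroup.card_map_of_injective H.J.subtype_injective, Subgroup.subgroupOf_map_subtype, inf_comm]; rfl
  rw [e, H.hJcard] at h2
  have h5 := H.Q_abelian_card H.A_le_Q fun x hx y hy => H.hJc x (H.A_le_J hx) y (H.A_le_J hy)
  change (H.Q.subgroupOf H.J).index ≤ 3 at h1
  rcases (show (H.Q.subgroupOf H.J).index = 0 ∨ (H.Q.subgroupOf H.J).index = 1 ∨
    (H.Q.subgroupOf H.J).index = 2 ∨ (H.Q.subgroupOf H.J).index = 3 by omega) with e1 | e1 | e1 | e1 <;>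
    rw [e1] at h2 <;> omega

theorem Z_le_A : H.Z ≤ H.A := by
  intro m hm
  by_contra hmA
  have hB : H.A ⊔ H.Z ≤ H.Q := sup_le H.A_le_Q H.Z_le_Q
  have hc : ∀ x ∈ H.A ⊔ H.Z, ∀ y ∈ H.A ⊔ H.Z, x * y = y * x := by
    have hAS : ∀ a ∈ H.A, a ∈ (H.S : Subgroup G) := fun a ha => H.hJS (H.A_le_J ha)
    haveI : IsMulCommutative ↥(Subgroup.closure ((H.A : Set G) ∪ H.Z)) :=
      Subgroup.isMulCommutative_closure (by
        rintro x (hx | hx) y (hy | hy)
        · exact H.hJc x (H.A_le_J hx) y (H.A_le_J hy)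
        · exact H.Z_comm hy (hAS x hx)
        · exact (H.Z_comm hx (hAS y hy)).symm
        · exact H.Z_comm hy (H.Z_le_S hx))
    intro x hx y hy
    rw [Subgroup.sup_eq_closure] at hx hy
    exact congrArg Subtype.val (mul_comm' (⟨x, hx⟩ : Subgroup.closure ((H.A : Set G) ∪ H.Z)) ⟨y, hy⟩)
  have := H.Q_abelian_card hB hc
  have hlt : H.A < H.A ⊔ H.Z := lt_of_le_of_ne le_sup_left fun e => hmA (e ▸ Subgroup.mem_sup_right hm)
  have hlt' := Subgroup.eq_of_le_of_card_ge (le_sup_left : H.A ≤ H.A ⊔ H.Z) (by rw [H.card_A]; exact this)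
  exact hlt.ne hlt'

theorem Z_le_J : H.Z ≤ H.J := H.Z_le_A.trans H.A_le_J

theorem cent_A {q : G} (hq : q ∈ H.Q) (hc : ∀ a ∈ H.A, q * a = a * q) : q ∈ H.A := by
  by_contra hqA
  haveI : IsMulCommutative ↥(Subgroup.closure ((H.A : Set G) ∪ {q})) :=
    Subgroup.isMulCommutative_closure (by
      rintro x (hx | rfl) y (hy | rfl)
      · exact H.hJc x (H.A_le_J hx) y (H.A_le_J hy)
      · exact (hc x hx).symm
      · exact hc y hy
      · rfl)
  set B := Subgroup.closure ((H.A : Set G) ∪ {q})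
  have hAB : H.A ≤ B := fun a ha => Subgroup.subset_closure (Or.inl ha)
  have hB : B ≤ H.Q := (Subgroup.closure_le _).mpr (by rintro x (hx | rfl); exacts [H.A_le_Q hx, hq])
  have := H.Q_abelian_card hB fun x hx y hy => congrArg Subtype.val (mul_comm' (⟨x, hx⟩ : B) ⟨y, hy⟩)
  have e := Subgroup.eq_of_le_of_card_ge hAB (by rw [H.card_A]; exact this)
  exact hqA (e ▸ Subgroup.subset_closure (Or.inr rfl))

theorem cent_Q {x : G} (hx : ∀ q ∈ H.Q, q * x = x * q) : x ∈ H.Q :=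
  H.hCQ (Subgroup.mem_centralizer_iff.mpr hx)

end Hyp

end CfsgLib.McLThree
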