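import Cfsg.Agent.Lib.McLThree.Local

/-!
# Centralizers of the nonsingular elements fixed by the involution
-/

set_option autoImplicit false
set_option linter.unusedSectionVars false
set_option maxRecDepth 20000
set_option synthInstance.maxSize 4000
set_option synthInstance.maxHeartbeats 400000

namespace CfsgLib.McLThree

theorem q0_pieces : q0 = eZ + -eB := by decide

theorem mixed_lines : ∀ i j : ZMod 3, i ≠ 0 → j ≠ 0 → ((i, 0, 0, j) : V4) = q0 ∨ ((i, 0, 0, j) : V4) = -q0 ∨
    ((i, 0, 0, j) : V4) = eZ + eB ∨ ((i, 0, 0, j) : V4) = -(eZ + eB) := by decide +kernel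

namespace Data

variable {G : Type*} [Group G] [Finite G] {H : Hyp G} (D : Data H)

theorem cent_y (i j : ZMod 3) (hi : i ≠ 0) (hj : j ≠ 0) {x : G}
    (hx : x * D.F.φ (i, 0, 0, j) = D.F.φ (i, 0, 0, j) * x) : x ∈ H.NJ := by
  have neg : ∀ v : V4, x * D.F.φ (-v) = D.F.φ (-v) * x → x * D.F.φ v = D.F.φ v * x := fun v h => by
    rw [D.F.map_neg'] at h
    exact (Commute.inv_right_iff.mp h).eq
  obtain ⟨k, -, hk, hkZ, hkB⟩ := D.exists_b_inverter
  have hsum : D.F.act hk q0 = eZ + eB := by rw [q0_pieces, map_add, map_neg, hkZ, hkB, neg_neg]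
  have other : x * D.F.φ (eZ + eB) = D.F.φ (eZ + eB) * x → x ∈ H.NJ := fun h => by
    have e : D.F.φ q0 = k⁻¹ * D.F.φ (eZ + eB) * k := by rw [← hsum, D.F.act_spec]; group
    have hc := D.cent_q0 (x := k⁻¹ * x * k) (by
      rw [e]
      calc k⁻¹ * x * k * (k⁻¹ * D.F.φ (eZ + eB) * k) = k⁻¹ * (x * D.F.φ (eZ + eB)) * k := by group
        _ = k⁻¹ * (D.F.φ (eZ + eB) * x) * k := by rw [h]
        _ = _ := by group)
    have := mul_mem (mul_mem hk hc) (inv_mem hk)
    rwa [show k * (k⁻¹ * x * k) * k⁻¹ = x by group] at this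
  rcases mixed_lines i j hi hj with e | e | e | e <;> rw [e] at hx
  · exact D.cent_q0 hx
  · exact D.cent_q0 (neg _ hx)
  · exact other hx
  · exact other (neg _ hx)

end Data

end CfsgLib.McLThree
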