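import Mathlib

/-!
# Linear algebra of a four dimensional quadratic space over the field of three elements

Coordinates `(i, u₁, u₂, k)`, quadratic form `i k + u₁² + u₂²`, translations `tr`.
-/

set_option autoImplicit false
set_option maxRecDepth 20000
set_option synthInstance.maxSize 4000
set_option synthInstance.maxHeartbeats 400000
set_option maxHeartbeats 1000000

namespace CfsgLib.McLThree

/-- The coordinate space. -/
abbrev V4 := ZMod 3 × ZMod 3 × ZMod 3 × ZMod 3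

def eZ : V4 := (1, 0, 0, 0)
def eA : V4 := (0, 1, 0, 0)
def eC : V4 := (0, 0, 1, 0)
def eB : V4 := (0, 0, 0, 1)

/-- The quadratic form. -/
def qf (v : V4) : ZMod 3 := v.1 * v.2.2.2 + v.2.1 * v.2.1 + v.2.2.1 * v.2.2.1

/-- Translation by `w`, for the parameter `δ`. -/
def tr (δ : ZMod 3) (w : ZMod 3 × ZMod 3) (v : V4) : V4 :=
  (v.1 + w.1 * v.2.1 + δ * w.2 * v.2.2.1 - v.2.2.2 * (w.1 * w.1 + δ * (w.2 * w.2)),
    v.2.1 + v.2.2.2 * w.1, v.2.2.1 + v.2.2.2 * w.2, v.2.2.2)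

/-- Interchange of the first and last coordinates. -/
def sw : V4 →+ V4 where
  toFun v := (v.2.2.2, v.2.1, v.2.2.1, v.1)
  map_zero' := rfl
  map_add' _ _ := rfl

theorem tr_add (δ : ZMod 3) (w : ZMod 3 × ZMod 3) (v v' : V4) : tr δ w (v + v') = tr δ w v + tr δ w v' := by
  simp only [tr, Prod.fst_add, Prod.snd_add, Prod.mk_add_mk, Prod.mk.injEq]
  refine ⟨by ring, by ring, by ring, trivial⟩

/-- Translation as an additive map. -/
def trHom (δ : ZMod 3) (w : ZMod 3 × ZMod 3) : V4 →+ V4 := AddMonoidHom.mk' (tr δ w) (tr_add δ w)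

theorem tr_facts : ∀ w : ZMod 3 × ZMod 3, ∀ v : V4,
    qf (tr 1 w v) = qf v ∧ tr 1 (-w) (tr 1 w v) = v ∧ tr 1 w (tr 1 (-w) v) = v := by decide +kernel

theorem sw_facts : ∀ v : V4, qf (sw v) = qf v ∧ sw (sw v) = v := by decide +kernel

theorem tr_eZ : ∀ δ : ZMod 3, ∀ w, tr δ w eZ = eZ := by decide +kernel

/-- The zero set, through the translations. -/
theorem zeros_iff : ∀ v : V4, v ≠ 0 → (qf v = 0 ↔
    (v = eZ ∨ v = -eZ ∨ ∃ w : ZMod 3 × ZMod 3, v = tr 1 w eB ∨ v = -tr 1 w eB)) := by decide +kernel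

/-- With the other parameter, three conjugates of the last line are collinear. -/
theorem delta_two : tr 2 (1, 1) eB + tr 2 (2, 2) eB = eB + eB ∧ tr 2 (1, 1) eB ≠ eB ∧
    tr 2 (2, 2) eB ≠ eB ∧ tr 2 (1, 1) eB ≠ -eB ∧ tr 2 (2, 2) eB ≠ -eB := by decide +kernel

/-- The signed translates of the last line. -/
def signedB : List V4 :=
  ([(0, 0), (0, 1), (0, 2), (1, 0), (1, 1), (1, 2), (2, 0), (2, 1), (2, 2)] : List (ZMod 3 × ZMod 3)).flatMap
    fun w => [tr 2 w eB, -tr 2 w eB]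

theorem mem_signedB : ∀ w : ZMod 3 × ZMod 3, tr 2 w eB ∈ signedB ∧ -tr 2 w eB ∈ signedB := by decide +kernel

theorem delta_two_pairs : ∀ x ∈ signedB, ∀ y ∈ signedB, x + y ≠ eZ + eZ ∧ x + y ≠ -(eZ + eZ) := by
  decide +kernel

/-- The line test for one vector of the middle plane. -/
theorem line_stage : ∀ a b : ZMod 3, a ≠ 0 → b ≠ 0 → ∀ c : ZMod 3, c ≠ 0 → ∀ w : V4,
    (∀ m k : ZMod 3, m * k + c = 0 → qf ((m * a, 0, 0, k * b) + w) = 0) →
    (∀ m k : ZMod 3, m * k + c ≠ 0 → qf ((m * a, 0, 0, k * b) + w) ≠ 0) →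
    w.1 = 0 ∧ w.2.2.2 = 0 ∧ w.2.1 * w.2.1 + w.2.2.1 * w.2.2.1 = a * b * c := by decide +kernel

/-- Assembling a similitude. -/
theorem assemble : ∀ a b : ZMod 3, a ≠ 0 → b ≠ 0 → ∀ p q r s : ZMod 3,
    p * p + q * q = a * b → r * r + s * s = a * b →
    (p + r) * (p + r) + (q + s) * (q + s) = a * b * 2 → ∀ v : V4,
    qf (v.1 * a, v.2.1 * p + v.2.2.1 * r, v.2.1 * q + v.2.2.1 * s, v.2.2.2 * b) = a * b * qf v := by
  decide +kernel

theorem zmod_ne_zero : ∀ a : ZMod 3, a ≠ 0 → a = 1 ∨ a = 2 := by decide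

theorem vec_decomp : ∀ v : V4, v = v.1.val • eZ + v.2.1.val • eA + v.2.2.1.val • eC + v.2.2.2.val • eB := by
  decide +kernel

theorem smul_eval : ∀ v : V4, ∀ a : ZMod 3, a.val • v = (a * v.1, a * v.2.1, a * v.2.2.1, a * v.2.2.2) := by
  decide +kernel

/-- An additive map fixing the two distinguished lines and the zero set is a similitude. -/
theorem sim_lines {L : V4 →+ V4} (h0 : ∀ v, qf v = 0 ↔ qf (L v) = 0) {a b : ZMod 3} (ha : a ≠ 0)
    (hb : b ≠ 0) (hz : L eZ = (a, 0, 0, 0)) (hB : L eB = (0, 0, 0, b)) :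
    ∃ p q r s : ZMod 3, L eA = (0, p, q, 0) ∧ L eC = (0, r, s, 0) ∧ p * p + q * q = a * b ∧
      r * r + s * s = a * b ∧ (p + r) * (p + r) + (q + s) * (q + s) = a * b * 2 ∧
      ∀ v, qf (L v) = a * b * qf v := by
  have key : ∀ u1 u2 : ZMod 3, u1 * u1 + u2 * u2 ≠ 0 → (L (0, u1, u2, 0)).1 = 0 ∧
      (L (0, u1, u2, 0)).2.2.2 = 0 ∧ (L (0, u1, u2, 0)).2.1 * (L (0, u1, u2, 0)).2.1 +
        (L (0, u1, u2, 0)).2.2.1 * (L (0, u1, u2, 0)).2.2.1 = a * b * (u1 * u1 + u2 * u2) := by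
    intro u1 u2 hc
    have e : ∀ m k : ZMod 3, L (m, u1, u2, k) = (m * a, 0, 0, k * b) + L (0, u1, u2, 0) := by
      intro m k
      have h1 : ((m, u1, u2, k) : V4) = (m.val • eZ + k.val • eB) + (0, u1, u2, 0) := by
        simp [smul_eval, eZ, eB]
      rw [h1, map_add, map_add, map_nsmul, map_nsmul, hz, hB]
      simp [smul_eval]
    refine line_stage a b ha hb _ hc _ (fun m k h => ?_) fun m k h => ?_
    · rw [← e, ← h0]; simpa [qf, add_assoc] using h
    · rw [← e, Ne, ← h0]; simpa [qf, add_assoc] using h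
  obtain ⟨a1, a4, an⟩ := key 1 0 (by decide)
  obtain ⟨c1, c4, cn⟩ := key 0 1 (by decide)
  obtain ⟨-, -, dn⟩ := key 1 1 (by decide)
  have hsum : L (0, 1, 1, 0) = L eA + L eC := by
    rw [← map_add]; rfl
  set A := L eA with hA
  set C := L eC with hC
  change A.1 = 0 at a1
  change A.2.2.2 = 0 at a4
  change C.1 = 0 at c1
  change C.2.2.2 = 0 at c4
  change A.2.1 * A.2.1 + A.2.2.1 * A.2.2.1 = _ at an
  change C.2.1 * C.2.1 + C.2.2.1 * C.2.2.1 = _ at cn
  rw [hsum] at dn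
  simp only [Prod.fst_add, Prod.snd_add] at dn
  have an' : A.2.1 * A.2.1 + A.2.2.1 * A.2.2.1 = a * b := by simpa using an
  have cn' : C.2.1 * C.2.1 + C.2.2.1 * C.2.2.1 = a * b := by simpa using cn
  have dn' : (A.2.1 + C.2.1) * (A.2.1 + C.2.1) + (A.2.2.1 + C.2.2.1) * (A.2.2.1 + C.2.2.1) = a * b * 2 := by
    rw [dn]; norm_num
  have hAe : A = (0, A.2.1, A.2.2.1, 0) := Prod.ext a1 (Prod.ext rfl (Prod.ext rfl a4))
  have hCe : C = (0, C.2.1, C.2.2.1, 0) := Prod.ext c1 (Prod.ext rfl (Prod.ext rfl c4))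
  refine ⟨_, _, _, _, hAe, hCe, an', cn', dn', fun v => ?_⟩
  rw [← assemble a b ha hb _ _ _ _ an' cn' dn' v]
  congr 1
  conv_lhs => rw [vec_decomp v]
  rw [map_add, map_add, map_add, map_nsmul, map_nsmul, map_nsmul, map_nsmul, hz, hB, ← hA, ← hC, hAe, hCe]
  simp [smul_eval, mul_comm]

theorem pm_eZ : ∀ v : V4, v = eZ ∨ v = -eZ → ∃ a : ZMod 3, a ≠ 0 ∧ v = (a, 0, 0, 0) := by decide +kernel

theorem pm_eB : ∀ v : V4, v = eB ∨ v = -eB → ∃ b : ZMod 3, b ≠ 0 ∧ v = (0, 0, 0, b) := by decide +kernel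

theorem tr_neg : ∀ w, ∀ v : V4, tr 1 w (-v) = -tr 1 w v := by decide +kernel

/-- An additive map preserving the zero set and fixing the first line is a similitude. -/
theorem sim_first {L : V4 →+ V4} (hinj : Function.Injective L) (h0 : ∀ v, qf v = 0 ↔ qf (L v) = 0)
    (hz : L eZ = eZ ∨ L eZ = -eZ) : ∃ μ : ZMod 3, μ ≠ 0 ∧ ∀ v, qf (L v) = μ * qf v := by
  have hB : qf (L eB) = 0 := (h0 eB).1 (by decide)
  have hne : L eB ≠ 0 := fun e => by
    have := hinj (e.trans (map_zero L).symm); exact absurd this (by decide)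
  obtain ⟨w, hw⟩ : ∃ w, L eB = tr 1 w eB ∨ L eB = -tr 1 w eB := by
    rcases (zeros_iff _ hne).1 hB with h | h | h
    · rcases hz with e | e
      · exact absurd (hinj (h.trans e.symm)) (by decide)
      · have : L eB = L (-eZ) := by rw [map_neg, e, neg_neg, h]
        exact absurd (hinj this) (by decide)
    · rcases hz with e | e
      · have : L eB = L (-eZ) := by rw [map_neg, e, h]
        exact absurd (hinj this) (by decide)
      · exact absurd (hinj (h.trans e.symm)) (by decide)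
    · exact h
  let L' : V4 →+ V4 := (trHom 1 (-w)).comp L
  have hL' : ∀ v, L' v = tr 1 (-w) (L v) := fun _ => rfl
  obtain ⟨a, ha, hza⟩ := pm_eZ (L' eZ) (by
    rw [hL']; rcases hz with e | e <;> rw [e]
    · exact Or.inl (tr_eZ _ _)
    · exact Or.inr (by rw [tr_neg, tr_eZ]))
  obtain ⟨b, hb, hBb⟩ := pm_eB (L' eB) (by
    rw [hL']; rcases hw with e | e <;> rw [e]
    · exact Or.inl (tr_facts w eB).2.1
    · exact Or.inr (by rw [tr_neg, (tr_facts w eB).2.1]))
  obtain ⟨p, q, r, s, -, -, -, -, -, h⟩ := sim_lines (L := L') (a := a) (b := b)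
    (fun v => by rw [hL', (tr_facts (-w) _).1]; exact h0 v) ha hb hza hBb
  exact ⟨a * b, mul_ne_zero ha hb, fun v => by rw [← h v, hL', (tr_facts (-w) _).1]⟩

/-- An injective additive map preserving the zero set is a similitude. -/
theorem sim {L : V4 →+ V4} (hinj : Function.Injective L) (h0 : ∀ v, qf v = 0 ↔ qf (L v) = 0) :
    ∃ μ : ZMod 3, μ ≠ 0 ∧ ∀ v, qf (L v) = μ * qf v := by
  have hne : L eZ ≠ 0 := fun e => by
    have := hinj (e.trans (map_zero L).symm); exact absurd this (by decide)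
  rcases (zeros_iff _ hne).1 ((h0 eZ).1 (by decide)) with h | h | ⟨w, h⟩
  · exact sim_first hinj h0 (Or.inl h)
  · exact sim_first hinj h0 (Or.inr h)
  · let L' : V4 →+ V4 := sw.comp ((trHom 1 (-w)).comp L)
    have hL' : ∀ v, L' v = sw (tr 1 (-w) (L v)) := fun _ => rfl
    have hq : ∀ v, qf (L' v) = qf (L v) := fun v => by
      rw [hL', (sw_facts _).1, (tr_facts (-w) _).1]
    obtain ⟨μ, hμ, hs⟩ := sim_first (L := L')
      (fun x y e => by
        rw [hL', hL'] at e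
        have e1 := congrArg sw e
        rw [(sw_facts _).2, (sw_facts _).2] at e1
        have e2 := congrArg (tr 1 w) e1
        rw [(tr_facts w _).2.2, (tr_facts w _).2.2] at e2
        exact hinj e2)
      (fun v => by rw [hq]; exact h0 v)
      (by
        rw [hL']
        rcases h with e | e <;> rw [e]
        · exact Or.inl (by rw [(tr_facts w eB).2.1]; rfl)
        · exact Or.inr (by rw [tr_neg, (tr_facts w eB).2.1]; rfl))
    exact ⟨μ, hμ, fun v => by rw [← hs v, hq]⟩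

end CfsgLib.McLThree
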