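import Cfsg.Agent.Lib.McLThree.Kin
import Cfsg.Agent.Lib.McLThree.Lin

/-!
# Coordinates on `J`
-/

set_option autoImplicit false
set_option linter.unusedSectionVars false

namespace CfsgLib.McLThree

/-- The action of the central involution in coordinates. -/
def tauV (v : V4) : V4 := (v.1, -v.2.1, -v.2.2.1, v.2.2.2)

theorem pow_val_add {G : Type*} [Group G] {x : G} (hx : x ^ 3 = 1) (a b : ZMod 3) :
    x ^ (a + b).val = x ^ a.val * x ^ b.val := by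
  rw [ZMod.val_add, ← pow_eq_pow_mod _ hx, pow_add]

/-- Coordinates on `J`. -/
structure Frame {G : Type*} [Group G] [Finite G] (H : Hyp G) (δ : ZMod 3) where
  φ : V4 → G
  map_add : ∀ v v', φ (v + v') = φ v * φ v'
  inj : Function.Injective φ
  mem : ∀ v, φ v ∈ H.J
  surj : ∀ j ∈ H.J, ∃ v, φ v = j
  map_z : φ eZ = H.z
  t_act : ∀ v, H.t * φ v * H.t = φ (tauV v)
  trans : ∀ w, ∃ q ∈ (H.S : Subgroup G), ∀ v, q * φ v * q⁻¹ = φ (tr δ w v)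
  mem_Q : ∀ v, φ v ∈ H.Q ↔ v.2.2.2 = 0

namespace Hyp

variable {G : Type*} [Group G] [Finite G] (H : Hyp G)

theorem exists_inverted {q : G} (hq : q ∈ H.Q) :
    ∃ q', q' ∈ H.Q ∧ H.t * q' * H.t = q'⁻¹ ∧ q⁻¹ * q' ∈ H.Z := by
  have hm := H.t_Q_inv hq
  set m := H.t * q * H.t * q with hm'
  refine ⟨q * m, mul_mem hq (H.Z_le_Q hm), eq_inv_of_mul_eq_one_left ?_, by simpa using hm⟩
  calc H.t * (q * m) * H.t * (q * m) = (H.t * q) * (m * H.t) * (q * m) := by group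
    _ = (H.t * q * H.t) * (m * q) * m := by rw [← H.t_comm_Z hm]; group
    _ = (H.t * q * H.t * q) * (m * m) := by rw [← H.Z_comm hm (H.Q_le_S hq)]; group
    _ = m ^ 3 := by rw [← hm', pow_succ', pow_two]
    _ = 1 := H.hQexp _ (H.Z_le_Q hm)

theorem inverted_Z {m : G} (hm : m ∈ H.Z) (h : H.t * m * H.t = m⁻¹) : m = 1 := by
  rw [H.t_Z hm, eq_inv_iff_mul_eq_one] at h
  have := H.hQexp m (H.Z_le_Q hm)
  rwa [pow_succ, pow_two, h, one_mul] at this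

theorem exists_b : ∃ b, b ∈ H.J ∧ b ∉ H.Q ∧ H.t * b * H.t = b := by
  obtain ⟨j, hj, hjQ⟩ := SetLike.not_le_iff_exists.mp H.J_not_le
  have htj : H.t * j * H.t ∈ H.J := by
    have := (Subgroup.mem_normalizer_iff.mp H.t_NJ j).mp hj
    rwa [H.t_inv] at this
  refine ⟨j * (H.t * j * H.t), mul_mem hj htj, fun h => hjQ ?_, ?_⟩
  · have hc := H.t_comm (H.S_le_L0 (H.hJS hj))
    have h2 : j * j ∈ H.Q := by
      have h1 := mul_mem (inv_mem hc) (show H.t * j * H.t * j ∈ H.Q by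
        rw [H.hJc _ htj _ hj]; exact h)
      rwa [show (H.t * j * H.t * j⁻¹)⁻¹ * (H.t * j * H.t * j) = j * j by group] at h1
    have : j = (j * j) ^ 2 := by
      rw [← pow_two, ← pow_mul, show 2 * 2 = 3 + 1 from rfl, pow_succ, H.hJexp j hj, one_mul]
    rw [this]; exact pow_mem h2 2
  · rw [H.hJc _ hj _ htj]
    calc H.t * (H.t * j * H.t * j) * H.t = (H.t * H.t) * j * H.t * j * H.t := by group
      _ = j * (H.t * j * H.t) := by rw [H.t_sq]; group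
      _ = _ := H.hJc _ hj _ htj

/-- The shift of `b` by an inverted element of `Q`. -/
theorem shift {b : G} (hb : b ∈ H.J) (htb : H.t * b * H.t = b) {q : G} (hq : q ∈ H.Q)
    (htq : H.t * q * H.t = q⁻¹) :
    ∃ α, α ∈ H.A ∧ H.t * α * H.t = α⁻¹ ∧ q * α * q⁻¹ * α⁻¹ ∈ H.Z ∧
      q * b * q⁻¹ = α * (q * α * q⁻¹ * α⁻¹)⁻¹ * b := by
  obtain ⟨d, hd⟩ : ∃ d, d = q * b * q⁻¹ * b⁻¹ := ⟨_, rfl⟩
  have hdA := H.J_Q_comm hq hb
  rw [← hd] at hdA
  have hm := H.t_Q_inv (H.A_le_Q hdA)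
  set m := H.t * d * H.t * d with hm'
  have hmd : m * d = d * m := H.hJc m (H.Z_le_J hm) d (H.A_le_J hdA)
  set α := d * m with hα
  have hαA : α ∈ H.A := mul_mem hdA (H.Z_le_A hm)
  have htd : H.t * d * H.t = m * d⁻¹ := by rw [hm']; group
  have htα : H.t * α * H.t = α⁻¹ := by
    rw [hα, show H.t * (d * m) * H.t = H.t * d * (m * H.t) by group, ← H.t_comm_Z hm,
      show H.t * d * (H.t * m) = (H.t * d * H.t) * m by group, htd, mul_inv_rev]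
    have h3 : m * m = m⁻¹ := eq_inv_of_mul_eq_one_left (by
      have := H.hQexp m (H.Z_le_Q hm); rwa [pow_succ, pow_two] at this)
    have hc : Commute d⁻¹ m := (show Commute d m from hmd.symm).inv_left
    rw [mul_assoc, hc.eq, ← mul_assoc, h3]
  set B := q * α * q⁻¹ * α⁻¹ with hB
  have hBZ : B ∈ H.Z := H.comm_mem_Z hq (H.A_le_Q hαA)
  refine ⟨α, hαA, htα, hBZ, ?_⟩
  have hqB : q * α⁻¹ * q⁻¹ = α⁻¹ * B⁻¹ := by rw [hB]; group
  have e1 : q⁻¹ * b * q = H.t * d * H.t * b := by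
    calc q⁻¹ * b * q = (H.t * q * H.t) * (H.t * b * H.t) * (H.t * q * H.t)⁻¹ := by
          rw [htq, htb]; group
      _ = H.t * (q * b * q⁻¹) * H.t := by
          simp only [mul_inv_rev, H.t_inv]
          calc H.t * q * H.t * (H.t * b * H.t) * (H.t * (q⁻¹ * H.t))
              = H.t * q * (H.t * H.t) * b * (H.t * H.t) * q⁻¹ * H.t := by group
            _ = _ := by rw [H.t_sq]; group
      _ = (H.t * d * H.t) * (H.t * b * H.t) := by
          rw [hd]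
          calc _ = H.t * (q * b * q⁻¹ * b⁻¹) * 1 * b * H.t := by group
            _ = _ := by rw [← H.t_sq]; group
      _ = _ := by rw [htb]
  have hBm : B = m := by
    have e2 : b = q * (H.t * d * H.t) * q⁻¹ * (d * b) := by
      calc b = q * (q⁻¹ * b * q) * q⁻¹ := by group
        _ = q * (H.t * d * H.t) * q⁻¹ * (q * b * q⁻¹) := by rw [e1]; group
        _ = _ := by rw [hd]; group
    have hdd : H.t * d * H.t = m * m * α⁻¹ := by
      rw [htd, hα, mul_inv_rev]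
      calc m * d⁻¹ = m * (m * (m⁻¹ * d⁻¹)) := by group
        _ = _ := by group
    rw [hdd] at e2
    have e3 : q * (m * m * α⁻¹) * q⁻¹ = m * m * (α⁻¹ * B⁻¹) := by
      rw [← hqB]
      have := H.Z_comm (mul_mem hm hm) (H.Q_le_S hq)
      calc q * (m * m * α⁻¹) * q⁻¹ = (q * (m * m)) * α⁻¹ * q⁻¹ := by group
        _ = _ := by rw [this]; group
    rw [e3, ← mul_assoc _ d b] at e2
    have e4 : m * m * (α⁻¹ * B⁻¹) * d = 1 := mul_eq_right.mp e2.symm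
    have hBJ : B⁻¹ * d = d * B⁻¹ := H.hJc _ (inv_mem (H.Z_le_J hBZ)) _ (H.A_le_J hdA)
    have e5 : m * B⁻¹ = 1 := by
      calc m * B⁻¹ = m * m * ((d * m)⁻¹ * d) * B⁻¹ := by group
        _ = m * m * ((d * m)⁻¹ * (d * B⁻¹)) := by group
        _ = _ := by rw [← hBJ, ← hα, ← mul_assoc (α⁻¹), ← mul_assoc]; exact e4
    exact (mul_inv_eq_one.mp e5).symm
  rw [show q * α * q⁻¹ * α⁻¹ = m from hBm, hα, hd]; group

theorem card_sup_zpowers {q : G} (hq : q ∈ H.Q) : Nat.card ↥(H.A ⊔ Subgroup.zpowers q) ≤ 81 := by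
  have hn : Subgroup.zpowers q ≤ Subgroup.normalizer (H.A : Set G) := by
    rw [Subgroup.zpowers_le]
    have key : ∀ q ∈ H.Q, ∀ a ∈ H.A, q * a * q⁻¹ ∈ H.A := fun q hq a ha => by
      obtain ⟨m, hm, e⟩ := H.comm_Z_conj hq (H.A_le_Q ha)
      rw [e]; exact mul_mem (H.Z_le_A hm) ha
    exact Subgroup.mem_normalizer_iff.mpr fun a => ⟨key q hq a, fun h => by
      simpa [mul_assoc] using key q⁻¹ (inv_mem hq) _ h⟩
  let f : H.A × Subgroup.zpowers q → ↥(H.A ⊔ Subgroup.zpowers q) := fun p =>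
    ⟨p.1 * p.2, Subgroup.mul_mem_sup p.1.2 p.2.2⟩
  have hf : Function.Surjective f := by
    rintro ⟨x, hx⟩
    rw [← SetLike.mem_coe, Subgroup.coe_mul_of_right_le_normalizer_left _ _ hn] at hx
    obtain ⟨a, ha, y, hy, rfl⟩ := hx
    exact ⟨(⟨a, ha⟩, ⟨y, hy⟩), rfl⟩
  refine (Nat.card_le_card_of_surjective f hf).trans ?_
  rw [Nat.card_prod, H.card_A, Nat.card_zpowers]
  have := Nat.le_of_dvd (by norm_num) (orderOf_dvd_of_pow_eq_one (H.hQexp q hq))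
  omega

theorem commute_Q {x q1 q2 : G} (hq1 : q1 ∈ H.Q) (hq2 : q2 ∈ H.Q) (h : q2 ∉ H.A ⊔ Subgroup.zpowers q1)
    (hq1A : q1 ∉ H.A) (hx : x ∈ H.A) (h1 : q1 * x = x * q1) (h2 : q2 * x = x * q2) : x ∈ H.Z := by
  haveI : Fact (Nat.Prime 3) := ⟨Nat.prime_three⟩
  set C := H.Q ⊓ Subgroup.centralizer {x}
  have hm : ∀ {y : G}, y ∈ H.Q → y * x = x * y → y ∈ C := fun hy he =>
    ⟨hy, Subgroup.mem_centralizer_singleton_iff.mpr he⟩
  set B := H.A ⊔ Subgroup.zpowers q1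
  have hBC : B ≤ C := sup_le (fun a ha => hm (H.A_le_Q ha) (H.hJc a (H.A_le_J ha) x (H.A_le_J hx)))
    (Subgroup.zpowers_le.mpr (hm hq1 h1))
  have hC : C = H.Q := by
    refine Subgroup.eq_of_le_of_card_ge inf_le_left ?_
    obtain ⟨n, hn⟩ := IsPGroup.iff_card.mp (H.Q_pgroup.to_le (inf_le_left : C ≤ H.Q))
    obtain ⟨k, hk⟩ := IsPGroup.iff_card.mp (H.Q_pgroup.to_le (hBC.trans inf_le_left))
    have hlt1 : 27 < Nat.card B := by
      refine lt_of_not_ge fun hle => hq1A ?_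
      rw [Subgroup.eq_of_le_of_card_ge (le_sup_left : H.A ≤ B) (by rw [H.card_A]; exact hle)]
      exact Subgroup.mem_sup_right (Subgroup.mem_zpowers q1)
    have hlt2 : Nat.card B < Nat.card C := by
      refine lt_of_not_ge fun hle => h ?_
      rw [Subgroup.eq_of_le_of_card_ge hBC hle]
      exact hm hq2 h2
    rw [hk] at hlt1 hlt2; rw [hn] at hlt2 ⊢; rw [H.hQcard]
    have h4 : 4 ≤ k := by
      by_contra hk4
      have := Nat.pow_le_pow_right (show 1 ≤ 3 by norm_num) (show k ≤ 3 by omega)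
      omega
    have h5 : k < n := (Nat.pow_lt_pow_iff_right (by norm_num)).mp hlt2
    exact le_trans (by norm_num) (Nat.pow_le_pow_right (show 1 ≤ 3 by norm_num) (show 5 ≤ n by omega))
  rw [H.Z_eq_center]
  refine ⟨⟨x, H.A_le_Q hx⟩, Subgroup.mem_center_iff.mpr fun q => Subtype.ext ?_, rfl⟩
  have hqC : (q : G) ∈ C := hC.symm.le q.2
  exact Subgroup.mem_centralizer_singleton_iff.mp hqC.2

theorem shift_trivial {b q α : G} (hb : b ∈ H.J) (hbQ : b ∉ H.Q) (hq : q ∈ H.Q) (hα : α ∈ H.Z)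
    (h : q * b * q⁻¹ = α * b) : q ∈ H.A := by
  refine H.cent_mod_Z hq hb hbQ ?_
  rw [h, mul_inv_cancel_right]; exact hα

end Hyp

theorem tr_gens : ∀ δ : ZMod 3, ∀ v : V4,
    tr δ (1, 0) v = v.1.val • eZ + v.2.1.val • (eA + eZ) + v.2.2.1.val • eC + v.2.2.2.val • (-eZ + eA + eB) ∧
    tr δ (0, 1) v = v.1.val • eZ + v.2.1.val • eA + v.2.2.1.val • (eC + δ.val • eZ) +
      v.2.2.2.val • (-(δ.val • eZ) + eC + eB) ∧
    tauV v = v.1.val • eZ + v.2.1.val • (-eA) + v.2.2.1.val • (-eC) + v.2.2.2.val • eB ∧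
    tr δ 0 v = v := by decide +kernel

/-- The last coordinate removed. -/
def flat (v : V4) : V4 := (v.1, v.2.1, v.2.2.1, 0)

theorem tr_sub : ∀ δ : ZMod 3, ∀ v : V4,
    tr δ (1, 0) (flat v) + -flat v = v.2.1.val • eZ ∧
    tr δ (0, 1) (flat v) + -flat v = (δ * v.2.2.1).val • eZ := by decide +kernel

theorem flat_eq : ∀ a : ZMod 3, ((a, 0, 0, 0) : V4) = a.val • eZ := by decide +kernel

theorem three_vals : ∀ x : ZMod 3, x = 0 ∨ x = 1 ∨ x = 2 := by decide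

theorem tr_step : ∀ δ : ZMod 3, ∀ w : ZMod 3 × ZMod 3, ∀ v : V4,
    tr δ (1, 0) (tr δ w v) = tr δ (w.1 + 1, w.2) v ∧ tr δ (0, 1) (tr δ w v) = tr δ (w.1, w.2 + 1) v := by
  decide +kernel

theorem exists_frame {G : Type*} [Group G] [Finite G] (H : Hyp G) :
    ∃ δ : ZMod 3, δ ≠ 0 ∧ Nonempty (Frame H δ) := by
  obtain ⟨hzZ, hz3, hz1, -⟩ := H.z_spec
  obtain ⟨b₀, hb₀, hb₀Q, htb₀⟩ := H.exists_b
  -- an element with a nontrivial value of the form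
  obtain ⟨q₀, hq₀, htq₀, hB⟩ : ∃ q, q ∈ H.Q ∧ H.t * q * H.t = q⁻¹ ∧ ∀ α, α ∈ H.A → H.t * α * H.t = α⁻¹ →
      q * b₀ * q⁻¹ = α * (q * α * q⁻¹ * α⁻¹)⁻¹ * b₀ → q * α * q⁻¹ * α⁻¹ ≠ 1 := by
    by_contra hall
    push Not at hall
    obtain ⟨q, hq, hqA⟩ : ∃ q ∈ H.Q, q ∉ H.A := by
      by_contra hc; push Not at hc
      have := Nat.le_of_dvd (by rw [H.card_A]; norm_num) (Subgroup.card_dvd_of_le hc)
      rw [H.card_A, H.hQcard] at this; norm_num at this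
    obtain ⟨q', hq', htq', hqq'⟩ := H.exists_inverted hq
    obtain ⟨α, hαA, htα, hαe, hα1⟩ := hall q' hq' htq'
    rw [hα1, inv_one, mul_one] at hαe
    have hαZ : α ∈ H.Z := by
      rw [H.Z_eq_center]
      refine ⟨⟨α, H.A_le_Q hαA⟩, Subgroup.mem_center_iff.mpr fun p => Subtype.ext ?_, rfl⟩
      show (p : G) * α = α * p
      obtain ⟨p', hp', htp', hpp'⟩ := H.exists_inverted p.2
      obtain ⟨β, hβA, htβ, hβe, hβ1⟩ := hall p' hp' htp'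
      rw [hβ1, inv_one, mul_one] at hβe
      obtain ⟨r, hr, htr, hrr⟩ := H.exists_inverted (mul_mem hp' hq')
      obtain ⟨γ, hγA, htγ, hγe, hγ1⟩ := hall r hr htr
      rw [hγ1, inv_one, mul_one] at hγe
      obtain ⟨m, hm, rfl⟩ : ∃ m ∈ H.Z, r = p' * q' * m := ⟨_, hrr, by group⟩
      have hbm : b₀ * m = m * b₀ := H.hJc _ hb₀ _ (H.Z_le_J hm)
      have e : p' * q' * m * b₀ * (p' * q' * m)⁻¹ = (p' * α * p'⁻¹) * β * b₀ := by
        calc _ = p' * q' * (b₀ * m) * m⁻¹ * q'⁻¹ * p'⁻¹ := by rw [hbm]; group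
          _ = p' * (q' * b₀ * q'⁻¹) * p'⁻¹ := by group
          _ = (p' * α * p'⁻¹) * (p' * b₀ * p'⁻¹) := by rw [hαe]; group
          _ = _ := by rw [hβe]; group
      obtain ⟨c, hcZ, hc⟩ := H.comm_Z_conj hp' (H.A_le_Q hαA)
      rw [hγe, hc] at e
      have e' : γ = c * α * β := mul_right_cancel e
      have hαβ : α * β = β * α := H.hJc _ (H.A_le_J hαA) _ (H.A_le_J hβA)
      have hci : H.t * c * H.t = c⁻¹ := by
        have h := htγ
        rw [e'] at h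
        have hl : H.t * (c * α * β) * H.t = c * (α⁻¹ * β⁻¹) := by
          rw [← htα, ← htβ]
          calc _ = (H.t * c) * α * β * H.t := by group
            _ = c * H.t * α * 1 * β * H.t := by rw [H.t_comm_Z hcZ]; group
            _ = _ := by rw [← H.t_sq]; group
        rw [hl, mul_inv_rev, mul_inv_rev, ← mul_assoc β⁻¹, ← mul_inv_rev α β, hαβ, mul_inv_rev β α] at h
        have hc2 : α⁻¹ * β⁻¹ * c⁻¹ = c⁻¹ * (α⁻¹ * β⁻¹) :=
          H.hJc _ (mul_mem (inv_mem (H.A_le_J hαA)) (inv_mem (H.A_le_J hβA))) _ (inv_mem (H.Z_le_J hcZ))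
        rw [hc2] at h
        rw [H.t_Z hcZ]; exact mul_right_cancel h
      rw [H.inverted_Z hcZ hci, one_mul] at hc
      obtain ⟨m', hm', hp⟩ : ∃ m' ∈ H.Z, (p : G) = p' * m' :=
        ⟨p'⁻¹ * p, by simpa using inv_mem hpp', by group⟩
      rw [hp]
      exact ((show Commute p' α from mul_inv_eq_iff_eq_mul.mp hc).mul_left
        (show Commute m' α from H.hJc _ (H.Z_le_J hm') _ (H.A_le_J hαA))).eq
    rw [H.inverted_Z hαZ htα, one_mul] at hαe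
    have := H.cent_mod_Z hq' hb₀ hb₀Q (by rw [hαe, mul_inv_cancel]; exact one_mem _)
    exact hqA (by
      have h := mul_mem this (H.Z_le_A (inv_mem hqq'))
      rwa [mul_inv_rev, inv_inv, mul_inv_cancel_left] at h)
  -- normalize `b`
  obtain ⟨b, hb, hbQ, htb, a1, ha1, hta1, hqb1, hqa1⟩ : ∃ b, b ∈ H.J ∧ b ∉ H.Q ∧ H.t * b * H.t = b ∧
      ∃ a1, a1 ∈ H.A ∧ H.t * a1 * H.t = a1⁻¹ ∧ q₀ * b * q₀⁻¹ = a1 * H.z⁻¹ * b ∧
        q₀ * a1 * q₀⁻¹ = H.z * a1 := by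
    obtain ⟨α, hαA, htα, hBZ, hαe⟩ := H.shift hb₀ htb₀ hq₀ htq₀
    have hne := hB α hαA htα hαe
    rcases H.mem_Z_cases hBZ with e | e | e
    · exact absurd e hne
    · exact ⟨b₀, hb₀, hb₀Q, htb₀, α, hαA, htα, by rw [hαe, e], by rw [← e]; group⟩
    · refine ⟨b₀⁻¹, inv_mem hb₀, fun h => hb₀Q (inv_mem_iff.mp h), ?_, α⁻¹, inv_mem hαA, ?_, ?_, ?_⟩
      · have := congrArg (·⁻¹) htb₀
        simpa [mul_inv_rev, H.t_inv, mul_assoc] using this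
      · have := congrArg (·⁻¹) htα
        simpa [mul_inv_rev, H.t_inv, mul_assoc] using this
      · rw [show q₀ * b₀⁻¹ * q₀⁻¹ = (q₀ * b₀ * q₀⁻¹)⁻¹ by group, hαe, e, inv_inv, mul_inv_rev, mul_inv_rev]
        rw [H.hJc _ (inv_mem hb₀) _ (mul_mem (inv_mem (H.Z_le_J hzZ)) (inv_mem (H.A_le_J hαA))),
          H.hJc _ (inv_mem (H.Z_le_J hzZ)) _ (inv_mem (H.A_le_J hαA))]
      · rw [show q₀ * α⁻¹ * q₀⁻¹ = α⁻¹ * (q₀ * α * q₀⁻¹ * α⁻¹)⁻¹ by group, e, inv_inv,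
          H.hJc _ (inv_mem (H.A_le_J hαA)) _ (H.Z_le_J hzZ)]
  have hq₀A : q₀ ∉ H.A := fun h => hz1 (by
    rw [H.hJc _ (H.A_le_J h) _ (H.A_le_J ha1), mul_inv_cancel_right] at hqa1
    exact mul_eq_right.mp hqa1.symm)
  -- a second element
  obtain ⟨q₂, hq₂, htq₂, hq₂B, hq₂a1⟩ : ∃ q, q ∈ H.Q ∧ H.t * q * H.t = q⁻¹ ∧
      q ∉ H.A ⊔ Subgroup.zpowers q₀ ∧ q * a1 = a1 * q := by
    obtain ⟨p, hp, hpB⟩ : ∃ p ∈ H.Q, p ∉ H.A ⊔ Subgroup.zpowers q₀ := by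
      by_contra hc; push Not at hc
      have := Nat.le_of_dvd Nat.card_pos (Subgroup.card_dvd_of_le hc)
      have h81 := H.card_sup_zpowers hq₀
      rw [H.hQcard] at this; omega
    obtain ⟨c, hcZ, hc⟩ := H.comm_Z_conj hp (H.A_le_Q ha1)
    obtain ⟨p2, hp2, hp2B, hp2a⟩ : ∃ p2, p2 ∈ H.Q ∧ p2 ∉ H.A ⊔ Subgroup.zpowers q₀ ∧ p2 * a1 = a1 * p2 := by
      rcases H.mem_Z_cases hcZ with rfl | rfl | rfl
      · exact ⟨p, hp, hpB, mul_inv_eq_iff_eq_mul.mp (by rw [hc, one_mul])⟩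
      · refine ⟨q₀⁻¹ * p, mul_mem (inv_mem hq₀) hp, fun h => hpB ?_, mul_inv_eq_iff_eq_mul.mp ?_⟩
        · have := mul_mem (Subgroup.mem_sup_right (Subgroup.mem_zpowers q₀) : q₀ ∈ H.A ⊔ Subgroup.zpowers q₀) h
          rwa [mul_inv_cancel_left] at this
        · rw [show q₀⁻¹ * p * a1 * (q₀⁻¹ * p)⁻¹ = q₀⁻¹ * (p * a1 * p⁻¹) * q₀ by group, hc, ← hqa1]
          group
      · refine ⟨q₀ * p, mul_mem hq₀ hp, fun h => hpB ?_, mul_inv_eq_iff_eq_mul.mp ?_⟩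
        · have := mul_mem (Subgroup.mem_sup_right (inv_mem (Subgroup.mem_zpowers q₀)) :
            q₀⁻¹ ∈ H.A ⊔ Subgroup.zpowers q₀) h
          rwa [inv_mul_cancel_left] at this
        · rw [show q₀ * p * a1 * (q₀ * p)⁻¹ = q₀ * (p * a1 * p⁻¹) * q₀⁻¹ by group, hc,
            show q₀ * (H.z⁻¹ * a1) * q₀⁻¹ = (q₀ * H.z⁻¹) * a1 * q₀⁻¹ by group,
            H.Z_comm (inv_mem hzZ) (H.Q_le_S hq₀),
            show H.z⁻¹ * q₀ * a1 * q₀⁻¹ = H.z⁻¹ * (q₀ * a1 * q₀⁻¹) by group, hqa1, inv_mul_cancel_left]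
    obtain ⟨p3, hp3, htp3, hpp⟩ := H.exists_inverted hp2
    refine ⟨p3, hp3, htp3, fun h => hp2B ?_, ?_⟩
    · have := mul_mem h (Subgroup.mem_sup_left (H.Z_le_A (inv_mem hpp)) : _ ∈ H.A ⊔ Subgroup.zpowers q₀)
      rwa [mul_inv_rev, inv_inv, mul_inv_cancel_left] at this
    · rw [show p3 = p2 * (p2⁻¹ * p3) by group]
      exact ((show Commute p2 a1 from hp2a).mul_left
        (show Commute (p2⁻¹ * p3) a1 from H.hJc _ (H.Z_le_J hpp) _ (H.A_le_J ha1))).eq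
  obtain ⟨a2, ha2, hta2, hB2Z, hqb2⟩ := H.shift hb htb hq₂ htq₂
  have hq₂A : q₂ ∉ H.A := fun h => hq₂B (Subgroup.mem_sup_left h)
  have hcross : q₀ * a2 = a2 * q₀ := by
    obtain ⟨c, hc, e1⟩ := H.comm_Z_conj hq₀ (H.A_le_Q ha2)
    obtain ⟨m, hm, e0⟩ := H.comm_Z_conj hq₀ hq₂
    set B2 := q₂ * a2 * q₂⁻¹ * a2⁻¹
    have hz0 : ∀ {k}, k ∈ H.Z → ∀ {q}, q ∈ H.Q → q * k * q⁻¹ = k := fun hk _ hq => by
      rw [H.Z_comm hk (H.Q_le_S hq), mul_inv_cancel_right]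
    have l : q₀ * q₂ * b * (q₀ * q₂)⁻¹ = (c * a2 * B2⁻¹) * (a1 * H.z⁻¹) * b := by
      calc q₀ * q₂ * b * (q₀ * q₂)⁻¹ = q₀ * (q₂ * b * q₂⁻¹) * q₀⁻¹ := by group
        _ = (q₀ * a2 * q₀⁻¹) * (q₀ * B2⁻¹ * q₀⁻¹) * (q₀ * b * q₀⁻¹) := by rw [hqb2]; group
        _ = _ := by rw [e1, hz0 (inv_mem hB2Z) hq₀, hqb1]; group
    have r : q₀ * q₂ * b * (q₀ * q₂)⁻¹ = (a1 * H.z⁻¹) * (a2 * B2⁻¹) * b := by
      have e2 : q₀ * q₂ = m * (q₂ * q₀) := by rw [← mul_assoc, ← e0]; group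
      have hz' : q₂ * H.z⁻¹ * q₂⁻¹ = H.z⁻¹ := hz0 (inv_mem hzZ) hq₂
      have hqa : q₂ * a1 * q₂⁻¹ = a1 := by rw [hq₂a1, mul_inv_cancel_right]
      have e3 : q₂ * q₀ * b * (q₂ * q₀)⁻¹ = (a1 * H.z⁻¹) * (a2 * B2⁻¹) * b := by
        calc q₂ * q₀ * b * (q₂ * q₀)⁻¹ = q₂ * (q₀ * b * q₀⁻¹) * q₂⁻¹ := by group
          _ = (q₂ * a1 * q₂⁻¹) * (q₂ * H.z⁻¹ * q₂⁻¹) * (q₂ * b * q₂⁻¹) := by rw [hqb1]; group
          _ = _ := by rw [hqa, hz', hqb2]; group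
      rw [e2, show m * (q₂ * q₀) * b * (m * (q₂ * q₀))⁻¹ = m * (q₂ * q₀ * b * (q₂ * q₀)⁻¹) * m⁻¹ by group, e3,
        H.hJc _ (H.Z_le_J hm) _ (mul_mem (mul_mem (mul_mem (H.A_le_J ha1) (inv_mem (H.Z_le_J hzZ)))
          (mul_mem (H.A_le_J ha2) (inv_mem (H.Z_le_J hB2Z)))) hb), mul_inv_cancel_right]
    have h := mul_right_cancel (l.symm.trans r)
    rw [H.hJc _ (mul_mem (H.A_le_J ha1) (inv_mem (H.Z_le_J hzZ))) _
      (mul_mem (H.A_le_J ha2) (inv_mem (H.Z_le_J hB2Z))), mul_assoc c] at h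
    have h' := mul_right_cancel h
    rw [mul_eq_right] at h'
    rw [h', one_mul] at e1
    exact mul_inv_eq_iff_eq_mul.mp e1
  obtain ⟨δ, hδ0, hδ⟩ : ∃ δ : ZMod 3, δ ≠ 0 ∧ q₂ * a2 * q₂⁻¹ * a2⁻¹ = H.z ^ δ.val := by
    rcases H.mem_Z_cases hB2Z with e | e | e
    · exfalso
      have hc : q₂ * a2 = a2 * q₂ := mul_inv_eq_iff_eq_mul.mp (mul_inv_eq_one.mp e)
      rw [e, inv_one, mul_one, H.inverted_Z (H.commute_Q hq₀ hq₂ hq₂B hq₀A ha2 hcross hc) hta2] at hqb2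
      exact hq₂A (H.shift_trivial hb hbQ hq₂ (one_mem _) hqb2)
    · exact ⟨1, by decide, by rw [e]; exact (pow_one _).symm⟩
    · refine ⟨2, by decide, e.trans (inv_eq_of_mul_eq_one_right ?_)⟩
      show H.z * H.z ^ 2 = 1
      rw [← pow_succ', hz3]
  refine ⟨δ, hδ0, ⟨?_⟩⟩
  have hzJ := H.Z_le_J hzZ
  have ha13 := H.hJexp a1 (H.A_le_J ha1)
  have ha23 := H.hJexp a2 (H.A_le_J ha2)
  have hb3 := H.hJexp b hb
  let φ : V4 → G := fun v => H.z ^ v.1.val * a1 ^ v.2.1.val * a2 ^ v.2.2.1.val * b ^ v.2.2.2.val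
  have hφJ : ∀ v, φ v ∈ H.J := fun v =>
    mul_mem (mul_mem (mul_mem (pow_mem hzJ _) (pow_mem (H.A_le_J ha1) _)) (pow_mem (H.A_le_J ha2) _)) (pow_mem hb _)
  have hadd : ∀ v v', φ (v + v') = φ v * φ v' := by
    intro v v'
    have c : ∀ {x y : G}, x ∈ H.J → y ∈ H.J → Commute x y := fun hx hy => H.hJc _ hx _ hy
    show H.z ^ (v.1 + v'.1).val * a1 ^ (v.2.1 + v'.2.1).val * a2 ^ (v.2.2.1 + v'.2.2.1).val *
      b ^ (v.2.2.2 + v'.2.2.2).val = _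
    rw [pow_val_add hz3, pow_val_add ha13, pow_val_add ha23, pow_val_add hb3,
      (c (pow_mem hzJ _) (pow_mem (H.A_le_J ha1) _)).mul_mul_mul_comm,
      (c (mul_mem (pow_mem hzJ _) (pow_mem (H.A_le_J ha1) _)) (pow_mem (H.A_le_J ha2) _)).mul_mul_mul_comm,
      (c (mul_mem (mul_mem (pow_mem hzJ _) (pow_mem (H.A_le_J ha1) _)) (pow_mem (H.A_le_J ha2) _))
        (pow_mem hb _)).mul_mul_mul_comm]
  have h0 : φ 0 = 1 := by simp [φ]
  have hsmul : ∀ (n : ℕ) v, φ (n • v) = φ v ^ n := by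
    intro n v
    induction n with
    | zero => rw [zero_smul, h0, pow_zero]
    | succ n ih => rw [succ_nsmul, hadd, ih, pow_succ]
  have hneg : ∀ v, φ (-v) = (φ v)⁻¹ := fun v => eq_inv_of_mul_eq_one_left (by rw [← hadd, neg_add_cancel, h0])
  have heZ : φ eZ = H.z := by simp [φ, eZ, ZMod.val_one]
  have heA : φ eA = a1 := by simp [φ, eA, ZMod.val_one]
  have heC : φ eC = a2 := by simp [φ, eC, ZMod.val_one]
  have heB : φ eB = b := by simp [φ, eB, ZMod.val_one]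
  have hgen : ∀ (f : G → G), (∀ x y, x ∈ H.J → y ∈ H.J → f (x * y) = f x * f y) → (f 1 = 1) →
      ∀ X0 X1 X2 X3 : V4, f H.z = φ X0 → f a1 = φ X1 → f a2 = φ X2 → f b = φ X3 →
      ∀ v : V4, f (φ v) = φ (v.1.val • X0 + v.2.1.val • X1 + v.2.2.1.val • X2 + v.2.2.2.val • X3) := by
    intro f hf hf1 X0 X1 X2 X3 e0 e1 e2 e3 v
    have hp : ∀ {x}, x ∈ H.J → ∀ n : ℕ, f (x ^ n) = f x ^ n := by
      intro x hx n
      induction n with
      | zero => rw [pow_zero, hf1, pow_zero]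
      | succ n ih => rw [pow_succ, hf _ _ (pow_mem hx _) hx, ih, pow_succ]
    show f (H.z ^ v.1.val * a1 ^ v.2.1.val * a2 ^ v.2.2.1.val * b ^ v.2.2.2.val) = _
    rw [hf _ _ (mul_mem (mul_mem (pow_mem hzJ _) (pow_mem (H.A_le_J ha1) _)) (pow_mem (H.A_le_J ha2) _)) (pow_mem hb _),
      hf _ _ (mul_mem (pow_mem hzJ _) (pow_mem (H.A_le_J ha1) _)) (pow_mem (H.A_le_J ha2) _),
      hf _ _ (pow_mem hzJ _) (pow_mem (H.A_le_J ha1) _), hp hzJ, hp (H.A_le_J ha1), hp (H.A_le_J ha2), hp hb,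
      e0, e1, e2, e3, ← hsmul, ← hsmul, ← hsmul, ← hsmul, ← hadd, ← hadd, ← hadd]
  have hconjhom : ∀ g : G, ∀ x y, x ∈ H.J → y ∈ H.J → g * (x * y) * g⁻¹ = g * x * g⁻¹ * (g * y * g⁻¹) :=
    fun g x y _ _ => by group
  have hzfix : ∀ q ∈ H.Q, q * H.z * q⁻¹ = φ eZ := fun q hq => by
    rw [heZ, H.Z_comm hzZ (H.Q_le_S hq), mul_inv_cancel_right]
  have hfix : ∀ {q x : G}, q * x = x * q → q * x * q⁻¹ = x := fun h => mul_inv_eq_iff_eq_mul.mpr h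
  have hT1 : ∀ v, q₀ * φ v * q₀⁻¹ = φ (tr δ (1, 0) v) := fun v => by
    rw [(tr_gens δ v).1]
    refine hgen (fun x => q₀ * x * q₀⁻¹) (hconjhom q₀) (by simp) _ _ _ _ (hzfix _ hq₀) ?_ ?_ ?_ v
    · rw [hqa1, hadd, heA, heZ, H.hJc _ hzJ _ (H.A_le_J ha1)]
    · rw [heC]; exact hfix hcross
    · rw [hqb1, hadd, hadd, hneg, heZ, heA, heB, H.hJc _ (H.A_le_J ha1) _ (inv_mem hzJ)]
  have hT2 : ∀ v, q₂ * φ v * q₂⁻¹ = φ (tr δ (0, 1) v) := fun v => by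
    rw [(tr_gens δ v).2.1]
    refine hgen (fun x => q₂ * x * q₂⁻¹) (hconjhom q₂) (by simp) _ _ _ _ (hzfix _ hq₂) ?_ ?_ ?_ v
    · rw [heA]; exact hfix hq₂a1
    · rw [hadd, hsmul, heC, heZ, ← hδ, H.hJc _ (H.A_le_J ha2) _ (H.Z_le_J hB2Z)]; group
    · rw [hqb2, hadd, hadd, hneg, hsmul, heZ, heC, heB, hδ,
        H.hJc _ (H.A_le_J ha2) _ (inv_mem (pow_mem hzJ _))]
  have hQ : ∀ v, φ v ∈ H.Q ↔ v.2.2.2 = 0 := by
    intro v
    have hl : H.z ^ v.1.val * a1 ^ v.2.1.val * a2 ^ v.2.2.1.val ∈ H.Q :=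
      mul_mem (mul_mem (pow_mem (H.Z_le_Q hzZ) _) (pow_mem (H.A_le_Q ha1) _)) (pow_mem (H.A_le_Q ha2) _)
    show H.z ^ v.1.val * a1 ^ v.2.1.val * a2 ^ v.2.2.1.val * b ^ v.2.2.2.val ∈ H.Q ↔ _
    rw [Subgroup.mul_mem_cancel_left _ hl]
    constructor
    · intro h
      rcases three_vals v.2.2.2 with e | e | e <;>
        rw [e] at h ⊢
      · exact absurd (by simpa [ZMod.val_one] using h) hbQ
      · refine absurd ?_ hbQ
        have h2 := mul_mem h h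
        rwa [← pow_add, show (2 : ZMod 3).val + (2 : ZMod 3).val = 3 + 1 from rfl, pow_succ, hb3, one_mul] at h2
    · intro e; rw [e, ZMod.val_zero, pow_zero]; exact one_mem _
  have hinj0 : ∀ v, φ v = 1 → v = 0 := by
    intro v h
    have h3 : v.2.2.2 = 0 := (hQ v).1 (by rw [h]; exact one_mem _)
    have key : ∀ {w}, φ (tr δ w v) = 1 → φ (tr δ w v + -v) = 1 := fun e => by rw [hadd, e, hneg, h, inv_one, one_mul]
    have e1 := key (w := (1, 0)) (by rw [← hT1, h]; group)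
    have e2 := key (w := (0, 1)) (by rw [← hT2, h]; group)
    have hv : flat v = v := Prod.ext rfl (Prod.ext rfl (Prod.ext rfl h3.symm))
    have s12 := tr_sub δ v
    rw [hv] at s12
    rw [s12.1, hsmul, heZ] at e1
    rw [s12.2, hsmul, heZ] at e2
    have ho : orderOf H.z = 3 := orderOf_eq_prime hz3 hz1
    have f : ∀ a : ZMod 3, H.z ^ a.val = 1 → a = 0 := fun a ha => by
      have hd := orderOf_dvd_of_pow_eq_one ha
      rw [ho] at hd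
      have := Nat.eq_zero_of_dvd_of_lt hd a.val_lt
      exact ZMod.val_injective _ (by rw [this, ZMod.val_zero])
    have g1 := f _ e1
    have g2 : v.2.2.1 = 0 := (mul_eq_zero.mp (f _ e2)).resolve_left hδ0
    have g0 : v.1 = 0 := f _ (by
      have : v = v.1.val • eZ := (Prod.ext rfl (Prod.ext g1 (Prod.ext g2 h3)) : v = (v.1, 0, 0, 0)).trans (flat_eq v.1)
      rw [this, hsmul, heZ] at h
      exact h)
    exact Prod.ext g0 (Prod.ext g1 (Prod.ext g2 h3))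
  have hinj : Function.Injective φ := fun v v' h => by
    have := hinj0 (v + -v') (by rw [hadd, hneg, h, mul_inv_cancel])
    rwa [← sub_eq_add_neg, sub_eq_zero] at this
  refine ⟨φ, hadd, hinj, hφJ, ?_, heZ, ?_, ?_, hQ⟩
  · intro j hj
    have hb' := (Nat.bijective_iff_injective_and_card (fun v => (⟨φ v, hφJ v⟩ : H.J))).mpr
      ⟨fun v v' h => hinj (congrArg Subtype.val h), by rw [H.hJcard, Nat.card_eq_fintype_card]; rfl⟩
    obtain ⟨v, hv⟩ := hb'.2 ⟨j, hj⟩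
    exact ⟨v, congrArg Subtype.val hv⟩
  · intro v
    rw [(tr_gens δ v).2.2.1]
    refine hgen (fun x => H.t * x * H.t) (fun x y _ _ => ?_) (by simp [H.t_sq]) _ _ _ _ ?_ ?_ ?_ ?_ v
    · calc H.t * (x * y) * H.t = H.t * x * 1 * y * H.t := by group
        _ = _ := by rw [← H.t_sq]; group
    · rw [heZ]; exact H.t_Z hzZ
    · rw [hneg, heA]; exact hta1
    · rw [hneg, heC]; exact hta2
    · rw [heB]; exact htb
  · intro w
    have base : ∃ q ∈ (H.S : Subgroup G), ∀ v, q * φ v * q⁻¹ = φ (tr δ 0 v) :=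
      ⟨1, one_mem _, fun v => by rw [(tr_gens δ v).2.2.2]; group⟩
    have s1 : ∀ w : ZMod 3 × ZMod 3, (∃ q ∈ (H.S : Subgroup G), ∀ v, q * φ v * q⁻¹ = φ (tr δ w v)) →
        ∃ q ∈ (H.S : Subgroup G), ∀ v, q * φ v * q⁻¹ = φ (tr δ (w.1 + 1, w.2) v) := by
      rintro w ⟨q, hq, hv⟩
      refine ⟨q₀ * q, mul_mem (H.Q_le_S hq₀) hq, fun v => ?_⟩
      rw [← (tr_step δ w v).1, ← hT1, ← hv]; group
    have s2 : ∀ w : ZMod 3 × ZMod 3, (∃ q ∈ (H.S : Subgroup G), ∀ v, q * φ v * q⁻¹ = φ (tr δ w v)) →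
        ∃ q ∈ (H.S : Subgroup G), ∀ v, q * φ v * q⁻¹ = φ (tr δ (w.1, w.2 + 1) v) := by
      rintro w ⟨q, hq, hv⟩
      refine ⟨q₂ * q, mul_mem (H.Q_le_S hq₂) hq, fun v => ?_⟩
      rw [← (tr_step δ w v).2, ← hT2, ← hv]; group
    obtain ⟨w1, w2⟩ := w
    rcases three_vals w1 with rfl | rfl | rfl <;>
      rcases three_vals w2 with rfl | rfl | rfl
    · exact base
    · exact s2 (0, 0) base
    · exact s2 (0, 1) (s2 (0, 0) base)
    · exact s1 (0, 0) base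
    · exact s1 (0, 1) (s2 (0, 0) base)
    · exact s1 (0, 2) (s2 (0, 1) (s2 (0, 0) base))
    · exact s1 (1, 0) (s1 (0, 0) base)
    · exact s1 (1, 1) (s1 (0, 1) (s2 (0, 0) base))
    · exact s1 (1, 2) (s1 (0, 2) (s2 (0, 1) (s2 (0, 0) base)))

end CfsgLib.McLThree
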