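import Cfsg.Agent.Lib.McLThree.Kernel

/-!
# Elements centralizing `Z` act faithfully modulo `Z` and the involution
-/

set_option autoImplicit false
set_option linter.unusedSectionVars false

namespace CfsgLib.McLThree

open Equiv

theorem flat_eq_self : ∀ u1 u2 : ZMod 3, flat (0, u1, u2, 0) = (0, u1, u2, 0) := fun _ _ => rfl

theorem mid_ne_smul : ∀ u1 u2 : ZMod 3, (u1, u2) ≠ (0, 0) → ∀ c : ZMod 3, ((0, u1, u2, 0) : V4) ≠ c.val • eZ := by
  decide +kernel

theorem smul_eZ_snd : ∀ c : ZMod 3, ∀ x : V4, (x + -(c.val • eZ)).2 = x.2 := by decide +kernel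

theorem quad_alg {A : Type*} [CommGroup A] (cube : ∀ x : A, x * x * x = 1) {a b c d v : A}
    (o : v * a * b * c * d = 1) : (b * v * a⁻¹) * (v * c * d⁻¹) * (a * d * v⁻¹)⁻¹ = v⁻¹ := by
  have hbc : b * c = (v * a * d)⁻¹ := by
    refine eq_inv_of_mul_eq_one_left ?_
    rw [← o]; ac_rfl
  have e : (b * v * a⁻¹) * (v * c * d⁻¹) * (a * d * v⁻¹)⁻¹ =
      (b * c) * (v * v * v) * (a⁻¹ * a⁻¹) * (d⁻¹ * d⁻¹) := by
    simp only [mul_inv_rev, inv_inv]
    generalize a⁻¹ = a'
    generalize d⁻¹ = d'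
    simp only [mul_comm, mul_left_comm, mul_assoc]
  have ha : a⁻¹ * a⁻¹ = a := by
    rw [← mul_inv_rev]; exact inv_eq_of_mul_eq_one_left (by rw [← mul_assoc]; exact cube a)
  have hd : d⁻¹ * d⁻¹ = d := by
    rw [← mul_inv_rev]; exact inv_eq_of_mul_eq_one_left (by rw [← mul_assoc]; exact cube d)
  rw [e, cube v, mul_one, ha, hd, hbc, mul_inv_rev, mul_inv_rev]
  calc d⁻¹ * (a⁻¹ * v⁻¹) * a * d = v⁻¹ * (a⁻¹ * a) * (d⁻¹ * d) := by ac_rfl
    _ = v⁻¹ := by rw [inv_mul_cancel, inv_mul_cancel, mul_one, mul_one]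

/-- The commutator-with-`n` subgroup of `Q`. -/
def Hyp.modCentN {G : Type*} [Group G] [Finite G] (H : Hyp G) (n : G) (hn : n ∈ H.NZ) : Subgroup G where
  carrier := {q | q ∈ H.Q ∧ n * q * n⁻¹ * q⁻¹ ∈ H.Z}
  one_mem' := ⟨one_mem _, by simp⟩
  mul_mem' := by
    rintro a b ⟨ha, h1⟩ ⟨hb, h2⟩
    refine ⟨mul_mem ha hb, ?_⟩
    rw [show n * (a * b) * n⁻¹ * (a * b)⁻¹ = (n * a * n⁻¹) * (n * b * n⁻¹ * b⁻¹) * a⁻¹ by group,
      H.Z_comm h2 (H.Q_le_S (H.Q_conj hn ha)), mul_assoc]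
    exact mul_mem h2 h1
  inv_mem' := by
    rintro a ⟨ha, h1⟩
    refine ⟨inv_mem ha, ?_⟩
    rw [show n * a⁻¹ * n⁻¹ * a⁻¹⁻¹ = a⁻¹ * (n * a * n⁻¹ * a⁻¹)⁻¹ * a by group,
      H.Z_comm (inv_mem h1) (H.Q_le_S (inv_mem ha)), mul_assoc, inv_mul_cancel, mul_one]
    exact inv_mem h1

theorem Hyp.modCentN_cases {G : Type*} [Group G] [Finite G] (H : Hyp G) (n : G) (hn : n ∈ H.NZ)
    (h5 : n * H.five = H.five * n) : H.modCentN n hn = H.Z ∨ H.modCentN n hn = H.Q := by
  refine H.irr (fun m hm => ⟨H.Z_le_Q hm, ?_⟩) (fun a ha => ha.1) ?_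
  · exact mul_mem ((Subgroup.mem_normalizer_iff.mp hn m).mp hm) (inv_mem hm)
  · rintro w ⟨hw, hwZ⟩
    have hf := H.five_spec.1
    refine ⟨H.Q_conj (H.L0_le hf) hw, ?_⟩
    have hfi : n * H.five⁻¹ = H.five⁻¹ * n := (Commute.inv_right (show Commute n H.five from h5)).eq
    rw [show n * (H.five * w * H.five⁻¹) * n⁻¹ * (H.five * w * H.five⁻¹)⁻¹
      = (n * H.five) * w * (n * H.five)⁻¹ * (H.five * w⁻¹ * H.five⁻¹) by group, h5,
      show (H.five * n) * w * (H.five * n)⁻¹ * (H.five * w⁻¹ * H.five⁻¹)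
      = H.five * (n * w * n⁻¹ * w⁻¹) * H.five⁻¹ by group, H.L0_comm hf hwZ, mul_inv_cancel_right]
    exact hwZ

namespace Data

variable {G : Type*} [Group G] [Finite G] {H : Hyp G} (D : Data H)

set_option maxHeartbeats 2000000 in
/-- A rotation commuting with the element of order five cannot centralize `Z`. -/
theorem no_rotation {n : G} (hn : n ∈ H.NZ) (hz : n * H.z * n⁻¹ = H.z) (h5 : n * H.five = H.five * n)
    (hn2 : n * n = H.t) : False := by
  classical
  obtain ⟨hfL, hf5, hfQ⟩ := H.five_spec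
  have hfN := H.L0_le hfL
  let ZQ := H.Z.subgroupOf H.Q
  haveI hN : ZQ.Normal := ⟨fun m hm x => by
    show (x : G) * m * (x : G)⁻¹ ∈ H.Z
    rw [H.Z_comm (show (m : G) ∈ H.Z from hm) (H.Q_le_S x.2), mul_inv_cancel_right]; exact hm⟩
  let mk := QuotientGroup.mk' ZQ
  have hmk : ∀ x y : H.Q, mk x = mk y ↔ (x : G)⁻¹ * y ∈ H.Z := fun x y => QuotientGroup.eq
  letI : CommGroup (H.Q ⧸ ZQ) :=
    { (inferInstance : Group (H.Q ⧸ ZQ)) with
      mul_comm := fun a b => by
        induction a using QuotientGroup.induction_on with | _ x => ?_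
        induction b using QuotientGroup.induction_on with | _ y => ?_
        refine (hmk (x * y) (y * x)).mpr ?_
        have h := H.comm_mem_Z (inv_mem y.2) (inv_mem x.2)
        rw [show (↑(x * y) : G)⁻¹ * ↑(y * x) = (y : G)⁻¹ * (x : G)⁻¹ * (y : G)⁻¹⁻¹ * (x : G)⁻¹⁻¹ by
          simp only [Subgroup.coe_mul]; group]
        exact h }
  have mk_end : ∀ g : G, g ∈ H.NZ → ∃ E : H.Q ⧸ ZQ →* H.Q ⧸ ZQ,
      ∀ x : H.Q, ∀ y : H.Q, (y : G) = g * x * g⁻¹ → E (mk x) = mk y := by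
    intro g hg
    let f : H.Q →* H.Q :=
      { toFun := fun x => ⟨g * x * g⁻¹, H.Q_conj hg x.2⟩
        map_one' := Subtype.ext (by simp)
        map_mul' := fun x y => Subtype.ext (by simp [mul_assoc]) }
    refine ⟨QuotientGroup.map ZQ ZQ f fun m hm => (Subgroup.mem_normalizer_iff.mp hg _).mp hm, fun x y e => ?_⟩
    rw [show y = f x from Subtype.ext e]; rfl
  obtain ⟨N, hN'⟩ := mk_end n hn
  obtain ⟨F, hF'⟩ := mk_end H.five hfN
  have hNa : ∀ x : H.Q, N (mk x) = mk ⟨n * x * n⁻¹, H.Q_conj hn x.2⟩ := fun x => hN' x _ rfl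
  have hFa : ∀ x : H.Q, F (mk x) = mk ⟨H.five * x * H.five⁻¹, H.Q_conj hfN x.2⟩ := fun x => hF' x _ rfl
  have NN : ∀ v, N (N v) = v⁻¹ := by
    intro v
    induction v using QuotientGroup.induction_on with | _ x => ?_
    change N (N (mk x)) = (mk x)⁻¹
    rw [hNa, hNa, ← map_inv, hmk]
    have := inv_mem (H.t_Q_inv x.2)
    rw [← hn2] at this
    have ht : (n * n)⁻¹ = n * n := by rw [hn2]; exact H.t_inv
    simp only [InvMemClass.coe_inv]
    rw [show (n * (n * (x : G) * n⁻¹) * n⁻¹)⁻¹ * (x : G)⁻¹ = ((x : G) * (n * n) * x * (n * n)⁻¹)⁻¹ by group]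
    refine inv_mem ?_
    rw [ht, hn2]
    have h := H.t_Q_inv x.2
    have hc := H.Z_comm h (H.Q_le_S x.2)
    have e : (x : G) * H.t * x * H.t = H.t * x * H.t * x := by
      calc (x : G) * H.t * x * H.t = (x : G) * (H.t * x * H.t * x) * (x : G)⁻¹ := by group
        _ = _ := by rw [hc, mul_inv_cancel_right]
    rw [e]; exact h
  have NF : ∀ v, N (F v) = F (N v) := by
    intro v
    induction v using QuotientGroup.induction_on with | _ x => ?_
    change N (F (mk x)) = F (N (mk x))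
    rw [hFa, hNa, hNa, hFa]
    congr 1
    refine Subtype.ext ?_
    show n * (H.five * x * H.five⁻¹) * n⁻¹ = H.five * (n * x * n⁻¹) * H.five⁻¹
    calc _ = (n * H.five) * x * (n * H.five)⁻¹ := by group
      _ = _ := by rw [h5]; group
  have F5 : ∀ v, F (F (F (F (F v)))) = v := by
    intro v
    induction v using QuotientGroup.induction_on with | _ x => ?_
    change F (F (F (F (F (mk x))))) = mk x
    rw [hFa, hFa, hFa, hFa, hFa]
    congr 1
    refine Subtype.ext ?_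
    show H.five * (H.five * (H.five * (H.five * (H.five * x * H.five⁻¹) * H.five⁻¹) * H.five⁻¹) * H.five⁻¹) *
      H.five⁻¹ = x
    calc _ = H.five ^ 5 * (x : G) * (H.five ^ 5)⁻¹ := by
          simp only [pow_succ, pow_zero, one_mul, mul_inv_rev, mul_assoc]
      _ = _ := by rw [hf5]; simp
  have fixed : ∀ v, F v = v → v = 1 := by
    intro v
    induction v using QuotientGroup.induction_on with | _ x => ?_
    change F (mk x) = mk x → mk x = 1
    rw [hFa]
    intro h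
    rw [hmk] at h
    rcases H.modCentN_cases H.five hfN rfl with hW | hW
    · have hxW : (x : G) ∈ H.modCentN H.five hfN := ⟨x.2, by
        have h' := inv_mem h
        rw [show ((H.five * (x : G) * H.five⁻¹)⁻¹ * x)⁻¹ =
          (x : G)⁻¹ * (H.five * x * H.five⁻¹) by group] at h'
        have := H.Z_comm h' (H.Q_le_S x.2)
        rw [← mul_assoc, mul_inv_cancel, one_mul] at this
        rw [this, mul_assoc, mul_inv_cancel, mul_one]; exact h'⟩
      rw [hW] at hxW
      exact (QuotientGroup.eq_one_iff x).mpr hxW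
    · exfalso
      refine hfQ (H.cent_Q fun q hq => ?_)
      have hqW : q ∈ H.modCentN H.five hfN := hW.symm ▸ hq
      obtain ⟨-, hc⟩ := hqW
      set c := H.five * q * H.five⁻¹ * q⁻¹ with hcd
      have e : H.five * q * H.five⁻¹ = c * q := by rw [hcd]; group
      have hfc : H.five * c = c * H.five := H.L0_comm hfL hc
      have key : ∀ k : ℕ, H.five ^ k * q * (H.five ^ k)⁻¹ = c ^ k * q := by
        intro k
        induction k with
        | zero => simp
        | succ k ih =>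
          rw [pow_succ', show H.five * H.five ^ k * q * (H.five * H.five ^ k)⁻¹ =
            H.five * (H.five ^ k * q * (H.five ^ k)⁻¹) * H.five⁻¹ by group, ih, ← mul_assoc,
            ((show Commute H.five c from hfc).pow_right k).eq, pow_succ, hcd]
          group
      have h1 := key 5
      rw [hf5, one_mul, inv_one, mul_one, eq_comm, mul_eq_right] at h1
      have h2 : c = 1 := by
        calc c = (c ^ 3) ^ 2 * (c ^ 5)⁻¹ := by group
          _ = 1 := by rw [H.hQexp c (H.Z_le_Q hc), h1]; simp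
      rw [h2, one_mul] at e
      exact (mul_inv_eq_iff_eq_mul.mp e).symm
  have cube : ∀ v : H.Q ⧸ ZQ, v * v * v = 1 := by
    intro v
    induction v using QuotientGroup.induction_on with | _ x => ?_
    change mk x * mk x * mk x = 1
    rw [← map_mul, ← map_mul, show x * x * x = 1 from Subtype.ext (by
      have := H.hQexp x x.2; rwa [pow_succ, pow_two] at this), map_one]
  have orbit : ∀ v, v * F v * F (F v) * F (F (F v)) * F (F (F (F v))) = 1 := fun v => by
    refine fixed _ ?_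
    simp only [map_mul, F5]
    ac_rfl
  let I : H.Q ⧸ ZQ →* H.Q ⧸ ZQ :=
    { toFun := fun v => F v * F (F (F (F v))) * v⁻¹
      map_one' := by simp
      map_mul' := fun a b => by simp only [map_mul, mul_inv_rev]; ac_rfl }
  have hI : ∀ v, I v = F v * F (F (F (F v))) * v⁻¹ := fun v => rfl
  have II : ∀ v, I (I v) = v⁻¹ := by
    intro v
    have o := orbit v
    set a := F v with ha
    set b := F a with hb
    set c := F b with hc
    set d := F c with hd
    have hd5 : F d = v := F5 v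
    have hI2 : I (I v) = (b * v * a⁻¹) * (v * c * d⁻¹) * (a * d * v⁻¹)⁻¹ := by
      rw [hI, hI]
      simp only [map_mul, map_inv, ← ha, ← hb, ← hc, ← hd, hd5]
    rw [hI2]
    exact quad_alg cube o
  have NI : ∀ v, N (I v) = I (N v) := fun v => by
    simp only [hI, map_mul, map_inv, NF]
  -- the subgroup where `N` agrees with `I`
  let W : Subgroup G :=
    { carrier := {q | ∃ hq : q ∈ H.Q, N (mk ⟨q, hq⟩) = I (mk ⟨q, hq⟩)}
      one_mem' := ⟨one_mem _, by rw [show (⟨1, one_mem _⟩ : H.Q) = 1 from rfl, map_one, map_one, map_one]⟩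
      mul_mem' := by
        rintro a b ⟨ha, e1⟩ ⟨hb, e2⟩
        refine ⟨mul_mem ha hb, ?_⟩
        rw [show (⟨a * b, mul_mem ha hb⟩ : H.Q) = ⟨a, ha⟩ * ⟨b, hb⟩ from rfl, map_mul, map_mul, map_mul, e1, e2]
      inv_mem' := by
        rintro a ⟨ha, e1⟩
        refine ⟨inv_mem ha, ?_⟩
        rw [show (⟨a⁻¹, inv_mem ha⟩ : H.Q) = (⟨a, ha⟩ : H.Q)⁻¹ from rfl, map_inv, map_inv, map_inv, e1] }
  have hW : W = H.Z ∨ W = H.Q := by
    refine H.irr (fun m hm => ⟨H.Z_le_Q hm, ?_⟩) (fun a ha => by obtain ⟨h, -⟩ := ha; exact h) ?_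
    · rw [show mk ⟨m, H.Z_le_Q hm⟩ = 1 from (QuotientGroup.eq_one_iff _).mpr hm, map_one, map_one]
    · rintro w ⟨hw, e⟩
      refine ⟨H.Q_conj hfN hw, ?_⟩
      rw [← hFa ⟨w, hw⟩, NF, e]
      simp only [hI, map_mul, map_inv]
  have hpm : (∀ v, N v = I v) ∨ ∀ v, N v = (I v)⁻¹ := by
    rcases hW with hW | hW
    · right
      intro v
      have hker : ∀ u, N u = I u → u = 1 := by
        intro u
        induction u using QuotientGroup.induction_on with | _ x => ?_
        intro hu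
        have hxW : (x : G) ∈ W := ⟨x.2, hu⟩
        rw [hW] at hxW
        exact (QuotientGroup.eq_one_iff x).mpr hxW
      have hx := hker (N v * I v) (by rw [map_mul, map_mul, NN, II, NI]; ac_rfl)
      exact eq_inv_of_mul_eq_one_left hx
    · left
      intro v
      induction v using QuotientGroup.induction_on with | _ x => ?_
      obtain ⟨_, e⟩ := (hW.symm ▸ x.2 : (x : G) ∈ W)
      exact e
  -- the commutator pairing
  let κ : G → G → G := fun x y => x * y * x⁻¹ * y⁻¹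
  have κl : ∀ a a' r, a ∈ H.Q → a' ∈ H.Q → r ∈ H.Q → κ (a * a') r = κ a r * κ a' r := by
    intro a a' r ha ha' hr
    show a * a' * r * (a * a')⁻¹ * r⁻¹ = (a * r * a⁻¹ * r⁻¹) * (a' * r * a'⁻¹ * r⁻¹)
    have h' := H.comm_mem_Z ha' hr
    calc a * a' * r * (a * a')⁻¹ * r⁻¹ = a * (a' * r * a'⁻¹ * r⁻¹) * a⁻¹ * (a * r * a⁻¹ * r⁻¹) := by group
      _ = (a' * r * a'⁻¹ * r⁻¹) * (a * r * a⁻¹ * r⁻¹) := by rw [H.Z_comm h' (H.Q_le_S ha), mul_inv_cancel_right]
      _ = _ := (H.hJc _ (H.Z_le_J h') _ (H.Z_le_J (H.comm_mem_Z ha hr)))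
  have κr : ∀ a r r', a ∈ H.Q → r ∈ H.Q → r' ∈ H.Q → κ a (r * r') = κ a r * κ a r' := by
    intro a r r' ha hr hr'
    show a * (r * r') * a⁻¹ * (r * r')⁻¹ = (a * r * a⁻¹ * r⁻¹) * (a * r' * a⁻¹ * r'⁻¹)
    have h' := H.comm_mem_Z ha hr'
    calc a * (r * r') * a⁻¹ * (r * r')⁻¹ = (a * r * a⁻¹ * r⁻¹) * (r * (a * r' * a⁻¹ * r'⁻¹) * r⁻¹) := by group
      _ = _ := by rw [H.Z_comm h' (H.Q_le_S hr), mul_inv_cancel_right]
  have κcongr : ∀ a a' r : H.Q, mk a = mk a' → κ a r = κ a' r ∧ κ r a = κ r a' := by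
    intro a a' r h
    have hm := (hmk a a').mp h
    set m := (a : G)⁻¹ * a' with hmd
    have e : (a' : G) = a * m := by rw [hmd]; group
    have hmr : m * (r : G) = r * m := (H.Z_comm hm (H.Q_le_S r.2)).symm
    have k1 : κ m r = 1 := by show m * (r : G) * m⁻¹ * (r : G)⁻¹ = 1; rw [hmr]; group
    have k2 : κ r m = 1 := by show (r : G) * m * (r : G)⁻¹ * m⁻¹ = 1; rw [← hmr]; group
    rw [e, κl _ _ _ a.2 (H.Z_le_Q hm) r.2, κr _ _ _ r.2 a.2 (H.Z_le_Q hm), k1, k2, mul_one, mul_one]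
    exact ⟨rfl, rfl⟩
  let K : H.Q ⧸ ZQ → H.Q ⧸ ZQ → G := fun u v => κ (Quotient.out u : H.Q) (Quotient.out v : H.Q)
  have hK : ∀ x y : H.Q, K (mk x) (mk y) = κ x y := by
    intro x y
    show κ _ _ = _
    rw [(κcongr _ x (Quotient.out (mk y)) (QuotientGroup.out_eq' (mk x))).1,
      (κcongr _ y x (QuotientGroup.out_eq' (mk y))).2]
  have Kl : ∀ u u' v, K (u * u') v = K u v * K u' v := by
    intro u u' v
    induction u using QuotientGroup.induction_on with | _ x => ?_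
    induction u' using QuotientGroup.induction_on with | _ x' => ?_
    induction v using QuotientGroup.induction_on with | _ y => ?_
    change K (mk x * mk x') (mk y) = K (mk x) (mk y) * K (mk x') (mk y)
    rw [← map_mul, hK, hK, hK]; exact κl _ _ _ x.2 x'.2 y.2
  have Kr : ∀ u v v', K u (v * v') = K u v * K u v' := by
    intro u v v'
    induction u using QuotientGroup.induction_on with | _ x => ?_
    induction v using QuotientGroup.induction_on with | _ y => ?_
    induction v' using QuotientGroup.induction_on with | _ y' => ?_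
    change K (mk x) (mk y * mk y') = K (mk x) (mk y) * K (mk x) (mk y')
    rw [← map_mul, hK, hK, hK]; exact κr _ _ _ x.2 y.2 y'.2
  have K1l : ∀ v, K 1 v = 1 := fun v => by have := Kl 1 1 v; rw [one_mul] at this; exact mul_eq_left.mp this.symm
  have K1r : ∀ v, K v 1 = 1 := fun v => by have := Kr v 1 1; rw [one_mul] at this; exact mul_eq_left.mp this.symm
  have Kli : ∀ u v, K u⁻¹ v = (K u v)⁻¹ := fun u v => eq_inv_of_mul_eq_one_left (by
    rw [← Kl, inv_mul_cancel, K1l])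
  have Kri : ∀ u v, K u v⁻¹ = (K u v)⁻¹ := fun u v => eq_inv_of_mul_eq_one_left (by
    rw [← Kr, inv_mul_cancel, K1r])
  have Kmem : ∀ u v, K u v ∈ H.Z := fun u v => H.comm_mem_Z (Quotient.out u).2 (Quotient.out v).2
  have inv_of : ∀ g : G, g * H.z * g⁻¹ = H.z → ∀ x y : G, x ∈ H.Q → y ∈ H.Q →
      κ (g * x * g⁻¹) (g * y * g⁻¹) = κ x y := by
    intro g hg x y hx hy
    show (g * x * g⁻¹) * (g * y * g⁻¹) * (g * x * g⁻¹)⁻¹ * (g * y * g⁻¹)⁻¹ = x * y * x⁻¹ * y⁻¹
    rw [show (g * x * g⁻¹) * (g * y * g⁻¹) * (g * x * g⁻¹)⁻¹ * (g * y * g⁻¹)⁻¹ =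
      g * (x * y * x⁻¹ * y⁻¹) * g⁻¹ by group]
    rcases H.mem_Z_cases (H.comm_mem_Z hx hy) with e | e | e <;> rw [e]
    · simp
    · exact hg
    · rw [show g * H.z⁻¹ * g⁻¹ = (g * H.z * g⁻¹)⁻¹ by group, hg]
  have KN : ∀ u v, K (N u) (N v) = K u v := by
    intro u v
    induction u using QuotientGroup.induction_on with | _ x => ?_
    induction v using QuotientGroup.induction_on with | _ y => ?_
    change K (N (mk x)) (N (mk y)) = K (mk x) (mk y)
    rw [hNa, hNa, hK, hK]; exact inv_of n hz _ _ x.2 y.2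
  have KF : ∀ u v, K (F u) (F v) = K u v := by
    intro u v
    induction u using QuotientGroup.induction_on with | _ x => ?_
    induction v using QuotientGroup.induction_on with | _ y => ?_
    change K (F (mk x)) (F (mk y)) = K (mk x) (mk y)
    rw [hFa, hFa, hK, hK]; exact inv_of _ (H.Z_conj_L0 hfL) _ _ x.2 y.2
  have KI : ∀ u v, K (I u) v = K u (I v) := by
    intro u v
    have h1 : K (F u) v = K u (F (F (F (F v)))) := by
      conv_lhs => rw [← F5 v]
      rw [KF]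
    have h4 : K (F (F (F (F u)))) v = K u (F v) := by
      conv_lhs => rw [← F5 v]
      rw [KF, KF, KF, KF]
    rw [hI, hI, Kl, Kl, Kr, Kr, Kli, Kri, h1, h4]
    rw [H.hJc _ (H.Z_le_J (Kmem u (F (F (F (F v)))))) _ (H.Z_le_J (Kmem u (F v)))]
  have hNadj : ∀ u v, K (N u) v = K u (N v) := by
    intro u v
    rcases hpm with h | h <;> rw [h, h]
    · exact KI u v
    · rw [Kli, Kri, KI]
  have hzero : ∀ u v, K u v = 1 := by
    intro u v
    have h1 : K u v = (K u v)⁻¹ := by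
      conv_lhs => rw [← KN u v, hNadj, NN, Kri]
    have h2 := mul_eq_one_iff_eq_inv.mpr h1
    have h3 := H.hQexp _ (H.Z_le_Q (Kmem u v))
    rwa [pow_succ, pow_two, h2, one_mul] at h3
  have hcen : Subgroup.center H.Q = ⊤ := by
    rw [eq_top_iff]
    intro x _
    refine Subgroup.mem_center_iff.mpr fun y => Subtype.ext ?_
    have := hzero (mk y) (mk x)
    rw [hK] at this
    show (y : G) * x = x * y
    exact mul_inv_eq_iff_eq_mul.mp (mul_inv_eq_one.mp this)
  have := H.hQex.2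
  rw [hcen, Subgroup.card_top, H.hQcard] at this
  norm_num at this

include D in
theorem ker_cases {n : G} (hn : n ∈ H.N1) (hθ : H.θ ⟨n, hn⟩ = 1) (hz : n * H.z * n⁻¹ = H.z) :
    n ∈ H.Z ∨ H.t * n ∈ H.Z := by
  -- elements acting trivially on `J`
  have triv : ∀ m : G, ∀ hm : m ∈ H.N1, H.θ ⟨m, hm⟩ = 1 → m ∈ H.J → m ∈ H.Z := by
    intro m hm hmθ hmJ
    obtain ⟨v, hv⟩ := D.F.surj m hmJ
    have htv : tauV v = v := D.F.inj (by rw [← D.F.t_act, hv, H.mem_C.mp hm.1])
    rw [tau_fixed v htv, D.F.map_add, D.F.map_nsmul', D.F.map_nsmul', D.F.map_z] at hv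
    have hzp : H.z ^ v.1.val ∈ H.Z := pow_mem H.z_spec.1 _
    change H.z ^ v.1.val * D.b ^ v.2.2.2.val = m at hv
    have hbK : D.b ^ v.2.2.2.val ∈ H.K := pow_mem D.b_K _
    have hmK : m ∈ H.K := hv ▸ mul_mem (H.Z_le_K hzp) hbK
    have h := H.K_pm hbK ?_
    · rcases h with h | h
      · rw [← hv]; exact mul_mem hzp h
      · exfalso
        have : H.t ∈ H.J := by
          have := mul_mem (H.Z_le_J h) (inv_mem (pow_mem D.b_J v.2.2.2.val))
          rwa [mul_inv_cancel_right] at this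
        have h3 := H.hJexp _ this
        rw [pow_succ, pow_two, H.t_sq, one_mul] at h3
        exact H.t_not_Q (h3 ▸ one_mem _)
    · have h := (H.θ_K hmK).mp hmθ
      rw [show (⟨m, hmK.2⟩ : H.L0) = ⟨H.z ^ v.1.val, (H.Z_le_K hzp).2⟩ * ⟨D.b ^ v.2.2.2.val, hbK.2⟩ from
        Subtype.ext hv.symm, map_mul, (H.piL_ker ⟨H.z ^ v.1.val, (H.Z_le_K hzp).2⟩).mpr (H.Z_le_Q hzp),
        one_mul] at h
      exact h
  have htθ : H.θ ⟨H.t, H.K_le_N1 H.t_mem_K⟩ = 1 := (H.θ_K H.t_mem_K).mpr (Or.inr H.piL_t)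
  obtain ⟨hJ, hB⟩ := D.ker_b hn hθ
  have h11 : (1 : ZMod 3) ≠ 0 := by decide
  obtain ⟨p, q, r, s, e1, e2, e3, hact⟩ :=
    D.diag hJ (a := 1) (b := 1) h11 h11 (by rw [(D.z_dir hJ).1 hz]; rfl) (by rw [hB]; rfl)
  have h5 := Data.five_ker hn hθ
  have finish_tau : ∀ m : G, ∀ hm : m ∈ H.N1, H.θ ⟨m, hm⟩ = 1 → ∀ hmJ : m ∈ H.NJ,
      (∀ v, D.F.act hmJ v = tauV v) → H.t * m ∈ H.Z := by
    intro m hm hmθ hmJ h
    refine triv (H.t * m) (mul_mem (H.K_le_N1 H.t_mem_K) hm) ?_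
      (D.F.act_id_mem (mul_mem H.t_NJ hmJ) fun v => by
        rw [D.F.act_mul H.t_NJ hmJ, D.toGeo.act_t, h]; simp [tauV])
    rw [show (⟨H.t * m, _⟩ : H.N1) = ⟨H.t, H.K_le_N1 H.t_mem_K⟩ * ⟨m, hm⟩ from rfl, map_mul, hmθ, htθ, one_mul]
  rcases orth_cases p q r s (by rw [e1, one_mul]) (by rw [e2, one_mul]) (by rw [e3, one_mul, one_mul]) with
    h | h | ⟨u1, u2, hu, hfix⟩ | h
  · exact Or.inl (triv n hn hθ (D.F.act_id_mem hJ fun v => by rw [hact, h]))
  · exact Or.inr (finish_tau n hn hθ hJ fun v => by rw [hact, h])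
  · -- a fixed vector
    have hW : H.modCentN n hn.2 = H.Q := by
      refine (H.modCentN_cases n hn.2 h5).resolve_left fun hW => ?_
      have hmem : D.F.φ (0, u1, u2, 0) ∈ H.modCentN n hn.2 := ⟨(D.F.mem_Q _).mpr rfl, by
        rw [D.F.comm_eq hJ, hact, hfix, add_neg_cancel, D.F.map_zero']; exact one_mem _⟩
      rw [hW] at hmem
      rcases H.mem_Z_cases hmem with e | e | e
      · exact hu (by
          have := D.F.inj (e.trans D.F.map_zero'.symm)
          simp [Prod.ext_iff] at this ⊢; exact this)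
      · exact mid_ne_smul u1 u2 hu 1 (D.F.inj (by
          rw [e, D.F.map_nsmul', D.F.map_z]; exact (pow_one _).symm))
      · refine mid_ne_smul u1 u2 hu 2 (D.F.inj ?_)
        rw [e, D.F.map_nsmul', D.F.map_z]
        refine inv_eq_of_mul_eq_one_right ?_
        show H.z * H.z ^ 2 = 1
        rw [← pow_succ', H.z_spec.2.1]
    have hmid : ∀ v, v.2.2.2 = 0 → (dMap 1 1 p q r s v).2 = v.2 := by
      intro v hv
      have hmem : D.F.φ v ∈ H.modCentN n hn.2 := hW.symm ▸ (D.F.mem_Q v).mpr hv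
      obtain ⟨-, hc⟩ := hmem
      rw [D.F.comm_eq hJ, hact] at hc
      obtain ⟨c, hc'⟩ : ∃ c : ZMod 3, dMap 1 1 p q r s v + -v = c.val • eZ := by
        rcases H.mem_Z_cases hc with e | e | e
        · exact ⟨0, D.F.inj (by rw [e, D.F.map_nsmul', ZMod.val_zero, pow_zero])⟩
        · exact ⟨1, D.F.inj (by rw [e, D.F.map_nsmul', D.F.map_z]; exact (pow_one _).symm)⟩
        · refine ⟨2, D.F.inj ?_⟩
          rw [e, D.F.map_nsmul', D.F.map_z]
          refine inv_eq_of_mul_eq_one_right ?_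
          show H.z * H.z ^ 2 = 1
          rw [← pow_succ', H.z_spec.2.1]
      rw [show dMap 1 1 p q r s v = c.val • eZ + v by rw [← hc', neg_add_cancel_right], eZ_shift]
    have := middle_id p q r s (hmid eA rfl) (hmid eC rfl)
    exact Or.inl (triv n hn hθ (D.F.act_id_mem hJ fun v => by rw [hact, this]))
  · -- a rotation
    exfalso
    have hnn : n * n ∈ H.N1 := mul_mem hn hn
    have h2 : H.t * (n * n) ∈ H.Z := finish_tau (n * n) hnn
      (by rw [show (⟨n * n, hnn⟩ : H.N1) = ⟨n, hn⟩ * ⟨n, hn⟩ from rfl, map_mul, hθ, one_mul])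
      (mul_mem hJ hJ) fun v => by rw [D.F.act_mul hJ hJ, hact, hact, h]
    have hn3 : n ^ 3 ∈ H.N1 := pow_mem hn 3
    refine no_rotation (n := n ^ 3) hn3.2 ?_ ?_ ?_
    · have hc : Commute n H.z := mul_inv_eq_iff_eq_mul.mp hz
      rw [(hc.pow_left 3).eq, mul_inv_cancel_right]
    · exact ((show Commute n H.five from h5).pow_left 3).eq
    · have hc : Commute H.t (H.t * (n * n)) := H.t_comm_Z h2
      calc n ^ 3 * n ^ 3 = (H.t * (H.t * (n * n))) ^ 3 := by
            rw [← mul_assoc H.t, H.t_sq, one_mul, ← pow_two, ← pow_two, ← pow_mul, ← pow_mul]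
        _ = H.t ^ 3 * (H.t * (n * n)) ^ 3 := hc.mul_pow 3
        _ = H.t := by rw [H.hQexp _ (H.Z_le_Q h2), mul_one, pow_succ, pow_two, H.t_sq, one_mul]

end Data

end CfsgLib.McLThree
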