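import Cfsg.Agent.Lib.McLThree.CentY
import Cfsg.Agent.Lib.McLThree.Kernel2

/-!
# The subgroup generated by the two fixed lines
-/

set_option autoImplicit false
set_option linter.unusedSectionVars false

namespace CfsgLib.McLThree

theorem mixed_qf : ∀ i j : ZMod 3, i ≠ 0 → j ≠ 0 → qf ((i, 0, 0, j) : V4) ≠ 0 := by decide +kernel

theorem line_facts : ∀ a j : ZMod 3, a ≠ 0 →
    (j * a).val • ((0, 0, 0, a) : V4) = (0, 0, 0, j) ∧
    ∀ i : ZMod 3, (j * a).val • ((i, 0, 0, 0) : V4) = ((j * a * i).val • eZ) ∧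
      ((i, 0, 0, 0) : V4) = i.val • eZ := by decide +kernel

theorem swap_lines : ∀ a : ZMod 3, a ≠ 0 → ∀ A B : V4,
    (A = eZ ∨ A = -eZ ∨ A = eB ∨ A = -eB) → (B = eZ ∨ B = -eZ ∨ B = eB ∨ B = -eB) →
    A + a.val • B = (1, 0, 0, a) →
    (A = eZ ∧ B = eB) ∨ (A = a.val • eB ∧ B = a.val • eZ) := by
  intro a ha A B hA hB
  rcases zmod_ne_zero a ha with rfl | rfl <;> rcases hA with rfl | rfl | rfl | rfl <;>
    rcases hB with rfl | rfl | rfl | rfl <;> decide +kernel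

namespace Data

variable {G : Type*} [Group G] [Finite G] {H : Hyp G} (D : Data H)

/-- An involution interchanging the two lines. -/
def g3 : G := D.g ^ 3

theorem gg_J : D.g * D.g ∈ H.J :=
  D.F.act_id_mem (mul_mem (H.M0_le D.hg) (H.M0_le D.hg)) fun v => by
    rw [D.F.act_mul (H.M0_le D.hg) (H.M0_le D.hg), D.g_act, D.g_act,
      (gMap_facts D.ga D.gp D.gq D.ga0 D.gpq v).1]

theorem g3_NJ : D.g3 ∈ H.NJ := pow_mem (H.M0_le D.hg) 3

theorem g3_sq : D.g3 * D.g3 = 1 := by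
  rw [g3, ← (Commute.refl D.g).mul_pow 3, H.hJexp _ D.gg_J]

theorem g3_inv : D.g3⁻¹ = D.g3 := inv_eq_of_mul_eq_one_left D.g3_sq

theorem g3_C : D.g3 ∈ H.C := pow_mem (H.mem_C.mpr D.g_t) 3

theorem g3_act (v : V4) : D.F.act D.g3_NJ v = gMap D.ga D.gp D.gq v := by
  rw [Geo.act_congr D.toGeo (show D.g3 = D.g * (D.g * D.g) by rw [g3, pow_succ, pow_two, mul_assoc])
      D.g3_NJ (mul_mem (H.M0_le D.hg) (H.M0_le (H.hJM D.gg_J))),
    D.F.act_mul (H.M0_le D.hg) (H.M0_le (H.hJM D.gg_J)), D.F.act_of_J _ D.gg_J, D.g_act]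

/-- The conjugate of `z` under the involution. -/
noncomputable def a : G := D.F.φ (0, 0, 0, D.ga)

theorem a_J : D.a ∈ H.J := D.F.mem _

theorem a_C : D.a ∈ H.C := H.mem_C.mpr (by rw [a, D.F.t_act]; simp [tauV])

theorem a_pow : D.a = D.b ^ D.ga.val := by
  rw [a, b, ← D.F.map_nsmul']
  congr 1
  rw [smul_eval]; simp [eB]

theorem b_pow : D.b = D.a ^ D.ga.val := by
  rw [a, b, ← D.F.map_nsmul']
  congr 1
  rw [smul_eval]
  simp only [eB, mul_zero, unit_sq D.ga D.ga0]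

theorem g3_z : D.g3 * H.z * D.g3⁻¹ = D.a := by
  rw [← D.F.map_z, ← D.F.act_spec D.g3_NJ, D.g3_act, a]
  congr 1
  simp [gMap, eZ]

theorem g3_a : D.g3 * D.a * D.g3⁻¹ = H.z := by
  have h := D.g3_z
  rw [D.g3_inv] at h ⊢
  rw [← h, show D.g3 * (D.g3 * H.z * D.g3) * D.g3 = D.g3 * D.g3 * H.z * (D.g3 * D.g3) by group,
    D.g3_sq, one_mul, mul_one]

theorem za_eq : H.z * D.a = D.F.φ (1, 0, 0, D.ga) := by
  rw [a, ← D.F.map_z, ← D.F.map_add]
  congr 1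
  simp [eZ]

/-- The subgroup generated by `z` and `b`. -/
def Dg : Subgroup G where
  carrier := {x | ∃ i j : ZMod 3, D.F.φ (i, 0, 0, j) = x}
  one_mem' := ⟨0, 0, D.F.map_zero'⟩
  mul_mem' := by
    rintro x y ⟨i, j, rfl⟩ ⟨i', j', rfl⟩
    exact ⟨i + i', j + j', by rw [← D.F.map_add]; simp⟩
  inv_mem' := by
    rintro x ⟨i, j, rfl⟩
    exact ⟨-i, -j, by rw [← D.F.map_neg']; simp⟩

theorem z_Dg : H.z ∈ D.Dg := ⟨1, 0, D.F.map_z⟩
theorem a_Dg : D.a ∈ D.Dg := ⟨0, D.ga, rfl⟩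

theorem Dg_le_C : D.Dg ≤ H.C := by
  rintro x ⟨i, j, rfl⟩
  refine H.mem_C.mpr ?_
  rw [D.F.t_act]; simp [tauV]

theorem Dg_pgroup : IsPGroup 3 D.Dg := fun x => ⟨1, Subtype.ext (by
  obtain ⟨i, j, e⟩ := x.2
  show (x : G) ^ (3 ^ 1) = 1
  rw [pow_one]
  exact H.hJexp _ (e ▸ D.F.mem _))⟩

theorem card_Dg : Nat.card D.Dg ≤ 9 := by
  let f : ZMod 3 × ZMod 3 → D.Dg := fun p => ⟨D.F.φ (p.1, 0, 0, p.2), p.1, p.2, rfl⟩
  have hf : Function.Surjective f := fun x => by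
    obtain ⟨i, j, e⟩ := x.2
    exact ⟨(i, j), Subtype.ext e⟩
  have := Nat.card_le_card_of_surjective f hf
  simpa using this

/-- A conjugate of `z` in `⟨z, b⟩` lies on one of the two lines. -/
theorem not_mixed {x : G} {i j : ZMod 3} (hi : i ≠ 0) (hj : j ≠ 0) :
    x * H.z * x⁻¹ ≠ D.F.φ (i, 0, 0, j) := by
  intro e
  have hS : ∀ s ∈ (H.S : Subgroup G), x * s * x⁻¹ ∈ H.NJ := fun s hs => D.cent_y i j hi hj (by
    rw [← e]
    calc x * s * x⁻¹ * (x * H.z * x⁻¹) = x * (s * H.z) * x⁻¹ := by group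
      _ = x * (H.z * s) * x⁻¹ := by rw [H.Z_comm H.z_spec.1 hs]
      _ = _ := by group)
  haveI : Fact (Nat.Prime 3) := ⟨Nat.prime_three⟩
  let S' : Sylow 3 G := x • H.S
  have hle : (S' : Subgroup G) ≤ H.NJ := by
    intro u hu
    change u ∈ ((x • H.S : Sylow 3 G) : Subgroup G) at hu
    rw [Sylow.coe_subgroup_smul] at hu
    obtain ⟨s, hs, rfl⟩ := hu
    exact hS s hs
  have hJp : IsPGroup 3 H.J := IsPGroup.of_card (n := 4) (by rw [H.hJcard]; norm_num)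
  have hsup := S'.3 (IsPGroup.to_sup_of_normal_left' hJp S'.2 hle) le_sup_right
  have hx : x⁻¹ ∈ H.NJ := H.weakly_closed fun u hu => by
    have hu' : u ∈ ((x • H.S : Sylow 3 G) : Subgroup G) := hsup ▸ Subgroup.mem_sup_left hu
    rw [Sylow.coe_subgroup_smul] at hu'
    obtain ⟨s, hs, rfl⟩ := hu'
    show x⁻¹ * (x * s * x⁻¹) * x⁻¹⁻¹ ∈ _
    rw [show x⁻¹ * (x * s * x⁻¹) * x⁻¹⁻¹ = s by group]
    exact hs
  have hxJ : x ∈ H.NJ := inv_inv x ▸ inv_mem hx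
  have hact : D.F.act hxJ eZ = (i, 0, 0, j) := D.F.act_eq _ (by rw [D.F.map_z]; exact e)
  have := (D.toGeo.zero_act hxJ eZ).mp qf_facts.1
  rw [hact] at this
  exact mixed_qf i j hi hj this

theorem z_ne_pow_a (k : ℕ) : H.z ≠ D.a ^ k := by
  intro e
  rw [a, ← D.F.map_nsmul', ← D.F.map_z] at e
  have := congrArg Prod.fst (D.F.inj e)
  simp [eZ] at this

theorem a_ne_pow_z (k : ℕ) : D.a ≠ H.z ^ k := by
  intro e
  rw [a, ← D.F.map_z, ← D.F.map_nsmul'] at e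
  have := congrArg (fun v : V4 => v.2.2.2) (D.F.inj e)
  simp [eZ] at this
  exact D.ga0 this

/-- A three-group in the centralizer of `t` containing `⟨z, b⟩` is equal to it. -/
theorem Dg_max {P : Subgroup G} (hP : IsPGroup 3 P) (hPC : P ≤ H.C) (hDP : D.Dg ≤ P) : P ≤ D.Dg := by
  by_contra hne
  haveI : Fact (Nat.Prime 3) := ⟨Nat.prime_three⟩
  haveI := hP.isNilpotent
  obtain ⟨xP, hxn, hxD⟩ : ∃ x : P, x ∈ Subgroup.normalizer (D.Dg.subgroupOf P : Set P) ∧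
      x ∉ D.Dg.subgroupOf P := by
    have hlt : D.Dg.subgroupOf P < ⊤ := lt_top_iff_ne_top.mpr fun e => hne fun y hy =>
      (e ▸ Subgroup.mem_top (⟨y, hy⟩ : P) : (⟨y, hy⟩ : P) ∈ D.Dg.subgroupOf P)
    exact SetLike.exists_of_lt (Group.normalizerCondition_of_isNilpotent _ hlt)
  obtain ⟨x, hxP⟩ := xP
  apply hxD
  show x ∈ D.Dg
  have hconj : ∀ d ∈ D.Dg, x * d * x⁻¹ ∈ D.Dg := fun d hd =>
    (Subgroup.mem_normalizer_iff.mp hxn ⟨d, hDP hd⟩).mp hd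
  obtain ⟨k, hk⟩ := hP ⟨x, hxP⟩
  have hxk : x ^ (3 ^ k) = 1 := congrArg Subtype.val hk
  obtain ⟨m, hm⟩ : Odd (3 ^ k) := Odd.pow (by decide)
  have hhalf : (x * x) ^ (m + 1) = x := by
    rw [← pow_two, ← pow_mul, show 2 * (m + 1) = 3 ^ k + 1 by omega, pow_succ, hxk, one_mul]
  have hline : ∀ w : G, x * w * x⁻¹ ∈ D.Dg → (∃ y : G, y * H.z * y⁻¹ = x * w * x⁻¹) →
      (∃ i : ZMod 3, x * w * x⁻¹ = D.F.φ (i, 0, 0, 0)) ∨ ∃ j : ZMod 3, x * w * x⁻¹ = D.F.φ (0, 0, 0, j) := by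
    rintro w ⟨i, j, e⟩ ⟨y, hy⟩
    by_cases hj : j = 0
    · exact Or.inl ⟨i, by rw [← e, hj]⟩
    by_cases hi : i = 0
    · exact Or.inr ⟨j, by rw [← e, hi]⟩
    exact absurd (hy.trans e.symm) (D.not_mixed hi hj)
  have hz := hline H.z (hconj _ D.z_Dg) ⟨x, rfl⟩
  have ha := hline D.a (hconj _ D.a_Dg) ⟨x * D.g3, by rw [← D.g3_z]; group⟩
  have conj_inj : ∀ u v : G, x * u * x⁻¹ = x * v * x⁻¹ → u = v := fun u v e =>
    (MulAut.conj x).injective e
  have hzline : ∀ i : ZMod 3, D.F.φ (i, 0, 0, 0) = H.z ^ i.val := fun i => by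
    rw [← D.F.map_z, ← D.F.map_nsmul', ← ((line_facts 1 0 one_ne_zero).2 i).2]
  have haline : ∀ j : ZMod 3, D.F.φ (0, 0, 0, j) = D.a ^ (j * D.ga).val := fun j => by
    rw [a, ← D.F.map_nsmul', (line_facts D.ga j D.ga0).1]
  have hxz2 : x * x * H.z * (x * x)⁻¹ = H.z ∨ x * x * H.z * (x * x)⁻¹ = H.z⁻¹ := by
    have hmem : x * x * H.z * (x * x)⁻¹ ∈ H.Z := by
      rcases hz with ⟨i, e⟩ | ⟨j, e⟩
      · rw [show x * x * H.z * (x * x)⁻¹ = x * (x * H.z * x⁻¹) * x⁻¹ by group, e, hzline, ← conj_pow, e,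
          hzline, ← pow_mul]
        exact pow_mem H.z_spec.1 _
      · rcases ha with ⟨i', e'⟩ | ⟨j', e'⟩
        · rw [show x * x * H.z * (x * x)⁻¹ = x * (x * H.z * x⁻¹) * x⁻¹ by group, e, haline, ← conj_pow, e',
            hzline, ← pow_mul]
          exact pow_mem H.z_spec.1 _
        · exfalso
          refine D.z_ne_pow_a (j * j').val (conj_inj _ _ ?_)
          rw [e, ← conj_pow, e', ← D.F.map_nsmul']
          congr 1
          rw [smul_eval]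
          have hj' : j' ≠ 0 := fun h => by
            rw [h] at e'
            have hd : x * D.a * x⁻¹ = 1 := e'.trans D.F.map_zero'
            exact D.a_ne_pow_z 0 ((conj_eq_one_iff.mp hd).trans (pow_zero _).symm)
          simp only [mul_zero, mul_assoc, unit_sq j' hj', mul_one]
    rcases H.mem_Z_cases hmem with e | e | e
    · exact absurd (conj_eq_one_iff.mp e) H.z_spec.2.2.1
    · exact Or.inl e
    · exact Or.inr e
  have hxN : x ∈ H.NZ := by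
    rw [← hhalf]
    refine pow_mem ?_ _
    show x * x ∈ Subgroup.normalizer (H.Z : Set G)
    rw [← H.z_spec.2.2.2, Subgroup.mem_normalizer_iff_map_conj_eq, MonoidHom.map_zpowers]
    show Subgroup.zpowers (x * x * H.z * (x * x)⁻¹) = _
    rcases hxz2 with e | e <;> rw [e]
    exact Subgroup.zpowers_inv
  have hxK : x ∈ H.K := ⟨hPC hxP, H.three_mem_L0 hxN (by
    obtain ⟨l, hl, hl'⟩ := (Nat.dvd_prime_pow Nat.prime_three).mp (orderOf_dvd_of_pow_eq_one hxk)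
    exact ⟨l, hl'⟩)⟩
  have hxz : x * H.z * x⁻¹ = H.z := H.Z_conj_L0 hxK.2
  obtain ⟨j, hj⟩ : ∃ j, x * D.a * x⁻¹ = D.F.φ (0, 0, 0, j) := by
    refine ha.resolve_left ?_
    rintro ⟨i, e⟩
    refine D.a_ne_pow_z i.val (conj_inj _ _ ?_)
    rw [e, hzline, ← conj_pow, hxz]
  have hja : x * D.a * x⁻¹ = D.a ^ (j * D.ga).val := hj.trans (haline j)
  have hcomm : Commute x D.a := by
    have h2 : Commute (x * x) D.a := by
      refine mul_inv_eq_iff_eq_mul.mp ?_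
      rw [show x * x * D.a * (x * x)⁻¹ = x * (x * D.a * x⁻¹) * x⁻¹ by group, hja, ← conj_pow, hja, a,
        ← D.F.map_nsmul', ← D.F.map_nsmul']
      congr 1
      rw [smul_eval, smul_eval]
      have hj0 : j ≠ 0 := fun h => by
        rw [h] at hj
        have hd : x * D.a * x⁻¹ = 1 := hj.trans D.F.map_zero'
        exact D.a_ne_pow_z 0 ((conj_eq_one_iff.mp hd).trans (pow_zero _).symm)
      simp only [mul_zero]
      have hu : (j * D.ga) * (j * D.ga) = 1 := by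
        rw [mul_mul_mul_comm, unit_sq j hj0, unit_sq D.ga D.ga0, one_mul]
      rw [← mul_assoc, hu, one_mul]
    rw [← hhalf]; exact h2.pow_left _
  have hxb : x * D.b * x⁻¹ = D.b := by
    rw [D.b_pow, (hcomm.pow_right _).eq, mul_inv_cancel_right]
  obtain ⟨i, hi⟩ := D.K_cent_b hxK hxb
  have hbD : D.b ∈ D.Dg := by rw [D.b_pow]; exact pow_mem D.a_Dg _
  have hZD : ∀ m ∈ H.Z, m ∈ D.Dg := fun m hm => by
    obtain ⟨l, e⟩ : ∃ l : ℕ, m = H.z ^ l := by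
      rcases H.mem_Z_cases hm with e | e | e
      · exact ⟨0, by simpa using e⟩
      · exact ⟨1, by simpa using e⟩
      · refine ⟨2, e.trans (inv_eq_of_mul_eq_one_right ?_)⟩
        rw [← pow_succ', H.z_spec.2.1]
    rw [e]; exact pow_mem D.z_Dg l
  rcases hi with h | h
  · have := mul_mem (hZD _ h) (pow_mem hbD i)
    rwa [inv_mul_cancel_right] at this
  · exfalso
    have htP : H.t ∈ P := by
      have := mul_mem (hDP (hZD _ h)) (inv_mem (mul_mem hxP (inv_mem (pow_mem (hDP hbD) i))))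
      rwa [mul_inv_cancel_right] at this
    obtain ⟨l, hl⟩ := hP ⟨H.t, htP⟩
    have hl' : H.t ^ (3 ^ l) = 1 := congrArg Subtype.val hl
    obtain ⟨r, hr⟩ : Odd (3 ^ l) := Odd.pow (by decide)
    rw [hr, pow_succ, pow_mul, pow_two, H.t_sq, one_pow, one_mul] at hl'
    exact H.t_not_Q (hl' ▸ one_mem _)

/-- The centralizer of `z * a` in the centralizer of `t` lies in the stabilizer of the lines. -/
theorem cent_za {x : G} (hxC : x ∈ H.C) (hx : x * (H.z * D.a) = H.z * D.a * x) :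
    (x * H.z * x⁻¹ = H.z ∧ x * D.b * x⁻¹ = D.b) ∨
      (x * D.g3 * H.z * (x * D.g3)⁻¹ = H.z ∧ x * D.g3 * D.b * (x * D.g3)⁻¹ = D.b) := by
  have h1 : (1 : ZMod 3) ≠ 0 := by decide
  have hxJ : x ∈ H.NJ := D.cent_y 1 D.ga h1 D.ga0 (by rw [← D.za_eq]; exact hx)
  have hfix : D.F.act hxJ (1, 0, 0, D.ga) = (1, 0, 0, D.ga) :=
    D.F.act_eq _ (by rw [← D.za_eq]; exact mul_inv_eq_iff_eq_mul.mpr hx)
  have hdec : ((1, 0, 0, D.ga) : V4) = eZ + D.ga.val • eB := by rw [smul_eval]; simp [eZ, eB]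
  rw [hdec, map_add, map_nsmul, ← hdec] at hfix
  rcases swap_lines D.ga D.ga0 _ _ (D.lines_C hxJ hxC (Or.inl rfl)) (D.lines_C hxJ hxC (Or.inr rfl)) hfix with
    ⟨e1, e2⟩ | ⟨e1, e2⟩
  · left
    exact ⟨by rw [← D.F.map_z, ← D.F.act_spec hxJ, e1], by rw [b, ← D.F.act_spec hxJ, e2]⟩
  · right
    have hcomp : ∀ v, D.F.act (mul_mem hxJ D.g3_NJ) v = D.F.act hxJ (gMap D.ga D.gp D.gq v) := fun v => by
      rw [D.F.act_mul hxJ D.g3_NJ, D.g3_act]
    have gz : gMap D.ga D.gp D.gq eZ = D.ga.val • eB := by rw [smul_eval]; simp [gMap, eZ, eB]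
    have gb : gMap D.ga D.gp D.gq eB = D.ga.val • eZ := by rw [smul_eval]; simp [gMap, eZ, eB]
    have sq : ∀ v : V4, D.ga.val • D.ga.val • v = v := fun v => by
      rw [smul_eval, smul_eval]
      simp only [← mul_assoc, unit_sq D.ga D.ga0, one_mul]
    refine ⟨?_, ?_⟩
    · rw [← D.F.map_z, ← D.F.act_spec (mul_mem hxJ D.g3_NJ), hcomp, gz, map_nsmul, e2, sq]
    · rw [b, ← D.F.act_spec (mul_mem hxJ D.g3_NJ), hcomp, gb, map_nsmul, e1, sq]

end Data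

end CfsgLib.McLThree
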