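import Cfsg.Agent.Lib.McLThree.Sym8Data

/-!
# Involutions of the symmetric group of degree eight with respect to two three-cycles
-/

set_option autoImplicit false
set_option linter.unusedSectionVars false

open Equiv

namespace CfsgLib.McLThree.Sym8

local instance fact_prime_two : Fact (Nat.Prime 2) := ⟨Nat.prime_two⟩

theorem invol_type {x : Perm (Fin 8)} (hx : x * x = 1) :
    x.cycleType = Multiset.replicate x.cycleType.card 2 ∧ x.support.card = x.cycleType.card * 2 := by
  have h := Perm.cycleType_of_pow_prime_eq_one (σ := x) (p := 2) (by rw [pow_two]; exact hx)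
  refine ⟨h, ?_⟩
  rw [← Perm.sum_cycleType]
  conv_lhs => rw [h]
  rw [Multiset.sum_replicate, smul_eq_mul]

theorem invol_conj {x y : Perm (Fin 8)} (hx : x * x = 1) (hy : y * y = 1) (h : x.support.card = y.support.card) :
    IsConj x y := by
  obtain ⟨h1, h2⟩ := invol_type hx
  obtain ⟨h3, h4⟩ := invol_type hy
  rw [Perm.isConj_iff_cycleType_eq, h1, h3]
  congr 1
  omega

theorem invol_sign {x : Perm (Fin 8)} (hx : x * x = 1) : Perm.sign x = (-1) ^ (x.support.card / 2) := by
  obtain ⟨h1, h2⟩ := invol_type hx
  rw [Perm.sign_of_cycleType, Perm.sum_cycleType, h2, Nat.mul_div_cancel _ (by norm_num : 0 < 2), pow_add,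
    mul_comm x.cycleType.card 2, pow_mul, show (-1 : ℤˣ) ^ 2 = 1 from rfl, one_pow, one_mul]

theorem card_support_even {x : Perm (Fin 8)} (hx : x * x = 1) :
    x.support.card % 2 = 0 ∧ x.support.card ≤ 8 := by
  refine ⟨by rw [(invol_type hx).2]; omega, ?_⟩
  simpa using Finset.card_le_univ x.support

theorem three_cycle_of_card {c : Perm (Fin 8)} (h3 : c ^ 3 = 1) (h1 : c ≠ 1)
    (hcard : Nat.card (Subgroup.centralizer ({c} : Set (Perm (Fin 8)))) = 360) : c.IsThreeCycle := by
  haveI : Fact (Nat.Prime 3) := ⟨Nat.prime_three⟩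
  have h := Perm.cycleType_of_pow_prime_eq_one (σ := c) (p := 3) h3
  have hle := Perm.sum_cycleType_le c
  rw [h, Multiset.sum_replicate, smul_eq_mul, Fintype.card_fin] at hle
  have hpos : c.cycleType.card ≠ 0 := fun h0 => h1 (Perm.cycleType_eq_zero.mp (Multiset.card_eq_zero.mp h0))
  have hn : c.cycleType.card = 1 ∨ c.cycleType.card = 2 := by omega
  rcases hn with hn | hn
  · rw [hn] at h
    show c.cycleType = {3}
    rw [h]; rfl
  · exfalso
    rw [hn] at h
    rw [Perm.nat_card_centralizer, h, Fintype.card_fin] at hcard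
    simp [Multiset.replicate, Nat.factorial] at hcard

theorem support_eq {c : Perm (Fin 8)} (hc : c.IsThreeCycle) {p : Fin 8} (hp : p ∈ c.support) :
    c.support = {p, c p, c (c p)} ∧ c (c (c p)) = p := by
  have h3 : c ^ 3 = 1 := by rw [← hc.orderOf]; exact pow_orderOf_eq_one c
  have hccc : c (c (c p)) = p := by
    have := congrArg (fun σ : Perm (Fin 8) => σ p) h3
    simpa [pow_succ, pow_zero] using this
  refine ⟨(Finset.eq_of_subset_of_card_le ?_ ?_).symm, hccc⟩
  · intro q hq
    simp only [Finset.mem_insert, Finset.mem_singleton] at hq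
    rcases hq with rfl | rfl | rfl
    · exact hp
    · exact Perm.apply_mem_support.mpr hp
    · exact Perm.apply_mem_support.mpr (Perm.apply_mem_support.mpr hp)
  · have hne : c p ≠ p := Perm.mem_support.mp hp
    have hne2 : c (c p) ≠ p := fun e => hne (by rw [e] at hccc; exact hccc)
    have hne3 : c (c p) ≠ c p := fun e => hne (c.injective e)
    rw [hc.card_support, Finset.card_insert_of_notMem (by simp [hne.symm, hne2.symm]),
      Finset.card_insert_of_notMem (by simp [hne3.symm]), Finset.card_singleton]

/-- An involution inverting a three-cycle fixes one of its points and moves two. -/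
theorem inverter_points {c x : Perm (Fin 8)} (hc : c.IsThreeCycle) (hx : x * x = 1) (hxc : x * c * x⁻¹ = c⁻¹) :
    ∃ q ∈ c.support, x q = q ∧ (x (c q) ≠ c q ∧ x (c (c q)) ≠ c (c q)) := by
  have hcx : ∀ q, x (c q) = c⁻¹ (x q) := fun q => by
    have := congrArg (fun σ : Perm (Fin 8) => σ (x q)) hxc
    simpa using this
  have hne : c.support.Nonempty := Finset.card_pos.mp (by rw [hc.card_support]; norm_num)
  obtain ⟨p, hp⟩ := hne
  obtain ⟨hs, hccc⟩ := support_eq hc hp
  have hinvmem : x p ∈ c.support := by
    rw [Perm.mem_support]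
    intro e
    have h1 := hcx p
    rw [show c⁻¹ (x p) = x p from Perm.inv_eq_iff_eq.mpr e.symm] at h1
    exact Perm.mem_support.mp hp (x.injective h1)
  have hci : c⁻¹ p = c (c p) := Perm.inv_eq_iff_eq.mpr hccc.symm
  obtain ⟨q, hq, hfix⟩ : ∃ q ∈ c.support, x q = q := by
    rw [hs] at hinvmem
    simp only [Finset.mem_insert, Finset.mem_singleton] at hinvmem
    rcases hinvmem with e | e | e
    · exact ⟨p, hp, e⟩
    · refine ⟨c (c p), Perm.apply_mem_support.mpr (Perm.apply_mem_support.mpr hp), ?_⟩
      rw [hcx, hcx, e, ← Perm.mul_apply, ← Perm.mul_apply]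
      simp [hci]
    · refine ⟨c p, Perm.apply_mem_support.mpr hp, ?_⟩
      rw [hcx, e]
      simp
  refine ⟨q, hq, hfix, fun e => ?_, fun e => ?_⟩
  · obtain ⟨-, hq3⟩ := support_eq hc hq
    rw [hcx, hfix, Perm.inv_eq_iff_eq] at e
    have : c q = q := by
      have h2 : c (c q) = q := e.symm
      rw [h2] at hq3
      exact hq3
    exact Perm.mem_support.mp hq this
  · obtain ⟨-, hq3⟩ := support_eq hc hq
    rw [hcx, hcx, hfix] at e
    have e1 : c (c q) = c⁻¹ q := (Perm.inv_eq_iff_eq.mpr hq3.symm).symm
    rw [e1] at e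
    exact Perm.mem_support.mp hq ((Perm.inv_eq_iff_eq.mp (c⁻¹.injective e)).symm)

/-- Commuting three-cycles are powers of each other or disjoint. -/
theorem cycles_disjoint {c d : Perm (Fin 8)} (hc : c.IsThreeCycle) (hd : d.IsThreeCycle) (hcd : Commute c d)
    (h1 : d ≠ c) (h2 : d ≠ c⁻¹) : Disjoint c.support d.support := by
  rw [Finset.disjoint_left]
  intro p hp hpd
  obtain ⟨hs, hccc⟩ := support_eq hc hp
  have hdc : ∀ q, d (c q) = c (d q) := fun q => by
    have := congrArg (fun σ : Perm (Fin 8) => σ q) hcd.eq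
    simpa using this.symm
  have hdp : d p ∈ c.support := (Perm.mem_support_iff_of_commute hcd.symm p).mpr hp
  have finish : ∀ k : Perm (Fin 8), k.support = c.support → (∀ q ∈ c.support, d q = k q) → d = k := by
    intro k hk hagree
    have hsub : c.support ⊆ d.support := fun q hq => by
      rw [Perm.mem_support, hagree q hq, ← Perm.mem_support, hk]; exact hq
    have hsup : d.support = c.support :=
      (Finset.eq_of_subset_of_card_le hsub (by rw [hc.card_support, hd.card_support])).symm
    ext q
    by_cases hq : q ∈ c.support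
    · rw [hagree q hq]
    · rw [Perm.notMem_support.mp (hsup ▸ hq), Perm.notMem_support.mp (hk ▸ hq)]
  rw [hs] at hdp
  simp only [Finset.mem_insert, Finset.mem_singleton] at hdp
  rcases hdp with e | e | e
  · exact Perm.mem_support.mp hpd e
  · refine h1 (finish c rfl fun q hq => ?_)
    rw [hs] at hq
    simp only [Finset.mem_insert, Finset.mem_singleton] at hq
    rcases hq with rfl | rfl | rfl
    · exact e
    · rw [hdc, e]
    · rw [hdc, hdc, e]
  · have hinv : ∀ q, c⁻¹ (c q) = q := fun q => c.symm_apply_apply q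
    refine h2 (finish c⁻¹ (Perm.support_inv c) fun q hq => ?_)
    rw [hs] at hq
    simp only [Finset.mem_insert, Finset.mem_singleton] at hq
    rcases hq with rfl | rfl | rfl
    · rw [e]; exact (Perm.inv_eq_iff_eq.mpr hccc.symm).symm
    · rw [hdc, e, hinv, hccc]
    · rw [hdc, hdc, e, hinv, hccc]

namespace Setup8

variable {G : Type*} [Group G] [Finite G] (S : Setup8 G) (E : G ≃* Perm (Fin 8))

theorem image_z : (E S.z).IsThreeCycle := by
  refine three_cycle_of_card (by rw [← map_pow, S.hz, map_one])
    (fun h => S.z_ne ((map_eq_one_iff E E.injective).mp h)) ?_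
  obtain ⟨eC⟩ := S.exists_eC
  have e1 : Nat.card (Subgroup.centralizer ({E S.z} : Set (Perm (Fin 8)))) =
      Nat.card (Subgroup.centralizer ({S.z} : Set G)) := by
    refine (Nat.card_congr (Equiv.subtypeEquiv E.toEquiv fun x => ?_)).symm
    rw [Subgroup.mem_centralizer_singleton_iff, Subgroup.mem_centralizer_singleton_iff]
    show x * S.z = S.z * x ↔ E x * E S.z = E S.z * E x
    rw [← map_mul, ← map_mul]
    exact E.injective.eq_iff.symm
  rw [e1, Nat.card_congr eC.toEquiv, Nat.card_prod, Nat.card_congr Multiplicative.toAdd, Nat.card_zmod,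
    Nat.card_perm, Nat.card_fin]
  rfl

theorem image_a : (E S.a).IsThreeCycle := by
  have h := S.image_z E
  unfold Perm.IsThreeCycle at h ⊢
  rw [← S.gz, show S.g * S.z * S.g = S.g * S.z * S.g⁻¹ by
      rw [inv_eq_of_mul_eq_one_left S.gg],
    map_mul, map_mul, map_inv, Perm.cycleType_conj]
  exact h

theorem image_disjoint : Disjoint (E S.z).support (E S.a).support := by
  refine cycles_disjoint (S.image_z E) (S.image_a E) (S.za.map E.toMonoidHom) (fun h => ?_) (fun h => ?_)
  · have h' : S.z ^ ((0 : Fin 3) : ℕ) * S.Ω CfsgLib.AltEightThree.cA = S.z ^ ((1 : Fin 3) : ℕ) * S.Ω 1 := by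
      rw [Fin.val_zero, pow_zero, one_mul, ← S.ha, map_one, mul_one, E.injective h]; exact (pow_one _).symm
    exact absurd (S.coord_inj h').1 (by decide)
  · rw [← map_inv] at h
    have h' : S.z ^ ((0 : Fin 3) : ℕ) * S.Ω CfsgLib.AltEightThree.cA = S.z ^ ((2 : Fin 3) : ℕ) * S.Ω 1 := by
      rw [Fin.val_zero, pow_zero, one_mul, ← S.ha, map_one, mul_one, E.injective h]
      refine inv_eq_of_mul_eq_one_right ?_
      show S.z * S.z ^ 2 = 1
      rw [← pow_succ', S.hz]
    exact absurd (S.coord_inj h').1 (by decide)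

/-- An involution inverting both three-cycles moves four or six points. -/
theorem support_inverter {x : G} (hx : x * x = 1) (hz : x * S.z * x⁻¹ = S.z⁻¹) (ha : x * S.a * x⁻¹ = S.a⁻¹) :
    (E x).support.card = 4 ∨ (E x).support.card = 6 := by
  have hX : E x * E x = 1 := by rw [← map_mul, hx, map_one]
  obtain ⟨q, hq, hq1, hq2, hq3⟩ := inverter_points (S.image_z E) hX
    (by rw [← map_inv, ← map_mul, ← map_mul, hz, map_inv])
  obtain ⟨r, hr, hr1, hr2, hr3⟩ := inverter_points (S.image_a E) hX
    (by rw [← map_inv, ← map_mul, ← map_mul, ha, map_inv])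
  have hdis := S.image_disjoint E
  have ne_of : ∀ u v, u ∈ (E S.z).support → v ∈ (E S.a).support → u ≠ v := fun u v hu hv e =>
    Finset.disjoint_left.mp hdis hu (e ▸ hv)
  have mz : ∀ u ∈ (E S.z).support, E S.z u ∈ (E S.z).support := fun u hu => Perm.apply_mem_support.mpr hu
  have ma : ∀ u ∈ (E S.a).support, E S.a u ∈ (E S.a).support := fun u hu => Perm.apply_mem_support.mpr hu
  have hnz : E S.z (E S.z q) ≠ E S.z q := fun e => Perm.mem_support.mp (mz q hq) e
  have hna : E S.a (E S.a r) ≠ E S.a r := fun e => Perm.mem_support.mp (ma r hr) e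
  have hlow : 4 ≤ (E x).support.card := by
    have hsub : ({E S.z q, E S.z (E S.z q), E S.a r, E S.a (E S.a r)} : Finset (Fin 8)) ⊆ (E x).support := by
      intro u hu
      simp only [Finset.mem_insert, Finset.mem_singleton] at hu
      rcases hu with rfl | rfl | rfl | rfl <;> rw [Perm.mem_support] <;> assumption
    refine le_trans (le_of_eq ?_) (Finset.card_le_card hsub)
    rw [Finset.card_insert_of_notMem, Finset.card_insert_of_notMem, Finset.card_insert_of_notMem,
      Finset.card_singleton]
    · simpa using hna.symm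
    · simp only [Finset.mem_insert, Finset.mem_singleton, not_or]
      exact ⟨ne_of _ _ (mz _ (mz q hq)) (ma r hr), ne_of _ _ (mz _ (mz q hq)) (ma _ (ma r hr))⟩
    · simp only [Finset.mem_insert, Finset.mem_singleton, not_or]
      exact ⟨hnz.symm, ne_of _ _ (mz q hq) (ma r hr), ne_of _ _ (mz q hq) (ma _ (ma r hr))⟩
  have hhigh : (E x).support.card ≤ 6 := by
    have hsub : (E x).support ⊆ Finset.univ \ {q, r} := by
      intro u hu
      refine Finset.mem_sdiff.mpr ⟨Finset.mem_univ _, fun h => ?_⟩
      simp only [Finset.mem_insert, Finset.mem_singleton] at h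
      rcases h with rfl | rfl
      · exact Perm.mem_support.mp hu hq1
      · exact Perm.mem_support.mp hu hr1
    refine le_trans (Finset.card_le_card hsub) ?_
    rw [Finset.card_univ_diff, Fintype.card_fin, Finset.card_insert_of_notMem (by simp [ne_of q r hq hr]),
      Finset.card_singleton]
  have := (card_support_even hX).1
  omega

/-- The interchanging involution moves at least six points. -/
theorem support_swapper : (E S.g).support.card = 6 ∨ (E S.g).support.card = 8 := by
  have hX : E S.g * E S.g = 1 := by rw [← map_mul, S.gg, map_one]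
  have hdis := S.image_disjoint E
  have hgi : S.g⁻¹ = S.g := inv_eq_of_mul_eq_one_left S.gg
  have hconj : ∀ u v : G, S.g * u * S.g = v → ∀ p ∈ (E u).support, E S.g p ∈ (E v).support := by
    intro u v e p hp
    rw [← e, Perm.mem_support, map_mul, map_mul, Perm.mul_apply, Perm.mul_apply,
      show E S.g (E S.g p) = p by rw [← Perm.mul_apply, hX, Perm.one_apply]]
    exact fun h => Perm.mem_support.mp hp ((E S.g).injective h)
  have hsub : (E S.z).support ∪ (E S.a).support ⊆ (E S.g).support := by
    intro p hp
    rw [Perm.mem_support]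
    intro e
    rcases Finset.mem_union.mp hp with h | h
    · exact Finset.disjoint_left.mp hdis h (e ▸ hconj _ _ S.gz p h)
    · refine Finset.disjoint_left.mp hdis ?_ h
      exact e ▸ hconj _ _ (by rw [← S.gz, show S.g * (S.g * S.z * S.g) * S.g = (S.g * S.g) * S.z * (S.g * S.g)
        by group, S.gg, one_mul, mul_one]) p h
  have hlow : 6 ≤ (E S.g).support.card := by
    refine le_trans (le_of_eq ?_) (Finset.card_le_card hsub)
    rw [Finset.card_union_of_disjoint hdis, (S.image_z E).card_support, (S.image_a E).card_support]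
  have := card_support_even hX
  omega

end Setup8

end CfsgLib.McLThree.Sym8
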