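import Cfsg.Agent.Lib.McLThree.Lin

/-!
# The stabilizer of two lines
-/

set_option autoImplicit false
set_option maxRecDepth 20000
set_option synthInstance.maxSize 4000
set_option synthInstance.maxHeartbeats 400000

namespace CfsgLib.McLThree

/-- A diagonal map, rotating the middle plane. -/
def eMap (a s : ZMod 3) (v : V4) : V4 := (a * v.1, -s * v.2.2.1, s * v.2.1, a * v.2.2.2)

/-- A map interchanging the lines, reflecting the middle plane. -/
def gMap (a p q : ZMod 3) (v : V4) : V4 :=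
  (a * v.2.2.2, p * v.2.1 + q * v.2.2.1, q * v.2.1 - p * v.2.2.1, a * v.1)

/-- The middle plane part. -/
def mMap (a p q r s : ZMod 3) (v : V4) : V4 :=
  (a * v.1, p * v.2.1 + r * v.2.2.1, q * v.2.1 + s * v.2.2.1, a * v.2.2.2)

theorem rot_cases : ∀ p q r s : ZMod 3, p * p + q * q = 1 → r * r + s * s = 1 →
    (p + r) * (p + r) + (q + s) * (q + s) = 2 →
    (p = 0 ∧ s = 0 ∧ r = -q ∧ q ≠ 0) ∨ ∀ a : ZMod 3, a ≠ 0 → ∀ v, mMap a p q r s (mMap a p q r s v) = v := by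
  decide +kernel

theorem refl_cases : ∀ p q r s : ZMod 3, p * p + q * q = 1 → r * r + s * s = 1 →
    (p + r) * (p + r) + (q + s) * (q + s) = 2 →
    (r = q ∧ s = -p) ∨ ∀ a : ZMod 3, a ≠ 0 → ∀ c : ZMod 3, c ≠ 0 → ∀ e : ZMod 3, e ≠ 0 → ∀ v,
      sw (mMap a p q r s (eMap c e v)) = eMap c e (sw (mMap a p q r s v)) := by decide +kernel

theorem eMap_facts : ∀ a s : ZMod 3, a ≠ 0 → s ≠ 0 → ∀ v,
    eMap a s (eMap a s v) = (v.1, -v.2.1, -v.2.2.1, v.2.2.2) ∧ qf (eMap a s v) = qf v := by decide +kernel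

theorem gMap_facts : ∀ a p q : ZMod 3, a ≠ 0 → p * p + q * q = 1 → ∀ v,
    gMap a p q (gMap a p q v) = v ∧ ∀ c s : ZMod 3, c ≠ 0 → s ≠ 0 →
      gMap a p q (eMap c s (gMap a p q (eMap c s v))) = v := by decide +kernel

theorem sign_eq : ∀ a p q c s : ZMod 3, a ≠ 0 → c ≠ 0 → s ≠ 0 → p * p + q * q = 1 →
    (∃ v : V4, v ≠ 0 ∧ qf v = 0 ∧ gMap a p q v = v) →
    (∃ v : V4, v ≠ 0 ∧ qf v = 0 ∧ gMap a p q (eMap c s v) = v) → c = 2 := by decide +kernel

theorem sw_mMap : ∀ a p q : ZMod 3, ∀ v, sw (mMap a p q q (-p) v) = gMap a p q v := by decide +kernel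

theorem maps_tau : ∀ a p q : ZMod 3, ∀ v : V4,
    eMap a p (v.1, -v.2.1, -v.2.2.1, v.2.2.2) =
      ((eMap a p v).1, -(eMap a p v).2.1, -(eMap a p v).2.2.1, (eMap a p v).2.2.2) ∧
    gMap a p q (v.1, -v.2.1, -v.2.2.1, v.2.2.2) =
      ((gMap a p q v).1, -(gMap a p q v).2.1, -(gMap a p q v).2.2.1, (gMap a p q v).2.2.2) := by decide +kernel

end CfsgLib.McLThree
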