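import Cfsg.Agent.Lib.McLThree.Orbit
import Cfsg.Agent.Lib.McLThree.Maps

/-!
# Elements of the normalizer of `J` centralizing the involution
-/

set_option autoImplicit false
set_option linter.unusedSectionVars false

namespace CfsgLib.McLThree

theorem lift_unique : ∀ w w' : ZMod 3 × ZMod 3, tr 1 w eB = tr 1 w' eB ∨ tr 1 w eB = -tr 1 w' eB → w = w' := by
  decide +kernel

theorem tr_eB_ne : ∀ w : ZMod 3 × ZMod 3, tr 1 w eB ≠ 0 ∧ tr 1 w eB ≠ eZ ∧ tr 1 w eB ≠ -eZ := by decide +kernel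

theorem unit_sq : ∀ μ : ZMod 3, μ ≠ 0 → μ * μ = 1 := by decide

theorem unit_inv : ∀ a b : ZMod 3, a * b = 1 → b = a := by decide

theorem qf_facts : qf eZ = 0 ∧ qf eB = 0 ∧ qf (1, 0, 0, 1) = 1 := by decide

namespace Geo

variable {G : Type*} [Group G] [Finite G] {H : Hyp G} (K : Geo H)

theorem zero_act {h : G} (hh : h ∈ H.NJ) (v : V4) : qf v = 0 ↔ qf (K.F.act hh v) = 0 := by
  by_cases hv : v = 0
  · subst hv; rw [map_zero]
  · have hne : K.F.act hh v ≠ 0 := fun e => hv (K.F.act_injective hh (e.trans (map_zero _).symm))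
    rw [K.sing_iff v hv, K.sing_iff _ hne]
    refine ⟨fun h' => K.F.sing_act hh h', fun h' => ?_⟩
    have h2 := K.F.sing_act (inv_mem hh) h'
    have e : K.F.act (inv_mem hh) (K.F.act hh v) = v := by
      refine K.F.act_eq _ ?_
      rw [K.F.act_spec]; group
    rwa [e] at h2

theorem qf_M0 {h : G} (hh : h ∈ H.M0) : ∀ v, qf (K.F.act (H.M0_le hh) v) = qf v := by
  suffices hsuff : H.M0 ≤
      { carrier := {x | ∃ hx : x ∈ H.NJ, ∀ v, qf (K.F.act hx v) = qf v}
        one_mem' := ⟨one_mem _, fun v => by rw [K.F.act_of_J _ (one_mem H.J)]⟩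
        mul_mem' := fun {a b} ⟨ha, e1⟩ ⟨hb, e2⟩ => ⟨mul_mem ha hb, fun v => by
          rw [K.F.act_mul ha hb, e1, e2]⟩
        inv_mem' := fun {a} ⟨ha, e1⟩ => ⟨inv_mem ha, fun v => by
          conv_rhs => rw [show v = K.F.act ha (K.F.act (inv_mem ha) v) by
            rw [← K.F.act_mul ha (inv_mem ha)]
            exact (K.F.act_of_J _ (by rw [mul_inv_cancel]; exact one_mem _) v).symm, e1]⟩ : Subgroup G } by
    exact (hsuff hh).2
  rw [H.hM0, Subgroup.closure_le]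
  rintro x ⟨hx, k, hk⟩
  have hx' : x ∈ H.NJ := hx
  refine ⟨hx', fun v => ?_⟩
  obtain ⟨μ, hμ, e⟩ := sim (K.F.act_injective hx') (K.zero_act hx')
  rw [e]
  have hμ2 : μ * μ = 1 := unit_sq μ hμ
  have hiter : ∀ n : ℕ, ∀ (hn : x ^ n ∈ H.NJ) u, qf (K.F.act hn u) = μ ^ n * qf u := by
    intro n
    induction n with
    | zero => intro hn u; rw [K.F.act_of_J _ (by rw [pow_zero]; exact one_mem _), pow_zero, one_mul]
    | succ n ih =>
      intro hn u
      have hsp : K.F.act hn u = K.F.act hx' (K.F.act (pow_mem hx' n) u) :=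
        K.F.act_eq _ (by rw [K.F.act_spec, K.F.act_spec, pow_succ']; group)
      rw [hsp, e, ih, pow_succ', mul_assoc]
  have h1 := hiter (orderOf x) (pow_mem hx' _) (1, 0, 0, 1)
  rw [K.F.act_of_J _ (by rw [pow_orderOf_eq_one]; exact one_mem _), qf_facts.2.2, mul_one] at h1
  obtain ⟨r, hr⟩ : Odd (orderOf x) := by rw [hk]; exact Odd.pow (by decide)
  rw [hr, pow_succ, pow_mul, pow_two, hμ2, one_pow, one_mul] at h1
  rw [← h1, one_mul]

theorem act_congr {h h' : G} (e : h = h') (hh : h ∈ H.NJ) (hh' : h' ∈ H.NJ) (v : V4) :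
    K.F.act hh v = K.F.act hh' v := by subst e; rfl

theorem lines_M0 {h : G} (hh : h ∈ H.M0) {L : V4 →+ V4} (hL : ∀ v, qf (L v) = qf (K.F.act (H.M0_le hh) v))
    (hz : L eZ = eZ ∨ L eZ = -eZ) (hB : L eB = eB ∨ L eB = -eB) :
    ∃ a p q r s : ZMod 3, a ≠ 0 ∧ p * p + q * q = 1 ∧ r * r + s * s = 1 ∧
      (p + r) * (p + r) + (q + s) * (q + s) = 2 ∧ ∀ v, L v = mMap a p q r s v := by
  obtain ⟨a, ha, hza⟩ := pm_eZ _ hz
  obtain ⟨b, hb, hBb⟩ := pm_eB _ hB
  have hq : ∀ v, qf (L v) = qf v := fun v => by rw [hL, K.qf_M0 hh]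
  obtain ⟨p, q, r, s, hA, hC, e1, e2, e3, e4⟩ := sim_lines (L := L) (fun v => by rw [hq]) ha hb hza hBb
  have hab : a * b = 1 := by
    have := e4 (1, 0, 0, 1)
    rw [hq, qf_facts.2.2, mul_one] at this
    exact this.symm
  rw [hab] at e1 e2 e3
  rw [one_mul] at e3
  have hba : b = a := unit_inv a b hab
  refine ⟨a, p, q, r, s, ha, e1, e2, e3, fun v => ?_⟩
  conv_lhs => rw [vec_decomp v]
  rw [map_add, map_add, map_add, map_nsmul, map_nsmul, map_nsmul, map_nsmul, hza, hBb, hA, hC, hba]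
  simp [smul_eval, mMap, mul_comm]

theorem exists_fixed {y : G} (hy : y ∈ H.NJ) (hy4 : y ^ 4 = 1) (hz : K.F.act hy eZ = eZ ∨ K.F.act hy eZ = -eZ) :
    ∃ w : ZMod 3 × ZMod 3, K.F.act hy (tr 1 w eB) = tr 1 w eB ∨ K.F.act hy (tr 1 w eB) = -tr 1 w eB := by
  classical
  haveI : Fact (Nat.Prime 2) := ⟨Nat.prime_two⟩
  have hne : ∀ w, ∃ w', K.F.act hy (tr 1 w eB) = tr 1 w' eB ∨ K.F.act hy (tr 1 w eB) = -tr 1 w' eB := by
    intro w
    have h0 : K.F.act hy (tr 1 w eB) ≠ 0 := fun e =>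
      (tr_eB_ne w).1 (K.F.act_injective hy (e.trans (map_zero _).symm))
    have hq := (K.zero_act hy (tr 1 w eB)).mp (by rw [(tr_facts w eB).1]; exact qf_facts.2.1)
    rcases (zeros_iff _ h0).1 hq with e | e | e
    · exfalso
      rcases hz with e' | e'
      · exact (tr_eB_ne w).2.1 (K.F.act_injective hy (e.trans e'.symm))
      · exact (tr_eB_ne w).2.2 (K.F.act_injective hy (by rw [map_neg, e', neg_neg, e]))
    · exfalso
      rcases hz with e' | e'
      · exact (tr_eB_ne w).2.2 (K.F.act_injective hy (by rw [map_neg, e', e]))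
      · exact (tr_eB_ne w).2.1 (K.F.act_injective hy (e.trans e'.symm))
    · exact e
  choose σ hσ using hne
  have hinj : Function.Injective σ := by
    intro w w' e
    refine lift_unique w w' ?_
    have key : K.F.act hy (tr 1 w eB) = K.F.act hy (tr 1 w' eB) ∨
        K.F.act hy (tr 1 w eB) = K.F.act hy (-tr 1 w' eB) := by
      rw [map_neg]
      rcases hσ w with a | a <;> rcases hσ w' with b | b <;> rw [a, b, e] <;> simp
    exact key.imp (fun a => K.F.act_injective hy a) (fun a => K.F.act_injective hy a)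
  let P : Equiv.Perm (ZMod 3 × ZMod 3) := Equiv.ofBijective σ (Finite.injective_iff_bijective.mp hinj)
  have hpow : ∀ n : ℕ, ∀ (hn : y ^ n ∈ H.NJ) w,
      K.F.act hn (tr 1 w eB) = tr 1 ((P ^ n) w) eB ∨ K.F.act hn (tr 1 w eB) = -tr 1 ((P ^ n) w) eB := by
    intro n
    induction n with
    | zero => intro hn w; exact Or.inl (K.F.act_of_J _ (by rw [pow_zero]; exact one_mem _) _)
    | succ n ih =>
      intro hn w
      have hsp : ∀ u, K.F.act hn u = K.F.act hy (K.F.act (pow_mem hy n) u) := fun u =>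
        K.F.act_eq _ (by rw [K.F.act_spec, K.F.act_spec, pow_succ']; group)
      rw [hsp, pow_succ', Equiv.Perm.mul_apply]
      show _ = tr 1 (σ _) eB ∨ _ = -tr 1 (σ _) eB
      rcases ih (pow_mem hy n) w with e | e <;> rw [e]
      · exact hσ _
      · rw [map_neg]
        rcases hσ ((P ^ n) w) with e' | e' <;> rw [e']
        · exact Or.inr rfl
        · exact Or.inl (neg_neg _)
  have hP : P ^ 2 ^ 2 = 1 := Equiv.ext fun w => by
    have h := hpow 4 (pow_mem hy 4) w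
    rw [K.F.act_of_J _ (by rw [hy4]; exact one_mem _)] at h
    exact (lift_unique _ _ h).symm
  have hm := Equiv.Perm.card_compl_support_modEq hP
  obtain ⟨w, hw⟩ : ∃ w, P w = w := by
    by_contra hall
    push Not at hall
    have : P.supportᶜ = ∅ := Finset.eq_empty_of_forall_notMem fun w hw => by
      rw [Finset.mem_compl, Equiv.Perm.notMem_support] at hw; exact hall w hw
    rw [this, Finset.card_empty] at hm
    simp [Nat.ModEq] at hm
  exact ⟨w, by have h := hσ w; rwa [show σ w = w from hw] at h⟩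

theorem exists_eps : ∃ y, ∃ hy : y ∈ H.M0, ∃ a s : ZMod 3, a ≠ 0 ∧ s ≠ 0 ∧
    ∀ v, K.F.act (H.M0_le hy) v = eMap a s v := by
  obtain ⟨y, hyst, -, hy4, hyM, hy2⟩ := H.exists_four_stab
  have hz : K.F.act (H.M0_le hyM) eZ = eZ ∨ K.F.act (H.M0_le hyM) eZ = -eZ := by
    have hmem := (Subgroup.mem_normalizer_iff.mp hyst.2 _).mp H.z_spec.1
    rcases H.mem_Z_cases hmem with e | e | e
    · exact absurd (conj_eq_one_iff.mp e) H.z_spec.2.2.1
    · left; exact K.F.act_eq _ (by rw [K.F.map_z, e])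
    · right; exact K.F.act_eq _ (by rw [K.F.map_neg', K.F.map_z, e])
  obtain ⟨w, hw⟩ := K.exists_fixed (H.M0_le hyM) hy4 hz
  obtain ⟨q, hqS, hq, hqv⟩ := K.F.act_tr w
  have hqM := H.S_le_M0 hqS
  have hy' : q⁻¹ * y * q ∈ H.M0 := mul_mem (mul_mem (inv_mem hqM) hyM) hqM
  have hL : ∀ v, K.F.act (H.M0_le hy') v = K.F.act (inv_mem hq) (K.F.act (H.M0_le hyM) (tr 1 w v)) := fun v =>
    K.F.act_eq _ (by rw [K.F.act_spec, K.F.act_spec, ← hqv, K.F.act_spec]; group)
  have hqi : ∀ v, K.F.act (inv_mem hq) (tr 1 w v) = v := fun v => K.F.act_eq _ (by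
    rw [← hqv, K.F.act_spec]; group)
  obtain ⟨a, p, q', r, s, ha, e1, e2, e3, e⟩ := K.lines_M0 hy' (L := K.F.act (H.M0_le hy')) (fun _ => rfl)
    (by
      have h0 := hqi eZ
      rw [tr_eZ] at h0
      rcases hz with e | e
      · left; rw [hL, tr_eZ, e, h0]
      · right; rw [hL, tr_eZ, e, map_neg, h0])
    (by
      rcases hw with e | e
      · left; rw [hL, e, hqi]
      · right; rw [hL, e, map_neg, hqi])
  rcases rot_cases p q' r s e1 e2 e3 with ⟨rfl, rfl, rfl, hq0⟩ | hinv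
  · exact ⟨_, hy', a, q', ha, hq0, fun v => by rw [e]; simp [mMap, eMap]⟩
  · exfalso
    have hy2' : (q⁻¹ * y * q) * (q⁻¹ * y * q) ∈ H.J :=
      K.F.act_id_mem (mul_mem (H.M0_le hy') (H.M0_le hy')) fun v => by
        rw [K.F.act_mul (H.M0_le hy') (H.M0_le hy'), e, e, hinv a ha]
    have hy2J : y * y ∈ H.J := by
      have := (Subgroup.mem_normalizer_iff.mp hq _).mp hy2'
      rwa [show q * (q⁻¹ * y * q * (q⁻¹ * y * q)) * q⁻¹ = y * y by group] at this
    exact hy2 (by rw [← map_mul]; exact (H.piM_ker _).mpr hy2J)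

include K in
theorem t_mem_M0 : H.t ∈ H.M0 := by
  obtain ⟨y, hy, a, s, ha, hs, e⟩ := K.exists_eps
  have hJ : H.t * (y * y) ∈ H.J := K.F.act_id_mem (mul_mem H.t_NJ (mul_mem (H.M0_le hy) (H.M0_le hy))) fun v => by
    rw [K.F.act_mul H.t_NJ (mul_mem (H.M0_le hy) (H.M0_le hy)), K.F.act_mul (H.M0_le hy) (H.M0_le hy), e, e, (eMap_facts a s ha hs v).1]
    refine K.F.act_eq _ ?_
    rw [H.t_inv, K.F.t_act]
    congr 1
    simp [tauV]
  have := mul_mem (H.hJM hJ) (inv_mem (mul_mem hy hy))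
  rwa [mul_inv_cancel_right] at this

theorem act_t (v : V4) : K.F.act H.t_NJ v = tauV v := K.F.act_eq _ (by rw [H.t_inv, K.F.t_act])

/-- Elements with action commuting with that of `t` can be chosen in the centralizer of `t`. -/
theorem exists_lift {x : G} (hx : x ∈ H.NJ) (hc : ∀ v, K.F.act hx (tauV v) = tauV (K.F.act hx v)) :
    ∃ j ∈ H.J, H.t * (x * j) * H.t = x * j := by
  have hxt : x⁻¹ * (H.t * x * H.t) ∈ H.J :=
    K.F.act_id_mem (mul_mem (inv_mem hx) (mul_mem (mul_mem H.t_NJ hx) H.t_NJ)) fun v => by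
      rw [K.F.act_mul (inv_mem hx) (mul_mem (mul_mem H.t_NJ hx) H.t_NJ),
        K.F.act_mul (mul_mem H.t_NJ hx) H.t_NJ, K.F.act_mul H.t_NJ hx, K.act_t, K.act_t, hc,
        show tauV (tauV (K.F.act hx v)) = K.F.act hx v by simp [tauV]]
      exact K.F.act_eq _ (by rw [K.F.act_spec]; group)
  set j := x⁻¹ * (H.t * x * H.t) with hj
  have h1 : H.t * x * H.t = x * j := by rw [hj]; group
  have h2 : j * (H.t * j * H.t) = 1 := by
    have : x = x * (j * (H.t * j * H.t)) := by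
      calc x = (H.t * H.t) * x * (H.t * H.t) := by rw [H.t_sq]; group
        _ = H.t * (H.t * x * H.t) * H.t := by group
        _ = H.t * x * 1 * j * H.t := by rw [h1]; group
        _ = (H.t * x * H.t) * (H.t * j * H.t) := by rw [← H.t_sq]; group
        _ = _ := by rw [h1]; group
    exact mul_eq_left.mp this.symm
  have hj2 : H.t * (j * j) * H.t = j⁻¹ * j⁻¹ := by
    have e : H.t * j * H.t = j⁻¹ := eq_inv_of_mul_eq_one_right h2
    calc H.t * (j * j) * H.t = H.t * j * 1 * j * H.t := by group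
      _ = (H.t * j * H.t) * (H.t * j * H.t) := by rw [← H.t_sq]; group
      _ = _ := by rw [e]
  refine ⟨j * j, mul_mem hxt hxt, ?_⟩
  have h3 : j⁻¹ = j * j := inv_eq_of_mul_eq_one_right (by
    have := H.hJexp j hxt; rwa [pow_succ', pow_two] at this)
  calc H.t * (x * (j * j)) * H.t = H.t * x * 1 * (j * j) * H.t := by group
    _ = (H.t * x * H.t) * (H.t * (j * j) * H.t) := by rw [← H.t_sq]; group
    _ = x * j⁻¹ := by rw [h1, hj2]; group
    _ = _ := by rw [h3]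

end Geo

/-- The coordinates together with two special elements. -/
structure Data {G : Type*} [Group G] [Finite G] (H : Hyp G) extends Geo H where
  e : G
  he : e ∈ H.M0
  e_t : H.t * e * H.t = e
  es : ZMod 3
  es0 : es ≠ 0
  e_act : ∀ v, F.act (H.M0_le he) v = eMap 2 es v
  g : G
  hg : g ∈ H.M0
  g_t : H.t * g * H.t = g
  ga : ZMod 3
  gp : ZMod 3
  gq : ZMod 3
  ga0 : ga ≠ 0
  gpq : gp * gp + gq * gq = 1
  g_act : ∀ v, F.act (H.M0_le hg) v = gMap ga gp gq v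
  t_M0 : H.t ∈ H.M0

theorem exists_data {G : Type*} [Group G] [Finite G] (H : Hyp G) : Nonempty (Data H) := by
  obtain ⟨K⟩ := exists_geo H
  obtain ⟨y, hy, c, s, hc, hs, ey⟩ := K.exists_eps
  -- an element interchanging the two lines
  obtain ⟨m, hm, hmB⟩ : ∃ m ∈ H.M0, m * H.z * m⁻¹ = K.F.φ eB ∨ m * H.z * m⁻¹ = (K.F.φ eB)⁻¹ :=
    (K.sing_iff eB (by decide)).mp qf_facts.2.1
  have hmN := H.M0_le hm
  have hmz : K.F.act hmN eZ = eB ∨ K.F.act hmN eZ = -eB := by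
    rcases hmB with e | e
    · exact Or.inl (K.F.act_eq _ (by rw [K.F.map_z, e]))
    · exact Or.inr (K.F.act_eq _ (by rw [K.F.map_neg', K.F.map_z, e]))
  set v0 := K.F.act (inv_mem hmN) eZ with hv0
  have hv0m : K.F.act hmN v0 = eZ := by
    rw [hv0]; exact K.F.act_eq _ (by rw [K.F.act_spec]; group)
  have hv0ne : v0 ≠ 0 := fun e => absurd (hv0m.symm.trans (by rw [e, map_zero])) (by decide)
  obtain ⟨w, hw⟩ : ∃ w, v0 = tr 1 w eB ∨ v0 = -tr 1 w eB := by
    rcases (zeros_iff _ hv0ne).1 ((K.zero_act hmN v0).mpr (by rw [hv0m]; exact qf_facts.1)) with e | e | e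
    · exfalso
      rw [e] at hv0m
      rcases hmz with e' | e' <;> rw [e'] at hv0m <;> exact absurd hv0m (by decide)
    · exfalso
      rw [e, map_neg] at hv0m
      rcases hmz with e' | e' <;> rw [e'] at hv0m <;> exact absurd hv0m (by decide)
    · exact e
  obtain ⟨q, hqS, hq, hqv⟩ := K.F.act_tr w
  have hg0 : m * q ∈ H.M0 := mul_mem hm (H.S_le_M0 hqS)
  have hgL : ∀ v, K.F.act (H.M0_le hg0) v = K.F.act hmN (tr 1 w v) := fun v => by
    rw [← hqv]; exact K.F.act_mul hmN hq v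
  obtain ⟨a, p, q', r, s', ha, e1, e2, e3, eg⟩ := K.lines_M0 hg0
    (L := sw.comp (K.F.act (H.M0_le hg0))) (fun v => (sw_facts _).1)
    (by
      show sw (K.F.act (H.M0_le hg0) eZ) = eZ ∨ sw (K.F.act (H.M0_le hg0) eZ) = -eZ
      rw [hgL, tr_eZ]
      rcases hmz with e | e <;> rw [e]
      · left; rfl
      · right; rfl)
    (by
      show sw (K.F.act (H.M0_le hg0) eB) = eB ∨ sw (K.F.act (H.M0_le hg0) eB) = -eB
      rw [hgL]
      rcases hw with e | e
      · left; rw [← e, hv0m]; rfl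
      · right; rw [← neg_neg (tr 1 w eB), ← e, map_neg, hv0m]; rfl)
  have hgv : ∀ v, K.F.act (H.M0_le hg0) v = sw (mMap a p q' r s' v) := fun v => by
    rw [← eg v]; exact ((sw_facts _).2).symm
  set g0 := m * q with hg0def
  obtain ⟨hrq, hsp⟩ : r = q' ∧ s' = -p := by
    refine (refl_cases p q' r s' e1 e2 e3).resolve_right fun hcomm => ?_
    have hJ : (g0 * y) * (y * g0)⁻¹ ∈ H.J := by
      refine K.F.act_id_mem (mul_mem (mul_mem (H.M0_le hg0) (H.M0_le hy))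
        (inv_mem (mul_mem (H.M0_le hy) (H.M0_le hg0)))) fun v => ?_
      have hu : ∀ u, K.F.act (mul_mem (H.M0_le hg0) (H.M0_le hy)) u =
          K.F.act (mul_mem (H.M0_le hy) (H.M0_le hg0)) u := fun u => by
        rw [K.F.act_mul (H.M0_le hg0) (H.M0_le hy), K.F.act_mul (H.M0_le hy) (H.M0_le hg0), ey, hgv, hgv, ey,
          hcomm a ha c hc s hs]
      rw [K.F.act_mul (mul_mem (H.M0_le hg0) (H.M0_le hy)) (inv_mem (mul_mem (H.M0_le hy) (H.M0_le hg0))), hu]
      exact K.F.act_eq _ (by rw [K.F.act_spec]; group)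
    have hker : H.piM ⟨g0, hg0⟩ * H.piM ⟨y, hy⟩ = H.piM ⟨y, hy⟩ * H.piM ⟨g0, hg0⟩ := by
      have h1 := (H.piM_ker (⟨g0, hg0⟩ * ⟨y, hy⟩ * (⟨y, hy⟩ * ⟨g0, hg0⟩)⁻¹)).mpr hJ
      rwa [map_mul, map_inv, map_mul, map_mul, mul_inv_eq_one] at h1
    have hne : H.piM ⟨y, hy⟩ * H.piM ⟨y, hy⟩ ≠ 1 := fun e => by
      rw [← map_mul] at e
      have hJ2 := (H.piM_ker _).mp e
      have := K.F.act_of_J (mul_mem (H.M0_le hy) (H.M0_le hy)) hJ2 eA
      rw [K.F.act_mul (H.M0_le hy) (H.M0_le hy), ey, ey, (eMap_facts c s hc hs eA).1] at this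
      exact absurd this (by decide)
    have h4 : H.piM ⟨y, hy⟩ ^ 4 = 1 := by
      rw [← map_pow]
      refine (H.piM_ker _).mpr (K.F.act_id_mem (pow_mem (H.M0_le hy) 4) fun v => ?_)
      rw [K.act_congr (show y ^ 4 = y * y * (y * y) by simp only [pow_succ, pow_zero, one_mul, mul_assoc]) _
        (mul_mem (mul_mem (H.M0_le hy) (H.M0_le hy)) (mul_mem (H.M0_le hy) (H.M0_le hy))),
        K.F.act_mul (mul_mem (H.M0_le hy) (H.M0_le hy)) (mul_mem (H.M0_le hy) (H.M0_le hy)),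
        K.F.act_mul (H.M0_le hy) (H.M0_le hy), K.F.act_mul (H.M0_le hy) (H.M0_le hy), ey, ey, ey, ey,
        (eMap_facts c s hc hs v).1,
        (eMap_facts c s hc hs _).1]
      simp
    have key : ∀ (i : ℕ), H.piM ⟨g0, hg0⟩ = H.piM (⟨y, hy⟩ ^ i) → False := by
      intro i e
      have hJi : g0 * (y ^ i)⁻¹ ∈ H.J := by
        have := (H.piM_ker (⟨g0, hg0⟩ * (⟨y, hy⟩ ^ i)⁻¹)).mp (by rw [map_mul, map_inv, e, mul_inv_cancel])
        exact this
      have e' := K.act_congr (show g0 = g0 * (y ^ i)⁻¹ * y ^ i by group) (H.M0_le hg0)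
        (mul_mem (mul_mem (H.M0_le hg0) (inv_mem (pow_mem (H.M0_le hy) i))) (pow_mem (H.M0_le hy) i)) eZ
      rw [K.F.act_mul (mul_mem (H.M0_le hg0) (inv_mem (pow_mem (H.M0_le hy) i))) (pow_mem (H.M0_le hy) i),
        K.F.act_of_J _ hJi, hgv] at e'
      have hpw : ∀ i : ℕ, (K.F.act (pow_mem (H.M0_le hy) i) eZ).2.2.2 = 0 := by
        intro i
        induction i with
        | zero => rw [K.F.act_of_J _ (by rw [pow_zero]; exact one_mem _)]; rfl
        | succ n ih =>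
          rw [K.act_congr (pow_succ' y n) _ (mul_mem (H.M0_le hy) (pow_mem (H.M0_le hy) n)),
            K.F.act_mul (H.M0_le hy) (pow_mem (H.M0_le hy) n), ey]
          show c * _ = 0
          rw [ih, mul_zero]
      have h5 := hpw i
      rw [← e'] at h5
      simp [sw, mMap, eZ] at h5
      exact ha h5
    rcases cent_four _ hne h4 _ hker.symm with e | e | e | e
    · exact key 0 (by rw [e, pow_zero, map_one])
    · exact key 1 (by rw [e, pow_one])
    · exact key 2 (by rw [e, map_pow, pow_two])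
    · exact key 3 (by rw [e, map_pow, pow_succ', pow_two])
  subst r s'
  have hgm : ∀ v, K.F.act (H.M0_le hg0) v = gMap a p q' v := fun v => by rw [hgv, sw_mMap]
  -- conjugate involutions modulo `J` fix a singular vector
  have hfix : ∀ (x : G) (hx : x ∈ H.M0), (∀ v, K.F.act (H.M0_le hx) (K.F.act (H.M0_le hx) v) = v) →
      (K.F.act (H.M0_le hx) eZ).2.2.2 ≠ 0 →
      ∃ v : V4, v ≠ 0 ∧ qf v = 0 ∧ K.F.act (H.M0_le hx) v = v := by
    intro x hx hxx hxz
    have h1 : H.piM ⟨x, hx⟩ * H.piM ⟨x, hx⟩ = 1 := by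
      rw [← map_mul]
      exact (H.piM_ker _).mpr (K.F.act_id_mem (mul_mem (H.M0_le hx) (H.M0_le hx))
        fun v => by rw [K.F.act_mul (H.M0_le hx) (H.M0_le hx)]; exact hxx v)
    have h2 : H.piM ⟨x, hx⟩ ≠ 1 := fun e => hxz (by
      rw [K.F.act_of_J _ ((H.piM_ker _).mp e)]; rfl)
    have hy1 : H.piM ⟨y, hy⟩ * H.piM ⟨y, hy⟩ ≠ 1 := fun e => by
      rw [← map_mul] at e
      have := K.F.act_of_J (mul_mem (H.M0_le hy) (H.M0_le hy)) ((H.piM_ker _).mp e) eA
      rw [K.F.act_mul (H.M0_le hy) (H.M0_le hy), ey, ey, (eMap_facts c s hc hs eA).1] at this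
      exact absurd this (by decide)
    have hy4' : H.piM ⟨y, hy⟩ * H.piM ⟨y, hy⟩ * (H.piM ⟨y, hy⟩ * H.piM ⟨y, hy⟩) = 1 := by
      rw [← map_mul, ← map_mul]
      refine (H.piM_ker _).mpr (K.F.act_id_mem (mul_mem (mul_mem (H.M0_le hy) (H.M0_le hy))
        (mul_mem (H.M0_le hy) (H.M0_le hy))) fun v => ?_)
      rw [K.F.act_mul (mul_mem (H.M0_le hy) (H.M0_le hy)) (mul_mem (H.M0_le hy) (H.M0_le hy)),
        K.F.act_mul (H.M0_le hy) (H.M0_le hy), K.F.act_mul (H.M0_le hy) (H.M0_le hy), ey, ey, ey, ey,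
        (eMap_facts c s hc hs v).1,
        (eMap_facts c s hc hs _).1]
      simp
    obtain ⟨g1, hg1⟩ := invol_conj _ h1 h2
    obtain ⟨g2, hg2⟩ := invol_conj _ hy4' hy1
    obtain ⟨⟨k, hk⟩, hkk⟩ := H.piM_surj (g2⁻¹ * g1)
    have hJk : k * x * k⁻¹ * (y * y)⁻¹ ∈ H.J := by
      refine (H.piM_ker (⟨k, hk⟩ * ⟨x, hx⟩ * ⟨k, hk⟩⁻¹ * (⟨y, hy⟩ * ⟨y, hy⟩)⁻¹)).mp ?_
      rw [map_mul, map_inv, map_mul, map_mul, map_mul, map_inv, hkk, mul_inv_eq_one]
      calc g2⁻¹ * g1 * H.piM ⟨x, hx⟩ * (g2⁻¹ * g1)⁻¹ = g2⁻¹ * (g1 * H.piM ⟨x, hx⟩ * g1⁻¹) * g2 := by group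
        _ = g2⁻¹ * (g2 * (H.piM ⟨y, hy⟩ * H.piM ⟨y, hy⟩) * g2⁻¹) * g2 := by rw [hg1, hg2]
        _ = _ := by group
    set v := K.F.act (inv_mem (H.M0_le hk)) eZ with hv
    have hkv : K.F.act (H.M0_le hk) v = eZ := by rw [hv]; exact K.F.act_eq _ (by rw [K.F.act_spec]; group)
    refine ⟨v, fun e => absurd (hkv.symm.trans (by rw [e, map_zero])) (by decide), ?_, ?_⟩
    · exact (K.zero_act (H.M0_le hk) v).mpr (by rw [hkv]; exact qf_facts.1)
    · refine K.F.act_injective (H.M0_le hk) ?_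
      rw [hkv, ← K.F.act_mul (H.M0_le hk) (H.M0_le hx),
        K.act_congr (show k * x = k * x * k⁻¹ * (y * y)⁻¹ * (y * y * k) by group) _
          (mul_mem (mul_mem (mul_mem (mul_mem (H.M0_le hk) (H.M0_le hx)) (inv_mem (H.M0_le hk)))
            (inv_mem (mul_mem (H.M0_le hy) (H.M0_le hy)))) (mul_mem (mul_mem (H.M0_le hy) (H.M0_le hy)) (H.M0_le hk))),
        K.F.act_mul (mul_mem (mul_mem (mul_mem (H.M0_le hk) (H.M0_le hx)) (inv_mem (H.M0_le hk)))
            (inv_mem (mul_mem (H.M0_le hy) (H.M0_le hy)))) (mul_mem (mul_mem (H.M0_le hy) (H.M0_le hy)) (H.M0_le hk)),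
        K.F.act_of_J _ hJk, K.F.act_mul (mul_mem (H.M0_le hy) (H.M0_le hy)) (H.M0_le hk),
        K.F.act_mul (H.M0_le hy) (H.M0_le hy), hkv, ey, ey, (eMap_facts c s hc hs eZ).1]
      simp [eZ]
  have hgy : g0 * y ∈ H.M0 := mul_mem hg0 hy
  have hgym : ∀ v, K.F.act (H.M0_le hgy) v = gMap a p q' (eMap c s v) := fun v => by
    rw [← hgm, ← ey]; exact K.F.act_mul (H.M0_le hg0) (H.M0_le hy) v
  obtain ⟨u1, hu1, hu1q, hu1f⟩ := hfix g0 hg0 (fun v => by rw [hgm, hgm, (gMap_facts a p q' ha e1 v).1])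
    (by rw [hgm]; simpa [gMap, eZ] using ha)
  obtain ⟨u2, hu2, hu2q, hu2f⟩ := hfix (g0 * y) hgy
    (fun v => by rw [hgym, hgym, (gMap_facts a p q' ha e1 v).2 c s hc hs])
    (by rw [hgym]; simpa [gMap, eMap, eZ] using And.intro ha hc)
  have hc2 : c = 2 := sign_eq a p q' c s ha hc hs e1 ⟨u1, hu1, hu1q, by rw [← hgm]; exact hu1f⟩
    ⟨u2, hu2, hu2q, by rw [← hgym]; exact hu2f⟩
  subst hc2
  obtain ⟨je, hje, hte⟩ := K.exists_lift (H.M0_le hy) fun v => by rw [ey, ey]; exact (maps_tau 2 s 0 v).1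
  obtain ⟨jg, hjg, htg⟩ := K.exists_lift (H.M0_le hg0) fun v => by rw [hgm, hgm]; exact (maps_tau a p q' v).2
  have hye : y * je ∈ H.M0 := mul_mem hy (H.hJM hje)
  have hgg : g0 * jg ∈ H.M0 := mul_mem hg0 (H.hJM hjg)
  exact ⟨{ toGeo := K, e := y * je, he := hye, e_t := hte, es := s, es0 := hs
           e_act := fun v => by
             rw [K.F.act_mul (H.M0_le hy) (H.M0_le (H.hJM hje)), K.F.act_of_J _ hje, ey]
           g := g0 * jg, hg := hgg, g_t := htg, ga := a, gp := p, gq := q', ga0 := ha, gpq := e1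
           g_act := fun v => by
             rw [K.F.act_mul (H.M0_le hg0) (H.M0_le (H.hJM hjg)), K.F.act_of_J _ hjg, hgm]
           t_M0 := K.t_mem_M0 }⟩

end CfsgLib.McLThree
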