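import Cfsg.Agent.Lib.McLThree.Quot

/-!
# Coordinates on the normalizer of the image of `J`
-/

set_option autoImplicit false
set_option linter.unusedSectionVars false
set_option maxRecDepth 20000
set_option synthInstance.maxSize 4000
set_option synthInstance.maxHeartbeats 400000

open Equiv

namespace CfsgLib.McLThree

/-- An affine map of the line. -/
def lineMap (e a : ZMod 3) : Equiv.Perm (Fin 3) :=
  (if e = 2 then Equiv.neg (ZMod 3) else Equiv.refl (ZMod 3)).trans (Equiv.addRight a)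

theorem dia_shift : ∀ a b : Fin 3, a ≠ b → ∀ u w : V3, u + mon 1 (dia a) u = 0 → w + mon 1 (dia b) w = 0 →
    u + mon 1 (dia a) w = w + mon 1 (dia b) u →
    ∃ v : V3, u = v + -mon 1 (dia a) v ∧ w = v + -mon 1 (dia b) v := by decide +kernel

theorem dia_inter : ∀ a b c : Fin 3, a ≠ b → a ≠ c → b ≠ c → ∀ u : V3, u + mon 1 (dia c) u = 0 →
    u = mon 1 (dia a) u → u = mon 1 (dia b) u → u = 0 := by decide +kernel

theorem dia_total : ∀ u : V3, (∀ a : Fin 3, u = mon 1 (dia a) u) → u = 0 := by decide +kernel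

theorem mon_dia (σ : Equiv.Perm (Fin 3)) (ε : V3) (a : Fin 3) (v : V3) :
    mon σ ε (mon 1 (dia a) v) = mon 1 (dia (σ a)) (mon σ ε v) := by
  funext j
  have e : dia (σ a) j = dia a (σ.symm j) := by
    unfold dia
    refine if_congr ⟨fun h => ?_, fun h => ?_⟩ rfl rfl
    · rw [h]; exact σ.symm_apply_apply a
    · rw [← h, Equiv.apply_symm_apply]
  simp only [mon, show ((1 : Equiv.Perm (Fin 3)).symm : Fin 3 → Fin 3) = id from rfl, id_eq, e]
  ring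

theorem mon_surj (σ : Equiv.Perm (Fin 3)) (ε : V3) (hε : ∀ i, ε i ≠ 0) (w : V3) : ∃ v, mon σ ε v = w := by
  refine ⟨fun i => ε i * w (σ i), funext fun j => ?_⟩
  have h2 : ∀ e : ZMod 3, e ≠ 0 → e * e = 1 := by decide
  simp only [mon, Equiv.apply_symm_apply, ← mul_assoc, h2 _ (hε _), one_mul]

theorem mon_add (σ : Equiv.Perm (Fin 3)) (ε : V3) (v w : V3) : mon σ ε (v + w) = mon σ ε v + mon σ ε w := by
  funext j; simp [mon, mul_add]

namespace Data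

variable {G : Type*} [Group G] [Finite G] {H : Hyp G} (D : Data H)

theorem jb_comm (v w : V3) : D.jb v * D.jb w = D.jb w * D.jb v := by
  rw [← D.jb_add, ← D.jb_add, add_comm]

theorem Jb_le : D.Jb ≤ D.Hb := Subgroup.map_mono fun x hx => H.M0_le (H.hJM hx)

theorem jb_Hb (v : V3) : D.jb v ∈ D.Hb := D.Jb_le (D.jb_mem v)

/-- An element sending a nontrivial element of the image of `J` into `Hb` lies in `Hb`. -/
theorem conj_mem {v : V3} (hv : v ≠ 0) {g : D.QX} (hg : g * D.jb v * g⁻¹ ∈ D.Hb) : g ∈ D.Hb := by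
  have hJ := D.jb_closed hg
  obtain ⟨v', hv'⟩ := D.Jb_eq hJ
  have hv'0 : v' ≠ 0 := fun e => by
    rw [e, D.jb_zero] at hv'
    exact hv (D.jb_inj ((conj_eq_one_iff.mp hv').trans D.jb_zero.symm))
  have hle : D.Jb.map (MulAut.conj g).toMonoidHom ≤ D.Jb := by
    rintro _ ⟨x, hx, rfl⟩
    show g * x * g⁻¹ ∈ D.Jb
    obtain ⟨w, rfl⟩ := D.Jb_eq hx
    refine D.jb_closed (D.cent_jb hv'0 ?_)
    rw [← hv']
    calc g * D.jb w * g⁻¹ * (g * D.jb v * g⁻¹) = g * (D.jb w * D.jb v) * g⁻¹ := by group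
      _ = g * (D.jb v * D.jb w) * g⁻¹ := by rw [D.jb_comm]
      _ = _ := by group
  rw [← D.norm_Jb, Subgroup.mem_normalizer_iff_map_conj_eq]
  exact Subgroup.eq_of_le_of_card_ge hle (le_of_eq
    (Subgroup.card_map_of_injective (f := (MulAut.conj g).toMonoidHom) (MulAut.conj g).injective).symm)

theorem mem_Jb_of_comm {x : D.QX} (hx : x ∈ D.Hb) (h : ∀ v, x * D.jb v = D.jb v * x) : x ∈ D.Jb := by
  obtain ⟨σ, ε, hA⟩ := D.exists_actsX hx
  have h1 : D.ActsX x 1 (fun _ => 1) := ⟨by decide, fun v => by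
    rw [h, mul_inv_cancel_right]
    congr 1
    funext j
    simp [mon]
    rfl⟩
  exact D.mem_of_acts_id hx h1 fun _ => rfl

theorem actsX_jb (w : V3) {x : D.QX} {σ : Equiv.Perm (Fin 3)} {ε : V3} (h : D.ActsX x σ ε) :
    D.ActsX (D.jb w * x) σ ε := ⟨h.1, fun v => by
  rw [show D.jb w * x * D.jb v * (D.jb w * x)⁻¹ = D.jb w * (x * D.jb v * x⁻¹) * (D.jb w)⁻¹ by group, h.2,
    D.jb_comm, mul_inv_cancel_right]⟩

/-- Three commuting involutions, each fixing one axis. -/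
structure Tri where
  /-- the involutions -/
  T : Fin 3 → D.QX
  mem : ∀ i, T i ∈ D.Hb
  acts : ∀ i, D.ActsX (T i) 1 (dia i)
  sq : ∀ i, T i * T i = 1
  comm : ∀ i j, T i * T j = T j * T i

theorem nonempty_tri : Nonempty D.Tri := by
  obtain ⟨T0, T1, h0, h1, s0, s1, hc, c, hc0, a0, a1⟩ := D.exists_invols
  have hmul := D.actsX_mul a0 a1 (mul_mem h0 h1)
  have a2 : D.ActsX (T0 * T1) 1 (fun i => dia 0 i * dia c i) := hmul
  have s2 : T0 * T1 * (T0 * T1) = 1 := by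
    calc T0 * T1 * (T0 * T1) = T0 * T1 * (T1 * T0) := by rw [hc]
      _ = T0 * (T1 * T1) * T0 := by group
      _ = 1 := by rw [s1, mul_one, s0]
  have c02 : T0 * (T0 * T1) = T0 * T1 * T0 := by rw [mul_assoc, ← hc, ← mul_assoc]
  have c12 : T1 * (T0 * T1) = T0 * T1 * T1 := by rw [← mul_assoc, ← hc]
  let T : Fin 3 → D.QX := fun i => if i = 0 then T0 else if i = c then T1 else T0 * T1
  refine ⟨⟨T, fun i => ?_, fun i => ?_, fun i => ?_, fun i j => ?_⟩⟩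
  · dsimp only [T]; split_ifs <;> first | exact h0 | exact h1 | exact mul_mem h0 h1
  · dsimp only [T]
    split_ifs with e e'
    · subst e; exact a0
    · subst e'; exact a1
    · have : ∀ c i : Fin 3, c ≠ 0 → i ≠ 0 → i ≠ c → ∀ k, dia 0 k * dia c k = dia i k := by decide +kernel
      rw [show dia i = fun k => dia 0 k * dia c k from funext fun k => (this c i hc0 e e' k).symm]
      exact a2
  · dsimp only [T]; split_ifs <;> first | exact s0 | exact s1 | exact s2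
  · dsimp only [T]
    split_ifs <;>
      first | rfl | exact hc | exact hc.symm | exact c02 | exact c02.symm | exact c12 | exact c12.symm

namespace Tri

variable {D} (τ : D.Tri)

/-- `x` is the translation by `v` times an element permuting the involutions as `σ`. -/
def Dec (x : D.QX) (σ : Equiv.Perm (Fin 3)) (ε v : V3) : Prop :=
  ∃ k, x = D.jb v * k ∧ k ∈ D.Hb ∧ D.ActsX k σ ε ∧ ∀ a, k * τ.T a * k⁻¹ = τ.T (σ a)

theorem jb_T (v : V3) (a : Fin 3) : D.jb v * τ.T a * (D.jb v)⁻¹ = D.jb (v + -mon 1 (dia a) v) * τ.T a := by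
  rw [D.jb_add, D.jb_neg, ← (τ.acts a).2 v]
  group

/-- The translation part of a conjugate of one of the involutions. -/
theorem conj_T {x : D.QX} (hx : x ∈ D.Hb) {σ : Equiv.Perm (Fin 3)} {ε : V3} (hA : D.ActsX x σ ε) (a : Fin 3) :
    ∃ u, x * τ.T a * x⁻¹ = D.jb u * τ.T (σ a) ∧ u + mon 1 (dia (σ a)) u = 0 := by
  have hy : x * τ.T a * x⁻¹ * (τ.T (σ a))⁻¹ ∈ D.Jb := by
    refine D.mem_Jb_of_comm (mul_mem (mul_mem (mul_mem hx (τ.mem a)) (inv_mem hx)) (inv_mem (τ.mem _))) fun v => ?_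
    obtain ⟨u, hu⟩ := mon_surj σ ε hA.1.1 (mon 1 (dia (σ a)) v)
    have hdd : ∀ i : Fin 3, ∀ u : V3, mon 1 (dia i) (mon 1 (dia i) u) = u := by decide +kernel
    have e1 : (τ.T (σ a))⁻¹ * D.jb v * τ.T (σ a) = D.jb (mon 1 (dia (σ a)) v) := by
      have := (τ.acts (σ a)).2 v
      rw [inv_eq_of_mul_eq_one_right (τ.sq _)] at this ⊢
      exact this
    have e2 : x * τ.T a * x⁻¹ * D.jb (mon 1 (dia (σ a)) v) * (x * τ.T a * x⁻¹)⁻¹ = D.jb v := by
      rw [← hu, show x * τ.T a * x⁻¹ * D.jb (mon σ ε u) * (x * τ.T a * x⁻¹)⁻¹ =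
        x * (τ.T a * (x⁻¹ * D.jb (mon σ ε u) * x) * (τ.T a)⁻¹) * x⁻¹ by group, ← hA.2 u,
        show x⁻¹ * (x * D.jb u * x⁻¹) * x = D.jb u by group, (τ.acts a).2, hA.2, mon_dia, hu, hdd]
    calc x * τ.T a * x⁻¹ * (τ.T (σ a))⁻¹ * D.jb v
        = x * τ.T a * x⁻¹ * ((τ.T (σ a))⁻¹ * D.jb v * τ.T (σ a)) * (τ.T (σ a))⁻¹ := by group
      _ = (x * τ.T a * x⁻¹ * D.jb (mon 1 (dia (σ a)) v) * (x * τ.T a * x⁻¹)⁻¹) *
          (x * τ.T a * x⁻¹) * (τ.T (σ a))⁻¹ := by rw [e1]; group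
      _ = _ := by rw [e2, mul_assoc]
  obtain ⟨u, hu⟩ := D.Jb_eq hy
  refine ⟨u, by rw [← hu, inv_mul_cancel_right], D.jb_inj ?_⟩
  rw [D.jb_add, ← (τ.acts (σ a)).2 u, D.jb_zero, ← hu]
  calc _ = x * (τ.T a * τ.T a) * x⁻¹ * (τ.T (σ a) * τ.T (σ a))⁻¹ := by group
    _ = 1 := by rw [τ.sq, τ.sq]; group

theorem exists_dec {x : D.QX} (hx : x ∈ D.Hb) : ∃ σ ε v, τ.Dec x σ ε v := by
  obtain ⟨σ, ε, hA⟩ := D.exists_actsX hx
  obtain ⟨u0, e0, f0⟩ := τ.conj_T hx hA 0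
  obtain ⟨u1, e1, f1⟩ := τ.conj_T hx hA 1
  have pull : ∀ (a : Fin 3) (w : V3), τ.T a * D.jb w = D.jb (mon 1 (dia a) w) * τ.T a := fun a w => by
    rw [← (τ.acts a).2 w, inv_mul_cancel_right]
  have hcomm : ∀ (a b : Fin 3) (u w : V3), x * τ.T a * x⁻¹ = D.jb u * τ.T (σ a) →
      x * τ.T b * x⁻¹ = D.jb w * τ.T (σ b) → u + mon 1 (dia (σ a)) w = w + mon 1 (dia (σ b)) u := by
    intro a b u w ea eb
    have h : (x * τ.T a * x⁻¹) * (x * τ.T b * x⁻¹) = (x * τ.T b * x⁻¹) * (x * τ.T a * x⁻¹) := by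
      rw [show x * τ.T a * x⁻¹ * (x * τ.T b * x⁻¹) = x * (τ.T a * τ.T b) * x⁻¹ by group, τ.comm]
      group
    rw [ea, eb, mul_assoc, ← mul_assoc (τ.T (σ a)), pull, mul_assoc (D.jb (mon 1 _ w)), ← mul_assoc (D.jb u),
      ← D.jb_add, mul_assoc (D.jb w), ← mul_assoc (τ.T (σ b)), pull, mul_assoc (D.jb (mon 1 _ u)),
      ← mul_assoc (D.jb w), ← D.jb_add, τ.comm (σ b)] at h
    exact D.jb_inj (mul_right_cancel h)
  obtain ⟨v, hv0, hv1⟩ := dia_shift (σ 0) (σ 1) (fun e => absurd (σ.injective e) (by decide)) u0 u1 f0 f1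
    (hcomm 0 1 u0 u1 e0 e1)
  set k := (D.jb v)⁻¹ * x with hk
  have hkH : k ∈ D.Hb := mul_mem (inv_mem (D.jb_Hb v)) hx
  have hkA : D.ActsX k σ ε := by
    rw [hk, ← D.jb_neg]; exact D.actsX_jb _ hA
  have step : ∀ a, ∀ u, x * τ.T a * x⁻¹ = D.jb u * τ.T (σ a) → u = v + -mon 1 (dia (σ a)) v →
      k * τ.T a * k⁻¹ = τ.T (σ a) := by
    intro a u e eu
    rw [hk, show (D.jb v)⁻¹ * x * τ.T a * ((D.jb v)⁻¹ * x)⁻¹ = (D.jb v)⁻¹ * (x * τ.T a * x⁻¹) * D.jb v by group,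
      e, eu, ← τ.jb_T]
    group
  have k0 := step 0 u0 e0 hv0
  have k1 := step 1 u1 e1 hv1
  obtain ⟨u2, e2, f2⟩ := τ.conj_T hkH hkA 2
  have hfix : ∀ a, a = 0 ∨ a = 1 → u2 = mon 1 (dia (σ a)) u2 := by
    intro a ha
    have ka : k * τ.T a * k⁻¹ = τ.T (σ a) := by rcases ha with rfl | rfl <;> assumption
    have h : (k * τ.T a * k⁻¹) * (k * τ.T 2 * k⁻¹) = (k * τ.T 2 * k⁻¹) * (k * τ.T a * k⁻¹) := by
      rw [show k * τ.T a * k⁻¹ * (k * τ.T 2 * k⁻¹) = k * (τ.T a * τ.T 2) * k⁻¹ by group, τ.comm]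
      group
    rw [e2, ka, ← mul_assoc, pull, mul_assoc, mul_assoc, τ.comm (σ 2)] at h
    exact (D.jb_inj (mul_right_cancel h)).symm
  have hu2 : u2 = 0 := dia_inter (σ 0) (σ 1) (σ 2) (fun e => absurd (σ.injective e) (by decide))
    (fun e => absurd (σ.injective e) (by decide)) (fun e => absurd (σ.injective e) (by decide)) u2 f2
    (hfix 0 (Or.inl rfl)) (hfix 1 (Or.inr rfl))
  refine ⟨σ, ε, v, k, by rw [hk]; group, hkH, hkA, fun a => ?_⟩
  have ha : a = 0 ∨ a = 1 ∨ a = 2 := by revert a; decide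
  rcases ha with rfl | rfl | rfl
  · exact k0
  · exact k1
  · rw [e2, hu2, D.jb_zero, one_mul]

theorem dec_mem {x : D.QX} {σ : Equiv.Perm (Fin 3)} {ε v : V3} (h : τ.Dec x σ ε v) : x ∈ D.Hb := by
  obtain ⟨k, rfl, hk, -⟩ := h; exact mul_mem (D.jb_Hb v) hk

theorem dec_acts {x : D.QX} {σ : Equiv.Perm (Fin 3)} {ε v : V3} (h : τ.Dec x σ ε v) : D.ActsX x σ ε := by
  obtain ⟨k, rfl, -, hk, -⟩ := h; exact D.actsX_jb _ hk

theorem dec_unique {x : D.QX} {σ σ' : Equiv.Perm (Fin 3)} {ε ε' v v' : V3} (h : τ.Dec x σ ε v)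
    (h' : τ.Dec x σ' ε' v') : σ = σ' ∧ ε = ε' ∧ v = v' := by
  obtain ⟨hσ, hε⟩ := D.actsX_unique (τ.dec_acts h) (τ.dec_acts h')
  refine ⟨hσ, hε, ?_⟩
  obtain ⟨k, e, -, -, hk⟩ := h
  obtain ⟨k', e', -, -, hk'⟩ := h'
  subst hσ
  have hw : k' = D.jb (v + -v') * k := by
    calc k' = (D.jb v')⁻¹ * (D.jb v' * k') := by group
      _ = (D.jb v')⁻¹ * (D.jb v * k) := by rw [← e', e]
      _ = _ := by rw [add_comm, D.jb_add, D.jb_neg]; group
  refine eq_of_sub_eq_zero (by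
    rw [sub_eq_add_neg]
    refine dia_total _ fun a => ?_
    obtain ⟨b, rfl⟩ := σ.surjective a
    have := hk' b
    rw [hw, show D.jb (v + -v') * k * τ.T b * (D.jb (v + -v') * k)⁻¹ =
      D.jb (v + -v') * (k * τ.T b * k⁻¹) * (D.jb (v + -v'))⁻¹ by group, hk b, τ.jb_T] at this
    exact eq_of_sub_eq_zero (by
      rw [sub_eq_add_neg]
      exact D.jb_inj (mul_right_cancel (this.trans (by rw [D.jb_zero, one_mul])))))

theorem dec_jb (v : V3) : τ.Dec (D.jb v) 1 (fun _ => 1) v :=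
  ⟨1, (mul_one _).symm, one_mem _, ⟨by decide, fun w => by
    rw [one_mul, inv_one, mul_one]; congr 1; funext j; simp [mon]; rfl⟩, fun a => by
    rw [one_mul, inv_one, mul_one]; rfl⟩

theorem dec_T (a : Fin 3) : τ.Dec (τ.T a) 1 (dia a) 0 :=
  ⟨τ.T a, by rw [D.jb_zero, one_mul], τ.mem a, τ.acts a, fun b => by
    rw [τ.comm, mul_inv_cancel_right]; rfl⟩

theorem dec_mul {x y : D.QX} {σ π : Equiv.Perm (Fin 3)} {ε η v w : V3} (hx : τ.Dec x σ ε v)
    (hy : τ.Dec y π η w) : τ.Dec (x * y) (σ * π) (fun i => ε (π i) * η i) (v + mon σ ε w) := by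
  obtain ⟨k, rfl, hk, hkA, hkT⟩ := hx
  obtain ⟨l, rfl, hl, hlA, hlT⟩ := hy
  refine ⟨k * l, ?_, mul_mem hk hl, D.actsX_mul hkA hlA (mul_mem hk hl), fun a => ?_⟩
  · rw [D.jb_add, ← hkA.2 w]; group
  · rw [show k * l * τ.T a * (k * l)⁻¹ = k * (l * τ.T a * l⁻¹) * k⁻¹ by group, hlT, hkT]; rfl

/-- The permutation of the blocks. -/
noncomputable def perm (x : D.Hb) : Equiv.Perm (Fin 3) := (τ.exists_dec x.2).choose

/-- The signs. -/
noncomputable def sgnv (x : D.Hb) : V3 := (τ.exists_dec x.2).choose_spec.choose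

/-- The translation. -/
noncomputable def trans (x : D.Hb) : V3 := (τ.exists_dec x.2).choose_spec.choose_spec.choose

theorem dec_self (x : D.Hb) : τ.Dec x (τ.perm x) (τ.sgnv x) (τ.trans x) :=
  (τ.exists_dec x.2).choose_spec.choose_spec.choose_spec

theorem coords_of_dec {x : D.Hb} {σ : Equiv.Perm (Fin 3)} {ε v : V3} (h : τ.Dec x σ ε v) :
    τ.perm x = σ ∧ τ.sgnv x = ε ∧ τ.trans x = v := τ.dec_unique (τ.dec_self x) h

theorem coords_mul (x y : D.Hb) : τ.perm (x * y) = τ.perm x * τ.perm y ∧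
    τ.sgnv (x * y) = (fun i => τ.sgnv x (τ.perm y i) * τ.sgnv y i) ∧
    τ.trans (x * y) = τ.trans x + mon (τ.perm x) (τ.sgnv x) (τ.trans y) :=
  τ.coords_of_dec (x := x * y) (τ.dec_mul (τ.dec_self x) (τ.dec_self y))

theorem sgnv_ne (x : D.Hb) (i : Fin 3) : τ.sgnv x i ≠ 0 := (τ.dec_acts (τ.dec_self x)).1.1 i

theorem det_self (x : D.Hb) : detOne (τ.perm x) (τ.sgnv x) := (τ.dec_acts (τ.dec_self x)).1

/-- The permutation of the blocks, as a homomorphism. -/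
noncomputable def permHom : D.Hb →* Equiv.Perm (Fin 3) := MonoidHom.mk' τ.perm fun x y => (τ.coords_mul x y).1

theorem mem_Jb_iff (x : D.Hb) : (x : D.QX) ∈ D.Jb ↔ τ.perm x = 1 ∧ ∀ i, τ.sgnv x i = 1 := by
  refine ⟨fun h => ?_, fun h => ?_⟩
  · obtain ⟨v, hv⟩ := D.Jb_eq h
    obtain ⟨h1, h2, -⟩ := τ.coords_of_dec (x := x) (hv ▸ τ.dec_jb v)
    exact ⟨h1, fun i => by rw [h2]⟩
  · exact D.mem_of_acts_id x.2 (ε := τ.sgnv x) (h.1 ▸ τ.dec_acts (τ.dec_self x)) h.2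

end Tri

end Data

end CfsgLib.McLThree
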