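import Cfsg.Agent.Lib.McLThree.FrameFacts

/-!
# The action of `N(Z)` on five points
-/

set_option autoImplicit false
set_option linter.unusedSectionVars false
set_option maxRecDepth 20000

open scoped Pointwise

namespace CfsgLib.McLThree

open Equiv

theorem odd_many : (Finset.univ.filter fun x : SL25 => decide (x ^ 15 = 1 ∨ (-x) ^ 15 = 1) = true).card = 90 := by
  decide +kernel

/-- The quaternion subgroup. -/
def qSub : Subgroup SL25 where
  carrier := {x | x ∈ qList}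
  mul_mem' := fun ha hb => qList_mul.2.1 _ ha _ hb
  one_mem' := qList_mul.1
  inv_mem' := fun {a} ha => by
    have key : ∀ n : ℕ, a ^ n ∈ qList := fun n => by
      induction n with
      | zero => rw [pow_zero]; exact qList_mul.1
      | succ n ih => rw [pow_succ]; exact qList_mul.2.1 _ ih _ ha
    show a⁻¹ ∈ qList
    have e : a⁻¹ = a ^ (orderOf a - 1) := inv_eq_of_mul_eq_one_left (by
      rw [← pow_succ, Nat.sub_add_cancel (orderOf_pos a), pow_orderOf_eq_one])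
    rw [e]; exact key _

theorem card_qSub : Nat.card qSub = 8 := by
  show Nat.card {x : SL25 // x ∈ qList} = 8
  rw [Nat.card_eq_fintype_card, Fintype.card_of_subtype qList.toFinset (fun x => List.mem_toFinset)]
  exact qList_mul.2.2

theorem mem_norm_qSub {g : SL25} : g ∈ Subgroup.normalizer (qSub : Set SL25) ↔ qNorm g = true := by
  constructor
  · intro h
    refine List.all_eq_true.mpr fun a ha => decide_eq_true ?_
    exact (Subgroup.mem_normalizer_iff.mp h a).mp ha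
  · intro h
    rw [Subgroup.mem_normalizer_iff_map_conj_eq]
    refine Subgroup.eq_of_le_of_card_ge ?_ (le_of_eq
      (Subgroup.card_map_of_injective (f := (MulAut.conj g).toMonoidHom) (MulAut.conj g).injective).symm)
    rintro _ ⟨a, ha, rfl⟩
    have h' := List.all_eq_true.mp h a ha
    exact (of_decide_eq_true h' : g * a * g⁻¹ ∈ qList)

/-- The quaternion subgroup as a Sylow subgroup. -/
noncomputable def qSylow : Sylow 2 SL25 :=
  haveI : Fact (Nat.Prime 2) := ⟨Nat.prime_two⟩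
  Sylow.ofCard qSub (by
    rw [card_qSub, Nat.card_eq_fintype_card, card_sl, show (120 : ℕ) = 2 ^ 3 * 15 by norm_num,
      Nat.factorization_mul (by norm_num) (by norm_num), Finsupp.add_apply,
      Nat.Prime.factorization_pow Nat.prime_two, Finsupp.single_eq_same,
      Nat.factorization_eq_zero_of_not_dvd (by norm_num : ¬ 2 ∣ 15)]
    norm_num)

theorem card_sylow : Nat.card (Sylow 2 SL25) = 5 := by
  haveI : Fact (Nat.Prime 2) := ⟨Nat.prime_two⟩
  rw [qSylow.card_eq_index_normalizer]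
  have h := (Subgroup.normalizer (qSylow : Set SL25)).card_mul_index
  have hn : Nat.card (Subgroup.normalizer (qSylow : Set SL25)) = 24 := by
    show Nat.card {g : SL25 // g ∈ Subgroup.normalizer (qSub : Set SL25)} = 24
    rw [Nat.card_congr (Equiv.subtypeEquivRight fun g => mem_norm_qSub), Nat.card_eq_fintype_card,
      Fintype.card_subtype]
    exact qNorm_card
  rw [hn, Nat.card_eq_fintype_card, card_sl] at h
  show (Subgroup.normalizer (qSylow : Set SL25)).index = 5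
  omega

theorem sylow_fixed {g : SL25} (h : ∀ P : Sylow 2 SL25, MulAut.conj g • P = P) : g = 1 ∨ g = -1 := by
  refine qNorm_core g fun x => mem_norm_qSub.mp ?_
  have h1 := h (x⁻¹ • qSylow)
  have h2 : (x * g * x⁻¹) • qSylow = qSylow := by
    have h3 : g • (x⁻¹ • qSylow) = x⁻¹ • qSylow := h1
    rw [mul_smul, mul_smul, h3, smul_inv_smul]
  exact Sylow.smul_eq_iff_mem_normalizer.mp h2

namespace Hyp

variable {G : Type*} [Group G] [Finite G] (H : Hyp G)

/-- The centralizer of `t`. -/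
def C : Subgroup G := Subgroup.centralizer ({H.t} : Set G)

/-- The normalizer of `Z` in the centralizer of `t`. -/
def N1 : Subgroup G := H.C ⊓ H.NZ

/-- The part of `L0` centralizing `t`. -/
def K : Subgroup G := H.C ⊓ H.L0

theorem mem_C {x : G} : x ∈ H.C ↔ H.t * x * H.t = x := by
  rw [C, Subgroup.mem_centralizer_singleton_iff]
  constructor
  · intro h; rw [← h, mul_assoc, H.t_sq, mul_one]
  · intro h
    calc x * H.t = H.t * x * H.t * H.t := by rw [h]
      _ = _ := by rw [mul_assoc, H.t_sq, mul_one]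

theorem t_mem_C : H.t ∈ H.C := H.mem_C.mpr (by rw [H.t_sq, one_mul])

theorem Z_le_C : H.Z ≤ H.C := fun _ hm => H.mem_C.mpr (H.t_Z hm)

theorem K_le_N1 : H.K ≤ H.N1 := inf_le_inf_left _ H.L0_le

theorem conj_L0 {n x : G} (hn : n ∈ H.NZ) (hx : x ∈ H.L0) : n * x * n⁻¹ ∈ H.L0 := by
  rw [H.hL0] at hx
  induction hx using Subgroup.closure_induction with
  | mem x hx =>
    obtain ⟨hxN, k, hk⟩ := hx
    refine H.three_mem_L0 (mul_mem (mul_mem hn hxN) (inv_mem hn)) ⟨k, ?_⟩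
    rw [← MulAut.conj_apply, MulEquiv.orderOf_eq]; exact hk
  | one => simp
  | mul a b _ _ ha hb => rw [show n * (a * b) * n⁻¹ = n * a * n⁻¹ * (n * b * n⁻¹) by group]; exact mul_mem ha hb
  | inv a _ ha => rw [show n * a⁻¹ * n⁻¹ = (n * a * n⁻¹)⁻¹ by group]; exact inv_mem ha

/-- Conjugation followed by the projection. -/
def piConj (n : H.N1) : H.L0 →* SL25 :=
  H.piL.comp
    { toFun := fun x => ⟨(n : G) * x * (n : G)⁻¹, H.conj_L0 n.2.2 x.2⟩
      map_one' := Subtype.ext (by simp)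
      map_mul' := fun x y => Subtype.ext (by simp [mul_assoc]) }

theorem piConj_ker (n : H.N1) : H.piL.ker ≤ (H.piConj n).ker := fun x hx => by
  refine (H.piL_ker _).mpr ?_
  exact H.Q_conj n.2.2 ((H.piL_ker x).mp hx)

/-- The induced endomorphism. -/
noncomputable def endo (n : H.N1) : SL25 →* SL25 :=
  H.piL.liftOfSurjective H.piL_surj ⟨H.piConj n, H.piConj_ker n⟩

theorem endo_spec (n : H.N1) (x : H.L0) :
    H.endo n (H.piL x) = H.piL ⟨(n : G) * x * (n : G)⁻¹, H.conj_L0 n.2.2 x.2⟩ :=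
  MonoidHom.liftOfRightInverse_comp_apply _ _ _ _ x

theorem endo_mul (m n : H.N1) (y : SL25) : H.endo (m * n) y = H.endo m (H.endo n y) := by
  obtain ⟨x, rfl⟩ := H.piL_surj y
  rw [H.endo_spec, H.endo_spec, H.endo_spec]
  congr 1; exact Subtype.ext (by simp [mul_assoc])

theorem endo_one (y : SL25) : H.endo 1 y = y := by
  obtain ⟨x, rfl⟩ := H.piL_surj y
  rw [H.endo_spec]; congr 1; exact Subtype.ext (by simp)

/-- The induced automorphisms of `SL₂(5)`. -/
noncomputable def aut : H.N1 →* MulAut SL25 where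
  toFun n :=
    { toFun := H.endo n
      invFun := H.endo n⁻¹
      left_inv := fun y => by rw [← H.endo_mul, inv_mul_cancel, H.endo_one]
      right_inv := fun y => by rw [← H.endo_mul, mul_inv_cancel, H.endo_one]
      map_mul' := (H.endo n).map_mul }
  map_one' := MulEquiv.ext H.endo_one
  map_mul' m n := MulEquiv.ext (H.endo_mul m n)

/-- An enumeration of the five Sylow subgroups. -/
noncomputable def five5 : Sylow 2 SL25 ≃ Fin 5 := (Finite.equivFinOfCardEq card_sylow)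

/-- The action on five points. -/
noncomputable def θ : H.N1 →* Perm (Fin 5) :=
  five5.permCongrHom.toMonoidHom.comp ((MulAction.toPermHom (MulAut SL25) (Sylow 2 SL25)).comp H.aut)

theorem θ_eq_one {n : H.N1} : H.θ n = 1 ↔ ∀ P : Sylow 2 SL25, H.aut n • P = P := by
  show five5.permCongrHom (MulAction.toPermHom (MulAut SL25) (Sylow 2 SL25) (H.aut n)) = 1 ↔ _
  rw [MulEquiv.map_eq_one_iff, Equiv.ext_iff]
  exact Iff.rfl

theorem aut_K {x : G} (hx : x ∈ H.K) : H.aut ⟨x, H.K_le_N1 hx⟩ = MulAut.conj (H.piL ⟨x, hx.2⟩) := by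
  refine MulEquiv.ext fun y => ?_
  obtain ⟨y', rfl⟩ := H.piL_surj y
  show H.endo _ _ = _
  rw [H.endo_spec, MulAut.conj_apply, ← map_mul, ← map_inv, ← map_mul]
  rfl

theorem θ_K {x : G} (hx : x ∈ H.K) :
    H.θ ⟨x, H.K_le_N1 hx⟩ = 1 ↔ (H.piL ⟨x, hx.2⟩ = 1 ∨ H.piL ⟨x, hx.2⟩ = -1) := by
  rw [H.θ_eq_one, H.aut_K hx]
  refine ⟨sylow_fixed, fun h P => ?_⟩
  have hc : MulAut.conj (H.piL ⟨x, hx.2⟩) = 1 := MulEquiv.ext fun y => by
    rw [MulAut.conj_apply, MulAut.one_apply]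
    rcases h with e | e <;> rw [e]
    · simp
    · rw [neg_one_central, mul_inv_cancel_right]
  rw [hc, one_smul]

theorem exists_K_lift (y : SL25) : ∃ x, ∃ hx : x ∈ H.K, H.piL ⟨x, hx.2⟩ = y := by
  obtain ⟨⟨x, hx⟩, rfl⟩ := H.piL_surj y
  obtain ⟨c, hc, ht⟩ := H.exists_fixed_lift hx
  refine ⟨c * x, ⟨H.mem_C.mpr ht, mul_mem (H.hQL hc) hx⟩, ?_⟩
  rw [show (⟨c * x, mul_mem (H.hQL hc) hx⟩ : H.L0) = ⟨c, H.hQL hc⟩ * ⟨x, hx⟩ from rfl, map_mul,
    (H.piL_ker ⟨c, H.hQL hc⟩).mpr hc, one_mul]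

theorem Q_cent_t {q : G} (hq : q ∈ H.Q) (hc : q ∈ H.C) : q ∈ H.Z := by
  have h := H.t_Q_inv hq
  rw [H.mem_C.mp hc] at h
  have : q = (q * q) ^ 2 := by
    rw [← pow_two, ← pow_mul, show 2 * 2 = 3 + 1 from rfl, pow_succ, H.hQexp q hq, one_mul]
  rw [this]; exact pow_mem h 2

theorem K_pm {x : G} (hx : x ∈ H.K) (h : H.piL ⟨x, hx.2⟩ = 1 ∨ H.piL ⟨x, hx.2⟩ = -1) :
    x ∈ H.Z ∨ H.t * x ∈ H.Z := by
  rcases h with h | h
  · exact Or.inl (H.Q_cent_t ((H.piL_ker _).mp h) hx.1)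
  · refine Or.inr (H.Q_cent_t ((H.piL_ker (⟨H.t, H.t_mem⟩ * ⟨x, hx.2⟩)).mp ?_) (mul_mem H.t_mem_C hx.1))
    rw [map_mul, H.piL_t, h, neg_one_spec.2]

theorem Z_le_K : H.Z ≤ H.K := le_inf H.Z_le_C (H.Z_le_Q.trans H.hQL)

theorem t_mem_K : H.t ∈ H.K := ⟨H.t_mem_C, H.t_mem⟩

/-- The kernel commutes with `K` modulo `Z`. -/
theorem ker_comm {n : G} (hn : n ∈ H.N1) (hθ : H.θ ⟨n, hn⟩ = 1) {x : G} (hx : x ∈ H.K) :
    n * x * n⁻¹ * x⁻¹ ∈ H.Z := by
  classical
  have hnK : ∀ y ∈ H.K, n * y * n⁻¹ ∈ H.K := fun y hy =>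
    by
    have h1 : n ∈ H.C := hn.1
    have h2 : y ∈ H.C := hy.1
    have h3 : n * y * n⁻¹ ∈ H.C := mul_mem (mul_mem h1 h2) (inv_mem h1)
    exact ⟨h3, H.conj_L0 hn.2 hy.2⟩
  have hnt : n * H.t = H.t * n := Subgroup.mem_centralizer_singleton_iff.mp hn.1
  have hc : ∀ y ∈ H.K, n * y * n⁻¹ * y⁻¹ ∈ H.Z ∨ H.t * (n * y * n⁻¹ * y⁻¹) ∈ H.Z := by
    intro y hy
    have hm : n * y * n⁻¹ * y⁻¹ ∈ H.K := mul_mem (hnK y hy) (inv_mem hy)
    refine H.K_pm hm ((H.θ_K hm).mp ?_)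
    have e : (⟨n * y * n⁻¹ * y⁻¹, H.K_le_N1 hm⟩ : H.N1) =
        ⟨n, hn⟩ * ⟨y, H.K_le_N1 hy⟩ * ⟨n, hn⟩⁻¹ * ⟨y, H.K_le_N1 hy⟩⁻¹ := rfl
    rw [e, map_mul, map_mul, map_mul, map_inv, map_inv, hθ, one_mul, inv_one, mul_one, mul_inv_cancel]
  have hK : ∀ {y}, y ∈ H.K → ∀ m ∈ H.Z, y * m = m * y := fun hy m hm => H.L0_comm hy.2 hm
  let K' : Subgroup G :=
    { carrier := {y | y ∈ H.K ∧ n * y * n⁻¹ * y⁻¹ ∈ H.Z}
      one_mem' := ⟨one_mem _, by simp⟩
      mul_mem' := by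
        rintro a b ⟨ha, h1⟩ ⟨hb, h2⟩
        refine ⟨mul_mem ha hb, ?_⟩
        rw [show n * (a * b) * n⁻¹ * (a * b)⁻¹ = (n * a * n⁻¹ * a⁻¹) * (a * (n * b * n⁻¹ * b⁻¹) * a⁻¹) by group,
          hK ha _ h2, mul_inv_cancel_right]
        exact mul_mem h1 h2
      inv_mem' := by
        rintro a ⟨ha, h1⟩
        refine ⟨inv_mem ha, ?_⟩
        rw [show n * a⁻¹ * n⁻¹ * a⁻¹⁻¹ = a⁻¹ * (n * a * n⁻¹ * a⁻¹)⁻¹ * a⁻¹⁻¹ by group,
          hK (inv_mem ha) _ (inv_mem h1), mul_inv_cancel_right]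
        exact inv_mem h1 }
  have htK' : H.t ∈ K' := ⟨H.t_mem_K, by rw [hnt, mul_inv_cancel_right, mul_inv_cancel]; exact one_mem _⟩
  have hodd : ∀ y ∈ H.K, ∀ m : ℕ, Odd m → y ^ m = 1 → y ∈ K' := by
    intro y hy m hm hym
    refine ⟨hy, (hc y hy).resolve_right fun h => ?_⟩
    set c := n * y * n⁻¹ * y⁻¹ with hcdef
    have hy' : n * y * n⁻¹ = c * y := by rw [hcdef]; group
    have hcy : c * y = y * c := by
      have h2 : c = H.t * (H.t * c) := by rw [← mul_assoc, H.t_sq, one_mul]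
      have hty : y * H.t = H.t * y := Subgroup.mem_centralizer_singleton_iff.mp hy.1
      calc c * y = H.t * (H.t * c * y) := by rw [← mul_assoc, ← h2]
        _ = H.t * (y * (H.t * c)) := by rw [hK hy _ h]
        _ = H.t * y * (H.t * c) := by rw [mul_assoc H.t y]
        _ = y * H.t * (H.t * c) := by rw [hty]
        _ = y * c := by rw [mul_assoc y, ← h2]
    have h1 : c ^ m = 1 := by
      have := congrArg (· ^ m) hy'
      simp only [conj_pow, hym, (show Commute c y from hcy).mul_pow, mul_one, mul_inv_cancel] at this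
      exact this.symm
    have h3 : (H.t * c) ^ 3 = 1 := H.hQexp _ (H.Z_le_Q h)
    have htc : Commute H.t (H.t * c) := H.t_comm_Z h
    have h4 : c ^ (m * 3) = H.t := by
      obtain ⟨r, hr⟩ := hm
      rw [show c = H.t * (H.t * c) by rw [← mul_assoc, H.t_sq, one_mul], htc.mul_pow, mul_comm m 3,
        pow_mul (H.t * c), h3, one_pow, mul_one, hr,
        show 3 * (2 * r + 1) = 2 * (3 * r + 1) + 1 by ring, pow_succ, pow_mul, pow_two, H.t_sq, one_pow,
        one_mul]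
    rw [pow_mul, h1, one_pow] at h4
    exact H.t_not_Q (h4 ▸ one_mem _)
  let P : Subgroup SL25 := (K'.subgroupOf H.L0).map H.piL
  have hP15 : ∀ g : SL25, g ^ 15 = 1 → g ∈ P := by
    intro g hg
    obtain ⟨y, hy, e⟩ := H.exists_K_lift g
    have h15 : y ^ 15 ∈ H.Q := (H.piL_ker (⟨y, hy.2⟩ ^ 15)).mp (by rw [map_pow, e, hg])
    have hy45 : y ^ 45 = 1 := by rw [show 45 = 15 * 3 from rfl, pow_mul]; exact H.hQexp _ h15
    exact ⟨⟨y, hy.2⟩, hodd y hy 45 (by decide) hy45, e⟩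
  have hneg : (-1 : SL25) ∈ P := ⟨⟨H.t, H.t_mem⟩, htK', H.piL_t⟩
  have htop : P = ⊤ := by
    have h90 : 90 ≤ Nat.card P := by
      rw [← odd_many]
      show _ ≤ Nat.card {x : SL25 // x ∈ P}
      rw [Nat.card_eq_fintype_card, Fintype.card_subtype]
      refine Finset.card_le_card fun g hg => ?_
      rw [Finset.mem_filter] at hg
      refine Finset.mem_filter.mpr ⟨Finset.mem_univ _, ?_⟩
      rcases of_decide_eq_true hg.2 with h | h
      · exact hP15 g h
      · have := mul_mem hneg (hP15 _ h)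
        rwa [show (-1 : SL25) * -g = g by rw [show -g = -1 * g by simp, ← mul_assoc, neg_one_spec.2, one_mul]] at this
    refine Subgroup.eq_top_of_card_eq P ?_
    have hd := P.card_subgroup_dvd_card
    rw [Nat.card_eq_fintype_card (α := SL25), card_sl] at hd ⊢
    obtain ⟨k, hk⟩ := hd
    rcases (show k = 0 ∨ k = 1 ∨ 2 ≤ k by omega) with rfl | rfl | h2
    · omega
    · omega
    · nlinarith
  have hx' : H.piL ⟨x, hx.2⟩ ∈ P := htop ▸ Subgroup.mem_top _
  obtain ⟨⟨y, hyL⟩, hyK', e⟩ := hx'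
  have hyK : y ∈ H.K := hyK'.1
  have hq : y⁻¹ * x ∈ H.Z := by
    refine H.Q_cent_t ?_ (mul_mem (inv_mem hyK.1) hx.1)
    refine (H.piL_ker (⟨y, hyL⟩⁻¹ * ⟨x, hx.2⟩)).mp ?_
    rw [map_mul, map_inv, e, inv_mul_cancel]
  have hm : n * (y⁻¹ * x) * n⁻¹ ∈ H.Z := (Subgroup.mem_normalizer_iff.mp hn.2 _).mp hq
  have e2 : n * x * n⁻¹ * x⁻¹ = (n * y * n⁻¹ * y⁻¹) * (y * (n * (y⁻¹ * x) * n⁻¹ * (y⁻¹ * x)⁻¹) * y⁻¹) := by
    group
  rw [e2, hK hyK _ (mul_mem hm (inv_mem hq)), mul_inv_cancel_right]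
  exact mul_mem hyK'.2 (mul_mem hm (inv_mem hq))

theorem range_θ_K : (H.θ.comp (Subgroup.inclusion H.K_le_N1)).range = alternatingGroup (Fin 5) := by
  set f : H.K →* Perm (Fin 5) := H.θ.comp (Subgroup.inclusion H.K_le_N1) with hf
  classical
  have hker : Nat.card f.ker = 6 := by
    have hz := H.z_spec
    have hmem : ∀ y, y ∈ f.ker ↔ ((y : G) ∈ H.Z ∨ H.t * (y : G) ∈ H.Z) := by
      intro y
      rw [MonoidHom.mem_ker]
      show H.θ ⟨(y : G), H.K_le_N1 y.2⟩ = 1 ↔ _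
      rw [H.θ_K y.2]
      refine ⟨H.K_pm y.2, fun h => ?_⟩
      rcases h with h | h
      · exact Or.inl ((H.piL_ker _).mpr (H.Z_le_Q h))
      · right
        have := (H.piL_ker (⟨H.t, H.t_mem⟩ * ⟨(y : G), y.2.2⟩)).mpr (H.Z_le_Q h)
        rw [map_mul, H.piL_t] at this
        calc H.piL _ = -1 * (-1 * H.piL ⟨(y : G), y.2.2⟩) := by rw [← mul_assoc, neg_one_spec.2, one_mul]
          _ = -1 := by rw [this, mul_one]
    let F : f.ker → H.Z ⊕ H.Z := fun y =>
      if h : ((y : H.K) : G) ∈ H.Z then Sum.inl ⟨_, h⟩ else Sum.inr ⟨_, ((hmem _).mp y.2).resolve_left h⟩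
    have hF : Function.Bijective F := by
      constructor
      · intro a b e
        simp only [F] at e
        by_cases ha : ((a : H.K) : G) ∈ H.Z <;> by_cases hb : ((b : H.K) : G) ∈ H.Z <;> simp [ha, hb] at e
        · exact e
        · exact e
      · rintro (⟨m, hm⟩ | ⟨m, hm⟩)
        · exact ⟨⟨⟨m, H.Z_le_K hm⟩, (hmem _).mpr (Or.inl hm)⟩, dif_pos hm⟩
        · have htm : H.t * (H.t * m) = m := by rw [← mul_assoc, H.t_sq, one_mul]
          have hn : H.t * m ∉ H.Z := fun h => H.t_not_Q (H.Z_le_Q (by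
            have := mul_mem h (inv_mem hm); rwa [mul_inv_cancel_right] at this))
          refine ⟨⟨⟨H.t * m, mul_mem H.t_mem_K (H.Z_le_K hm)⟩, (hmem _).mpr (Or.inr (by rw [htm]; exact hm))⟩, ?_⟩
          simp [F, hn, htm]
    rw [Nat.card_congr (Equiv.ofBijective F hF), Nat.card_sum, H.card_Z]
  have hK : Nat.card H.K = 360 := by
    let g : H.K →* SL25 := H.piL.comp (Subgroup.inclusion (inf_le_right : H.K ≤ H.L0))
    rw [card_of_surj g (fun y => by obtain ⟨x, hx, e⟩ := H.exists_K_lift y; exact ⟨⟨x, hx⟩, e⟩)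
      (N := H.Z.subgroupOf H.K) (fun y => ⟨fun h => H.Q_cent_t ((H.piL_ker _).mp h) y.2.1,
        fun h => (H.piL_ker _).mpr (H.Z_le_Q h)⟩),
      Nat.card_congr (Subgroup.subgroupOfEquivOfLe H.Z_le_K).toEquiv, H.card_Z, Nat.card_eq_fintype_card,
      card_sl]
  have hr : Nat.card f.range = 60 := by
    have := Subgroup.card_eq_card_quotient_mul_card_subgroup f.ker
    rw [Nat.card_congr (QuotientGroup.quotientKerEquivRange f).toEquiv, hker, hK] at this
    omega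
  refine Perm.eq_alternatingGroup_of_index_eq_two ?_
  have := f.range.card_mul_index
  rw [hr, Nat.card_perm, Nat.card_fin] at this
  norm_num [Nat.factorial] at this
  omega

theorem θ_K_even {x : G} (hx : x ∈ H.K) : Perm.sign (H.θ ⟨x, H.K_le_N1 hx⟩) = 1 :=
  Perm.mem_alternatingGroup.mp (H.range_θ_K ▸ ⟨⟨x, hx⟩, rfl⟩ :
    H.θ.comp (Subgroup.inclusion H.K_le_N1) ⟨x, hx⟩ ∈ alternatingGroup (Fin 5))

theorem θ_alt {π : Perm (Fin 5)} (hπ : Perm.sign π = 1) : ∃ x, ∃ hx : x ∈ H.K, H.θ ⟨x, H.K_le_N1 hx⟩ = π := by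
  have h := Perm.mem_alternatingGroup.mpr hπ
  rw [← H.range_θ_K] at h
  obtain ⟨y, hy⟩ := h
  exact ⟨y, y.2, hy⟩

end Hyp

end CfsgLib.McLThree
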