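import Cfsg.Agent.Lib.McLThree.Elems

/-!
# Elementary facts about coordinates
-/

set_option autoImplicit false
set_option linter.unusedSectionVars false

namespace CfsgLib.McLThree

namespace Frame

variable {G : Type*} [Group G] [Finite G] {H : Hyp G} {δ : ZMod 3} (F : Frame H δ)

theorem map_nsmul' (n : ℕ) (v : V4) : F.φ (n • v) = F.φ v ^ n := by
  induction n with
  | zero => rw [zero_smul, F.map_zero', pow_zero]
  | succ n ih => rw [succ_nsmul, F.map_add, ih, pow_succ]

theorem comm_eq {x : G} (hx : x ∈ H.NJ) (v : V4) : x * F.φ v * x⁻¹ * (F.φ v)⁻¹ = F.φ (F.act hx v + -v) := by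
  rw [F.map_add, F.map_neg', F.act_spec]

theorem z_mem_pow (c : ℕ) : F.φ (c • eZ) ∈ H.Z := by
  rw [F.map_nsmul', F.map_z]; exact pow_mem H.z_spec.1 _

end Frame

end CfsgLib.McLThree
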