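import Cfsg.Agent.Lib.McLThree.FrameFacts

/-!
# Fusion into `J`: the conjugates of `z` in `S` lie in `J`, and in `Q` only in `Z`
-/

set_option autoImplicit false
set_option linter.unusedSectionVars false
set_option maxRecDepth 20000
set_option synthInstance.maxSize 4000
set_option synthInstance.maxHeartbeats 400000

open scoped Pointwise

namespace CfsgLib.McLThree

theorem sl_orders : ∀ g : SL25, g ^ 3 = 1 ∨ g ^ 5 = 1 ∨
    g = -1 ∨ g ^ 2 = -1 ∨ g ^ 3 = -1 ∨ g ^ 5 = -1 := by decide +kernel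

theorem sl_five_conj : ∀ g : SL25, g ^ 5 = 1 → g ≠ 1 →
    ∃ h : SL25, ∃ k : Fin 5, (h * g * h⁻¹) ^ (k : ℕ) = slFive := by decide +kernel

theorem five_inv : ∀ k : Fin 5, (k : ℕ) ≠ 0 → ∃ i : Fin 5, (k : ℕ) * (i : ℕ) % 5 = 1 := by decide

theorem cube_sum : ∀ w : ZMod 3 × ZMod 3, w ≠ (0, 0) → ∀ v : V4, v.2.2.2 ≠ 0 →
    tr 1 w v + tr 1 w (tr 1 w v) + v ≠ 0 := by decide +kernel

theorem tr_zero_eq : ∀ v : V4, tr 1 (0, 0) v = v := by decide +kernel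

theorem sing_flat : ∀ v : V4, qf v = 0 → v.2.2.2 = 0 → v = 0 ∨ v = eZ ∨ v = -eZ := by decide +kernel

namespace Hyp

variable {G : Type*} [Group G] [Finite G] (H : Hyp G)

/-- A three-group containing two conjugates of `J` contains only one. -/
theorem three_unique {P : Subgroup G} (hP : IsPGroup 3 P) {g : G} (hJ : H.J ≤ P)
    (hg : ∀ j ∈ H.J, g * j * g⁻¹ ∈ P) : g ∈ H.NJ := by
  obtain ⟨P', hPP'⟩ := hP.exists_le_sylow
  haveI : Fact (Nat.Prime 3) := ⟨Nat.prime_three⟩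
  obtain ⟨k, hk⟩ := MulAction.exists_smul_eq G H.S P'
  have hmem : ∀ x, x ∈ P → k⁻¹ * x * k ∈ (H.S : Subgroup G) := by
    intro x hx
    have h : x ∈ ((k • H.S : Sylow 3 G) : Subgroup G) := by rw [hk]; exact hPP' hx
    rw [Sylow.coe_subgroup_smul, Subgroup.mem_pointwise_smul_iff_inv_smul_mem] at h
    simpa [MulAut.smul_def, MulAut.conj_apply, mul_assoc] using h
  have h1 : k⁻¹ ∈ H.NJ := H.weakly_closed fun j hj => by rw [inv_inv]; exact hmem j (hJ hj)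
  have h2 : k⁻¹ * g ∈ H.NJ := H.weakly_closed fun j hj => by
    rw [show k⁻¹ * g * j * (k⁻¹ * g)⁻¹ = k⁻¹ * (g * j * g⁻¹) * k by group]
    exact hmem _ (hg j hj)
  have := mul_mem (inv_mem h1) h2
  rwa [inv_inv, mul_inv_cancel_left] at this

/-- Fusion between subsets of `J` is controlled by the normalizer of `J`. -/
theorem fusion {x : G} {R : Set G} (hR : R ⊆ H.J) (hx : ∀ r ∈ R, x * r * x⁻¹ ∈ H.J) :
    ∃ n ∈ H.NJ, ∀ r ∈ R, n * r * n⁻¹ = x * r * x⁻¹ := by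
  haveI : Fact (Nat.Prime 3) := ⟨Nat.prime_three⟩
  set C := Subgroup.centralizer {y : G | ∃ r ∈ R, x * r * x⁻¹ = y} with hC
  have hJC : H.J ≤ C := fun j hj => Subgroup.mem_centralizer_iff.mpr (by
    rintro _ ⟨r, hr, rfl⟩
    exact H.hJc _ (hx r hr) j hj)
  have hJx : H.J.map (MulAut.conj x).toMonoidHom ≤ C := by
    rintro _ ⟨j, hj, rfl⟩
    refine Subgroup.mem_centralizer_iff.mpr ?_
    rintro _ ⟨r, hr, rfl⟩
    show x * r * x⁻¹ * (x * j * x⁻¹) = x * j * x⁻¹ * (x * r * x⁻¹)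
    rw [show x * r * x⁻¹ * (x * j * x⁻¹) = x * (r * j) * x⁻¹ by group, H.hJc r (hR hr) j hj]
    group
  have hJp : IsPGroup 3 H.J := H.S.isPGroup'.to_le H.hJS
  obtain ⟨P1, h1⟩ := (hJp.of_equiv (Subgroup.subgroupOfEquivOfLe hJC).symm).exists_le_sylow
  obtain ⟨P2, h2⟩ :=
    ((hJp.map (MulAut.conj x).toMonoidHom).of_equiv (Subgroup.subgroupOfEquivOfLe hJx).symm).exists_le_sylow
  obtain ⟨c, hc⟩ := MulAction.exists_smul_eq C P2 P1
  have hP : IsPGroup 3 ((P1 : Subgroup C).map C.subtype) := P1.isPGroup'.map _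
  have hn : (c : G) * x ∈ H.NJ := by
    refine H.three_unique hP (fun j hj => ⟨⟨j, hJC hj⟩, h1 (Subgroup.mem_subgroupOf.mpr hj), rfl⟩) fun j hj => ?_
    have hxj : x * j * x⁻¹ ∈ C := hJx ⟨j, hj, rfl⟩
    refine ⟨c * ⟨_, hxj⟩ * c⁻¹, ?_, ?_⟩
    · rw [← hc, Sylow.coe_subgroup_smul]
      exact ⟨⟨_, hxj⟩, h2 (Subgroup.mem_subgroupOf.mpr ⟨j, hj, rfl⟩), rfl⟩
    · simp only [Subgroup.coe_subtype, Subgroup.coe_mul, InvMemClass.coe_inv]
      group
  refine ⟨_, hn, fun r hr => ?_⟩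
  have := Subgroup.mem_centralizer_iff.mp c.2 _ ⟨r, hr, rfl⟩
  rw [show (c : G) * x * r * ((c : G) * x)⁻¹ = (c : G) * (x * r * x⁻¹) * (c : G)⁻¹ by group, ← this]
  group

/-- An element of `L0` fixing a nontrivial class of `Q/Z` has image of order dividing three. -/
theorem stab_cube {c w : G} (hc : c ∈ H.L0) (hw : w ∈ H.Q) (hwZ : w ∉ H.Z)
    (hcw : c * w * c⁻¹ * w⁻¹ ∈ H.Z) : H.piL ⟨c, hc⟩ ^ 3 = 1 := by
  have hpow : ∀ n : ℕ, c ^ n * w * (c ^ n)⁻¹ * w⁻¹ ∈ H.Z := by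
    intro n
    induction n with
    | zero => simp
    | succ n ih =>
      rw [show c ^ (n + 1) * w * (c ^ (n + 1))⁻¹ * w⁻¹ =
        (c ^ n * (c * w * c⁻¹ * w⁻¹) * (c ^ n)⁻¹) * (c ^ n * w * (c ^ n)⁻¹ * w⁻¹) by
          rw [pow_succ]; group, H.L0_comm (pow_mem hc n) hcw, mul_inv_cancel_right]
      exact mul_mem hcw ih
  -- no power maps to the central involution
  have hneg : ∀ n : ℕ, H.piL ⟨c, hc⟩ ^ n ≠ -1 := by
    intro n e
    have hq : H.t * c ^ n ∈ H.Q := by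
      refine (H.piL_ker (⟨H.t, H.t_mem⟩ * ⟨c, hc⟩ ^ n)).mp ?_
      rw [map_mul, map_pow, e, H.piL_t]; exact neg_one_spec.2
    obtain ⟨m, hm, e1⟩ := H.comm_Z_conj hq hw
    set m' := c ^ n * w * (c ^ n)⁻¹ * w⁻¹ with hm'
    have htw : H.t * w * H.t = m'⁻¹ * m * w := by
      have e2 : H.t * (m' * w) * H.t = m * w := by
        rw [← e1, hm', mul_inv_rev, H.t_inv]
        group
      rw [← mul_assoc H.t m', H.t_comm_Z (hpow n), mul_assoc m', mul_assoc m'] at e2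
      rw [mul_assoc m'⁻¹, ← e2, inv_mul_cancel_left]
    have h4 := H.t_Q_inv hw
    rw [htw] at h4
    have h5 : w * w ∈ H.Z := by
      have := mul_mem (mul_mem (inv_mem hm) (hpow n)) h4
      rwa [show m⁻¹ * m' * (m'⁻¹ * m * w * w) = w * w by group] at this
    apply hwZ
    have : w = (w * w) ^ 2 := by
      rw [← pow_two, ← pow_mul, show 2 * 2 = 3 + 1 from rfl, pow_succ, H.hQexp w hw, one_mul]
    rw [this]; exact pow_mem h5 2
  rcases sl_orders (H.piL ⟨c, hc⟩) with h | h | h | h | h | h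
  · exact h
  · by_contra h3
    have h1 : H.piL ⟨c, hc⟩ ≠ 1 := fun e => h3 (by rw [e, one_pow])
    obtain ⟨g, k, hk⟩ := sl_five_conj _ h h1
    obtain ⟨⟨l, hl⟩, hlg⟩ := H.piL_surj g
    set w' := l * w * l⁻¹ with hw'
    have hw'Q : w' ∈ H.Q := H.Q_conj (H.L0_le hl) hw
    have hf := H.five_spec
    -- the element of order five fixes `w'` modulo `Z`
    have hfive : H.piL ⟨H.five, hf.1⟩ ^ 5 = 1 := by
      rw [← map_pow, show (⟨H.five, hf.1⟩ : H.L0) ^ 5 = 1 from Subtype.ext hf.2.1, map_one]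
    have hfive1 : H.piL ⟨H.five, hf.1⟩ ≠ 1 := fun e => hf.2.2 ((H.piL_ker _).mp e)
    obtain ⟨g', k', hk'⟩ := sl_five_conj _ hfive hfive1
    obtain ⟨⟨l', hl'⟩, hlg'⟩ := H.piL_surj g'
    set L := l'⁻¹ * l with hL
    have hLL : L ∈ H.L0 := mul_mem (inv_mem hl') hl
    set w' := L * w * L⁻¹ with hw'
    have hw'Q : w' ∈ H.Q := H.Q_conj (H.L0_le hLL) hw
    -- the element of order five fixes `w'` modulo `Z`
    have hfix : w' ∈ H.modCent H.five hf.1 := by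
      refine ⟨hw'Q, ?_⟩
      set f := H.five ^ (k' : ℕ) with hfdef
      set u := L * c ^ (k : ℕ) * L⁻¹ with hu
      have huL : u ∈ H.L0 := mul_mem (mul_mem hLL (pow_mem hc _)) (inv_mem hLL)
      have hq : f * u⁻¹ ∈ H.Q := by
        refine (H.piL_ker (⟨H.five, hf.1⟩ ^ (k' : ℕ) * ⟨u, huL⟩⁻¹)).mp ?_
        have e1 : (⟨u, huL⟩ : H.L0) = (⟨l', hl'⟩⁻¹ * ⟨l, hl⟩) * ⟨c, hc⟩ ^ (k : ℕ) *
            (⟨l', hl'⟩⁻¹ * ⟨l, hl⟩)⁻¹ := rfl
        rw [e1]
        simp only [map_mul, map_inv, map_pow, hlg, hlg']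
        have e2 : g * H.piL ⟨c, hc⟩ ^ (k : ℕ) * g⁻¹ = g' * H.piL ⟨H.five, hf.1⟩ ^ (k' : ℕ) * g'⁻¹ := by
          rw [← conj_pow, hk, ← conj_pow, hk']
        rw [show g'⁻¹ * g * H.piL ⟨c, hc⟩ ^ (k : ℕ) * (g'⁻¹ * g)⁻¹ =
          g'⁻¹ * (g * H.piL ⟨c, hc⟩ ^ (k : ℕ) * g⁻¹) * g' by group, e2]
        group
      obtain ⟨m, hm, e⟩ := H.comm_Z_conj hq hw'Q
      have huw : u * w' * u⁻¹ * w'⁻¹ ∈ H.Z := by
        rw [show u * w' * u⁻¹ * w'⁻¹ = L * (c ^ (k : ℕ) * w * (c ^ (k : ℕ))⁻¹ * w⁻¹) * L⁻¹ by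
          rw [hu, hw']; group, H.L0_comm hLL (hpow _), mul_inv_cancel_right]
        exact hpow _
      have hfw : f * w' * f⁻¹ * w'⁻¹ ∈ H.Z := by
        rw [show f * w' * f⁻¹ * w'⁻¹ =
          f * u⁻¹ * (u * w' * u⁻¹ * w'⁻¹) * (f * u⁻¹)⁻¹ *
            (f * u⁻¹ * w' * (f * u⁻¹)⁻¹ * w'⁻¹) by group,
          H.Z_comm huw (H.Q_le_S hq), mul_inv_cancel_right, e, mul_inv_cancel_right]
        exact mul_mem huw hm
      obtain ⟨i, hi⟩ := five_inv k' fun e0 => slFive_spec.2 (by rw [← hk', e0, pow_zero])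
      have hfi : f ^ (i : ℕ) = H.five := by
        rw [hfdef, ← pow_mul, ← Nat.mod_add_div ((k' : ℕ) * i) 5, hi, pow_add, pow_mul, hf.2.1, one_pow, mul_one,
          pow_one]
      have hit : ∀ n : ℕ, f ^ n * w' * (f ^ n)⁻¹ * w'⁻¹ ∈ H.Z := by
        intro n
        induction n with
        | zero => simp
        | succ n ih =>
          rw [show f ^ (n + 1) * w' * (f ^ (n + 1))⁻¹ * w'⁻¹ =
            (f ^ n * (f * w' * f⁻¹ * w'⁻¹) * (f ^ n)⁻¹) * (f ^ n * w' * (f ^ n)⁻¹ * w'⁻¹) by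
              rw [pow_succ]; group, H.L0_comm (pow_mem (pow_mem hf.1 _) n) hfw, mul_inv_cancel_right]
          exact mul_mem hfw ih
      rw [← hfi]; exact hit _
    -- hence it fixes `Q` modulo `Z`
    have hW : H.modCent H.five hf.1 = H.Q := by
      have hle : H.Z ≤ H.modCent H.five hf.1 := fun m hm => ⟨H.Z_le_Q hm, by
        rw [H.L0_comm hf.1 hm, mul_inv_cancel_right, mul_inv_cancel]; exact one_mem _⟩
      have hinv : ∀ a ∈ H.modCent H.five hf.1, H.five * a * H.five⁻¹ ∈ H.modCent H.five hf.1 := fun a ha => by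
        refine ⟨H.Q_conj (H.L0_le hf.1) ha.1, ?_⟩
        rw [show H.five * (H.five * a * H.five⁻¹) * H.five⁻¹ * (H.five * a * H.five⁻¹)⁻¹ =
          H.five * (H.five * a * H.five⁻¹ * a⁻¹) * H.five⁻¹ by group, H.L0_comm hf.1 ha.2,
          mul_inv_cancel_right]
        exact ha.2
      refine (H.irr hle (fun a ha => ha.1) hinv).resolve_left fun hZ => hwZ ?_
      rw [hZ] at hfix
      have e : L⁻¹ * w' * L = w := by rw [hw']; group
      rw [← e, mul_assoc, ← H.L0_comm hLL hfix, inv_mul_cancel_left]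
      exact hfix
    apply hf.2.2
    refine H.cent_Q fun q hq => ?_
    obtain ⟨-, hq2⟩ := (hW.symm ▸ hq : q ∈ H.modCent H.five hf.1)
    set m := H.five * q * H.five⁻¹ * q⁻¹ with hm
    have hit : ∀ n : ℕ, H.five ^ n * q * (H.five ^ n)⁻¹ = m ^ n * q := by
      intro n
      induction n with
      | zero => simp
      | succ n ih =>
        rw [show H.five ^ (n + 1) * q * (H.five ^ (n + 1))⁻¹ =
          H.five ^ n * (m * q) * (H.five ^ n)⁻¹ by rw [hm, pow_succ]; group,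
          ← mul_assoc, H.L0_comm (pow_mem hf.1 n) hq2, mul_assoc m, mul_assoc m, ih, ← mul_assoc, ← pow_succ']
    have h5 : m ^ 5 = 1 := by
      have := hit 5
      rw [hf.2.1, one_mul, inv_one, mul_one] at this
      exact mul_eq_right.mp this.symm
    have hm1 : m = 1 := by
      have h3' := H.hQexp m (H.Z_le_Q hq2)
      calc m = (m ^ 3) ^ 2 * (m ^ 5)⁻¹ := by group
        _ = 1 := by rw [h3', h5, one_pow, inv_one, one_mul]
    rw [hm, mul_inv_eq_one, mul_inv_eq_iff_eq_mul] at hm1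
    exact hm1.symm
  · exact absurd (pow_one _ |>.trans h) (hneg 1)
  · exact absurd h (hneg 2)
  · exact absurd h (hneg 3)
  · exact absurd h (hneg 5)

/-- Every element of `Q` is conjugate into `A` under `L0`. -/
theorem exists_into_A {w : G} (hw : w ∈ H.Q) : ∃ l ∈ H.L0, l * w * l⁻¹ ∈ H.A := by
  classical
  haveI : Fact (Nat.Prime 3) := ⟨Nat.prime_three⟩
  by_cases hwZ : w ∈ H.Z
  · exact ⟨1, one_mem _, by simpa using H.Z_le_A hwZ⟩
  -- some element outside `Q` fixes the class of `w`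
  obtain ⟨x, hx, hxQ, hxw⟩ : ∃ x ∈ H.L0, x ∉ H.Q ∧ x * w * x⁻¹ * w⁻¹ ∈ H.Z := by
    let ZQ := H.Z.subgroupOf H.Q
    choose r hr using H.piL_surj
    let f : SL25 → H.Q ⧸ ZQ := fun g =>
      QuotientGroup.mk ⟨(r g : G) * w * (r g : G)⁻¹, H.Q_conj (H.L0_le (r g).2) hw⟩
    have hcard : Nat.card (H.Q ⧸ ZQ) = 81 := by
      have h := Subgroup.card_eq_card_quotient_mul_card_subgroup ZQ
      rw [H.hQcard, Nat.card_congr (Subgroup.subgroupOfEquivOfLe H.Z_le_Q).toEquiv, H.card_Z] at h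
      omega
    have hni : ¬ Function.Injective f := fun hf => by
      have := Nat.card_le_card_of_injective f hf
      rw [hcard, Nat.card_eq_fintype_card, card_sl] at this
      omega
    simp only [Function.Injective, not_forall] at hni
    obtain ⟨a, b, e, hne⟩ := hni
    refine ⟨(r a : G)⁻¹ * r b, mul_mem (inv_mem (r a).2) (r b).2, fun h => hne ?_, ?_⟩
    · have := (H.piL_ker ((r a)⁻¹ * r b)).mpr h
      rwa [map_mul, map_inv, hr, hr, inv_mul_eq_one] at this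
    · have h : ((r a : G) * w * (r a : G)⁻¹)⁻¹ * ((r b : G) * w * (r b : G)⁻¹) ∈ H.Z :=
        Subgroup.mem_subgroupOf.mp (QuotientGroup.eq.mp e)
      have h2 : (r a : G)⁻¹ * (((r a : G) * w * (r a : G)⁻¹)⁻¹ * ((r b : G) * w * (r b : G)⁻¹)) * (r a : G) =
          ((r a : G) * w * (r a : G)⁻¹)⁻¹ * ((r b : G) * w * (r b : G)⁻¹) := by
        rw [mul_assoc, ← H.L0_comm (r a).2 h, inv_mul_cancel_left]
      rw [← h2] at h
      set m := (r a : G)⁻¹ * (((r a : G) * w * (r a : G)⁻¹)⁻¹ * ((r b : G) * w * (r b : G)⁻¹)) * (r a : G) with hm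
      rw [show (r a : G)⁻¹ * r b * w * ((r a : G)⁻¹ * r b)⁻¹ * w⁻¹ = w * m * w⁻¹ by rw [hm]; group,
        H.Z_comm h (H.Q_le_S hw), mul_inv_cancel_right]
      exact h
  have hx3 : x ^ 3 ∈ H.Q := by
    refine (H.piL_ker (⟨x, hx⟩ ^ 3)).mp ?_
    rw [map_pow]; exact H.stab_cube hx hw hwZ hxw
  -- conjugate the three-group into `S`
  have hxN := H.L0_le hx
  have hsup : IsPGroup 3 ↥(Subgroup.zpowers x ⊔ H.Q) := by
    refine IsPGroup.to_sup_of_normal_right' ?_ H.Q_pgroup ?_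
    · rintro ⟨y, hy⟩
      obtain ⟨n, rfl⟩ := Subgroup.mem_zpowers_iff.mp hy
      refine ⟨2, Subtype.ext ?_⟩
      show (x ^ n) ^ (3 ^ 2) = 1
      rw [← zpow_natCast, ← zpow_mul, mul_comm, zpow_mul, zpow_natCast, show (3 : ℕ) ^ 2 = 3 * 3 by norm_num,
        pow_mul, H.hQexp _ hx3, one_zpow]
    · rw [Subgroup.zpowers_le]
      exact Subgroup.mem_normalizer_iff.mpr fun q =>
        ⟨fun h => H.Q_conj hxN h, fun h => by simpa [mul_assoc] using H.Q_conj (inv_mem hxN) h⟩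
  have hle : Subgroup.zpowers x ⊔ H.Q ≤ H.L0 := sup_le (Subgroup.zpowers_le.mpr hx) H.hQL
  obtain ⟨P, hP⟩ := (hsup.of_equiv (Subgroup.subgroupOfEquivOfLe hle).symm).exists_le_sylow
  obtain ⟨⟨l, hl⟩, hlP⟩ := MulAction.exists_smul_eq H.L0 P (H.S.subtype H.S_le_L0)
  have hy : l * x * l⁻¹ ∈ (H.S : Subgroup G) := by
    have hmem : (⟨l, hl⟩ : H.L0) * ⟨x, hx⟩ * ⟨l, hl⟩⁻¹ ∈ (((⟨l, hl⟩ : H.L0) • P : Sylow 3 H.L0) : Subgroup H.L0) := by
      rw [Sylow.coe_subgroup_smul]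
      exact ⟨⟨x, hx⟩, hP (Subgroup.mem_subgroupOf.mpr (Subgroup.mem_sup_left (Subgroup.mem_zpowers x))), rfl⟩
    rw [hlP] at hmem
    exact hmem
  obtain ⟨q, hq, j, hj, e⟩ := H.S_decomp hy
  refine ⟨l, hl, H.cent_mod_Z (H.Q_conj (H.L0_le hl) hw) hj (fun hjQ => hxQ ?_) ?_⟩
  · have h := H.Q_conj (inv_mem (H.L0_le hl)) (e ▸ mul_mem hq hjQ : l * x * l⁻¹ ∈ H.Q)
    rwa [show l⁻¹ * (l * x * l⁻¹) * l⁻¹⁻¹ = x by group] at h
  · set w' := l * w * l⁻¹ with hw'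
    have h1 : l * x * l⁻¹ * w' * (l * x * l⁻¹)⁻¹ * w'⁻¹ ∈ H.Z := by
      rw [show l * x * l⁻¹ * w' * (l * x * l⁻¹)⁻¹ * w'⁻¹ = l * (x * w * x⁻¹ * w⁻¹) * l⁻¹ by rw [hw']; group,
        H.L0_comm hl hxw, mul_inv_cancel_right]
      exact hxw
    have hw'Q : w' ∈ H.Q := H.Q_conj (H.L0_le hl) hw
    obtain ⟨m, hm, e1⟩ := H.comm_Z_conj (inv_mem hq) hw'Q
    rw [e] at h1
    set d := q * j * w' * (q * j)⁻¹ * w'⁻¹ with hd
    have h2 : j * w' * j⁻¹ * w'⁻¹ = d * m := by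
      rw [show j * w' * j⁻¹ * w'⁻¹ = q⁻¹ * d * q * (q⁻¹ * w' * q⁻¹⁻¹ * w'⁻¹) by rw [hd]; group, e1,
        mul_inv_cancel_right, mul_assoc q⁻¹, ← H.Z_comm h1 (H.Q_le_S hq), inv_mul_cancel_left]
    have := inv_mem (mul_mem h1 hm)
    rw [← h2] at this
    rwa [show (j * w' * j⁻¹ * w'⁻¹)⁻¹ = w' * j * w'⁻¹ * j⁻¹ by group] at this

end Hyp

namespace Geo

variable {G : Type*} [Group G] [Finite G] {H : Hyp G} (K : Geo H)

/-- A conjugate of `z` in `J` is singular. -/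
theorem qf_conj_z {x : G} {v : V4} (h : x * H.z * x⁻¹ = K.F.φ v) : qf v = 0 := by
  obtain ⟨n, hn, e⟩ := H.fusion (x := x) (R := {H.z})
    (Set.singleton_subset_iff.mpr (H.Z_le_J H.z_spec.1))
    (fun r hr => by rw [Set.mem_singleton_iff.mp hr, h]; exact K.F.mem v)
  have h1 := e _ rfl
  rw [h, ← K.F.act_z hn] at h1
  rw [← K.F.inj h1]
  exact (K.zero_act hn eZ).mp qf_facts.1

include K in
/-- The conjugates of `z` in `Q` lie in `Z`. -/
theorem conj_z_Q {x : G} (h : x * H.z * x⁻¹ ∈ H.Q) : x * H.z * x⁻¹ ∈ H.Z := by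
  obtain ⟨l, hl, hA⟩ := H.exists_into_A h
  obtain ⟨v, hv⟩ := K.F.surj _ (H.A_le_J hA)
  have hz : (l * x) * H.z * (l * x)⁻¹ = K.F.φ v := by rw [hv]; group
  have hq := K.qf_conj_z hz
  have h4 := (K.F.mem_Q v).mp (hv ▸ H.A_le_Q hA)
  have hZ : K.F.φ v ∈ H.Z := by
    rcases sing_flat v hq h4 with rfl | rfl | rfl
    · rw [K.F.map_zero']; exact one_mem _
    · rw [K.F.map_z]; exact H.z_spec.1
    · rw [K.F.map_neg', K.F.map_z]; exact inv_mem H.z_spec.1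
  rw [hv] at hZ
  have e : x * H.z * x⁻¹ = l⁻¹ * (l * (x * H.z * x⁻¹) * l⁻¹) * l := by group
  rw [e, mul_assoc, ← H.L0_comm hl hZ, inv_mul_cancel_left]
  exact hZ

end Geo

namespace Data

variable {G : Type*} [Group G] [Finite G] {H : Hyp G} (D : Data H)

theorem S_act {x : G} (hx : x ∈ (H.S : Subgroup G)) :
    ∃ w : ZMod 3 × ZMod 3, ∀ v, D.F.act (H.S_le_NJ hx) v = tr 1 w v := by
  choose q hqS hq hqv using D.F.act_tr
  let f : (ZMod 3 × ZMod 3) × H.J → (H.S : Subgroup G) := fun p => ⟨q p.1 * p.2, mul_mem (hqS p.1) (H.hJS p.2.2)⟩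
  have hact : ∀ (p : (ZMod 3 × ZMod 3) × H.J) v,
      D.F.act (H.S_le_NJ (f p).2) v = tr 1 p.1 v := fun p v => by
    rw [D.F.act_mul (hq p.1) (H.S_le_NJ (H.hJS p.2.2)), D.F.act_of_J _ p.2.2, hqv]
  have hf : Function.Injective f := by
    intro p p' e
    have h1 : p.1 = p'.1 := by
      refine lift_unique _ _ (Or.inl ?_)
      rw [← hact p eB, ← hact p' eB]
      exact Geo.act_congr D.toGeo (congrArg Subtype.val e) _ _ _
    have h2 : q p.1 * (p.2 : G) = q p'.1 * p'.2 := congrArg Subtype.val e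
    rw [h1] at h2
    exact Prod.ext h1 (Subtype.ext (mul_left_cancel h2))
  have hb := (Nat.bijective_iff_injective_and_card f).mpr
    ⟨hf, by rw [Nat.card_prod, H.hJcard, H.card_S, Nat.card_eq_fintype_card]; rfl⟩
  obtain ⟨p, hp⟩ := hb.2 ⟨x, hx⟩
  refine ⟨p.1, fun v => ?_⟩
  rw [← hact p v]
  exact Geo.act_congr D.toGeo (congrArg Subtype.val hp).symm _ _ _

include D in
/-- An element of order three of `S` lies in `J` or in `Q`. -/
theorem cube_cases {y : G} (hy : y ∈ (H.S : Subgroup G)) (hy3 : y ^ 3 = 1) : y ∈ H.J ∨ y ∈ H.Q := by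
  obtain ⟨q, hq, j, hj, rfl⟩ := H.S_decomp hy
  by_cases hqJ : q ∈ H.J
  · exact Or.inl (mul_mem hqJ hj)
  by_cases hjQ : j ∈ H.Q
  · exact Or.inr (mul_mem hq hjQ)
  exfalso
  obtain ⟨w, hw⟩ := D.S_act (H.Q_le_S hq)
  obtain ⟨v, rfl⟩ := D.F.surj j hj
  have hqN := H.S_le_NJ (H.Q_le_S hq)
  have hw0 : w ≠ (0, 0) := fun e => hqJ (D.F.act_id_mem hqN fun u => by rw [hw, e, tr_zero_eq])
  have hv : v.2.2.2 ≠ 0 := fun e => hjQ ((D.F.mem_Q v).mpr e)
  refine cube_sum w hw0 v hv (D.F.inj ?_)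
  rw [D.F.map_zero', D.F.map_add, D.F.map_add, ← hw v, ← hw (D.F.act hqN v), D.F.act_spec, D.F.act_spec,
    D.F.act_spec]
  have hq3 := H.hQexp q hq
  calc q * D.F.φ v * q⁻¹ * (q * (q * D.F.φ v * q⁻¹) * q⁻¹) * D.F.φ v
      = q * D.F.φ v * (q * D.F.φ v) * ((q ^ 3)⁻¹ * (q * D.F.φ v)) := by group
    _ = (q * D.F.φ v) ^ 3 := by rw [hq3, inv_one, one_mul, pow_succ, pow_two]
    _ = 1 := hy3

include D in
/-- The conjugates of `z` in `S` lie in `J`. -/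
theorem conj_z_S {x : G} (h : x * H.z * x⁻¹ ∈ (H.S : Subgroup G)) : x * H.z * x⁻¹ ∈ H.J := by
  have h3 : (x * H.z * x⁻¹) ^ 3 = 1 := by rw [conj_pow, H.z_spec.2.1]; group
  rcases D.cube_cases h h3 with h' | h'
  · exact h'
  · exact H.Z_le_J (D.toGeo.conj_z_Q h')

end Data

end CfsgLib.McLThree
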