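import Cfsg.Agent.Lib.McLThree.Setup8
import Cfsg.Agent.Lib.McLThree.EightFacts
import Cfsg.Agent.Lib.Transfer.Thompson

/-!
# A subgroup of index two avoiding the inverting involution
-/

set_option autoImplicit false
set_option linter.unusedSectionVars false
set_option maxRecDepth 20000
set_option synthInstance.maxSize 4000
set_option synthInstance.maxHeartbeats 400000

open Equiv

namespace CfsgLib.McLThree

/-- The square of an element interchanging the lines is a rotation. -/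
theorem swap_square : ∀ p q r s : ZMod 3, p * p + q * q = 2 → r * r + s * s = 2 →
    (p + r) * (p + r) + (q + s) * (q + s) = 1 →
    ((∀ v, dMap 1 2 p q r s (dMap 1 2 p q r s v) = v) ∨ ∀ v, dMap 1 2 p q r s (dMap 1 2 p q r s v) = tauV v) →
    ∀ a gp gq : ZMod 3, a ≠ 0 → gp * gp + gq * gq = 1 →
    ∃ s0 : ZMod 3, s0 ≠ 0 ∧ ∀ v, gMap a gp gq (dMap 1 2 p q r s (gMap a gp gq (dMap 1 2 p q r s v))) =
      eMap 2 s0 v := by decide +kernel

namespace Twist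

variable {G : Type*} [Group G] [Finite G] {H : Hyp G} {D : Data H} (W : Twist D)

/-- The part of order four of the element inverting both lines. -/
def e1 (_W : Twist D) : G := D.e ^ 3

theorem e1_C : W.e1 ∈ H.C := pow_mem (H.mem_C.mpr D.e_t) 3

theorem e1_NJ : W.e1 ∈ H.NJ := pow_mem (H.M0_le D.he) 3

theorem e1_sq : W.e1 * W.e1 = H.t := by
  have heN := H.M0_le D.he
  have hct : Commute H.t D.e := (Subgroup.mem_centralizer_singleton_iff.mp (H.mem_C.mpr D.e_t)).symm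
  set j := D.e * D.e * H.t with hj
  have hjJ : j ∈ H.J := D.F.act_id_mem (mul_mem (mul_mem heN heN) H.t_NJ) fun v => by
    rw [D.F.act_mul (mul_mem heN heN) H.t_NJ, D.F.act_mul heN heN, D.e_act, D.e_act, D.toGeo.act_t,
      (eMap_facts 2 D.es (by decide) D.es0 (tauV v)).1]
    simp [tauV]
  have hc : Commute j H.t := by
    rw [hj]
    exact ((hct.symm.mul_left hct.symm).mul_left (Commute.refl _))
  have e1 : D.e * D.e = j * H.t := by rw [hj, mul_assoc, mul_assoc, H.t_sq, mul_one]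
  rw [Twist.e1, ← (Commute.refl D.e).mul_pow 3, e1, hc.mul_pow, H.hJexp _ hjJ, one_mul, pow_succ, pow_two,
    H.t_sq, one_mul]

theorem e1_inv : W.e1 * H.z * W.e1⁻¹ = H.z⁻¹ ∧ W.e1 * D.a * W.e1⁻¹ = D.a⁻¹ := by
  obtain ⟨-, hez, heb⟩ := D.e_N1
  have key : ∀ u : G, D.e * u * D.e⁻¹ = u⁻¹ → W.e1 * u * W.e1⁻¹ = u⁻¹ := fun u h => by
    rw [Twist.e1, show D.e ^ 3 * u * (D.e ^ 3)⁻¹ = D.e * (D.e * (D.e * u * D.e⁻¹) * D.e⁻¹) * D.e⁻¹ by
      simp only [pow_succ, pow_zero, one_mul, mul_inv_rev, mul_assoc], h,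
      show D.e * u⁻¹ * D.e⁻¹ = (D.e * u * D.e⁻¹)⁻¹ by group, h, inv_inv, h]
  refine ⟨key _ hez, key _ ?_⟩
  rw [D.a_pow, ← conj_pow, heb, inv_pow]

theorem e1_act (v : V4) : D.F.act W.e1_NJ v = eMap 2 D.es (tauV v) := by
  have heN := H.M0_le D.he
  rw [Geo.act_congr D.toGeo (show W.e1 = D.e * (D.e * D.e) by rw [Twist.e1, pow_succ, pow_two, mul_assoc])
      W.e1_NJ (mul_mem heN (mul_mem heN heN)),
    D.F.act_mul heN (mul_mem heN heN), D.F.act_mul heN heN, D.e_act, D.e_act, D.e_act,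
    (eMap_facts 2 D.es (by decide) D.es0 v).1]
  rfl

include W in
/-- The interchanging involution is conjugate in `C` to its product with `t`. -/
theorem exists_g_swap : ∃ c ∈ H.C, c * D.g3 * c⁻¹ = H.t * D.g3 := by
  set w := D.g3 * W.e1 * D.g3 * W.e1 with hw
  have hwJ : w ∈ H.J := D.F.act_id_mem (mul_mem (mul_mem (mul_mem D.g3_NJ W.e1_NJ) D.g3_NJ) W.e1_NJ) fun v => by
    rw [D.F.act_mul (mul_mem (mul_mem D.g3_NJ W.e1_NJ) D.g3_NJ) W.e1_NJ, D.F.act_mul (mul_mem D.g3_NJ W.e1_NJ) D.g3_NJ,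
      D.F.act_mul D.g3_NJ W.e1_NJ, D.g3_act, D.g3_act, W.e1_act, W.e1_act]
    have h : ∀ a s p q : ZMod 3, a ≠ 0 → s ≠ 0 → p * p + q * q = 1 → ∀ v,
        gMap a p q (eMap 2 s (tauV (gMap a p q (eMap 2 s (tauV v))))) = v := by decide +kernel
    exact h D.ga D.es D.gp D.gq D.ga0 D.es0 D.gpq v
  have hwC : w ∈ H.C := mul_mem (mul_mem (mul_mem D.g3_C W.e1_C) D.g3_C) W.e1_C
  have he1i : W.e1⁻¹ = H.t * W.e1 := by
    refine inv_eq_of_mul_eq_one_left ?_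
    rw [mul_assoc, W.e1_sq, H.t_sq]
  have hte : Commute H.t W.e1 := (Subgroup.mem_centralizer_singleton_iff.mp W.e1_C).symm
  have htg : Commute H.t D.g3 := (Subgroup.mem_centralizer_singleton_iff.mp D.g3_C).symm
  have htw : Commute H.t w := (Subgroup.mem_centralizer_singleton_iff.mp hwC).symm
  have hconj : W.e1 * D.g3 * W.e1⁻¹ = H.t * D.g3 * w := by
    calc W.e1 * D.g3 * W.e1⁻¹ = D.g3 * (D.g3 * W.e1 * D.g3) * W.e1⁻¹ := by
          rw [show D.g3 * (D.g3 * W.e1 * D.g3) = (D.g3 * D.g3) * W.e1 * D.g3 by group, D.g3_sq, one_mul]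
      _ = D.g3 * (D.g3 * W.e1 * D.g3 * W.e1) * H.t := by
          rw [he1i, hte.eq]; group
      _ = H.t * D.g3 * w := by rw [← hw, ← ((htg.mul_right htw)).eq]; group
  have hgw : D.g3 * w * D.g3 = w⁻¹ := by
    have h2 : H.t * D.g3 * w * (H.t * D.g3 * w) = 1 := by
      rw [← hconj, show W.e1 * D.g3 * W.e1⁻¹ * (W.e1 * D.g3 * W.e1⁻¹) = W.e1 * (D.g3 * D.g3) * W.e1⁻¹ by group,
        D.g3_sq, mul_one, mul_inv_cancel]
    have h3 : D.g3 * w * (D.g3 * w) = 1 := by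
      have hc : Commute H.t (D.g3 * w) := htg.mul_right htw
      rw [mul_assoc H.t, ← pow_two, hc.mul_pow, pow_two, pow_two, H.t_sq, one_mul] at h2
      exact h2
    exact eq_inv_of_mul_eq_one_left (by rw [show D.g3 * w * D.g3 * w = D.g3 * w * (D.g3 * w) by group, h3])
  have hw3 : w * w * w = 1 := by
    have := H.hJexp _ hwJ
    rwa [pow_succ, pow_two] at this
  have hwg : D.g3 * w = w * D.g3 * w⁻¹ := by
    calc D.g3 * w = (D.g3 * w * D.g3) * D.g3⁻¹ := by group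
      _ = w⁻¹ * D.g3 := by rw [hgw, D.g3_inv]
      _ = w * (w⁻¹ * w⁻¹) * D.g3 := by group
      _ = w * (w⁻¹ * w⁻¹ * D.g3) := by group
      _ = w * (D.g3 * (D.g3 * (w⁻¹ * w⁻¹) * D.g3)) := by
          rw [show D.g3 * (D.g3 * (w⁻¹ * w⁻¹) * D.g3) = (D.g3 * D.g3) * (w⁻¹ * w⁻¹) * D.g3 by group, D.g3_sq,
            one_mul]
      _ = w * (D.g3 * (w * w)) := by
          congr 2
          rw [show D.g3 * (w⁻¹ * w⁻¹) * D.g3 = ((D.g3⁻¹ * w * D.g3⁻¹) * (D.g3 * D.g3) * (D.g3⁻¹ * w * D.g3⁻¹))⁻¹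
            by group, D.g3_inv, D.g3_sq, mul_one, hgw, mul_inv_rev, inv_inv]
      _ = w * D.g3 * w⁻¹ := by rw [show w * w = w⁻¹ from eq_inv_of_mul_eq_one_left hw3]; group
  refine ⟨w⁻¹ * W.e1, mul_mem (inv_mem hwC) W.e1_C, ?_⟩
  calc w⁻¹ * W.e1 * D.g3 * (w⁻¹ * W.e1)⁻¹ = w⁻¹ * (W.e1 * D.g3 * W.e1⁻¹) * w := by group
    _ = (w⁻¹ * H.t) * (D.g3 * w) * w := by rw [hconj]; group
    _ = H.t * w⁻¹ * (w * D.g3 * w⁻¹) * w := by rw [htw.inv_right.eq, hwg]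
    _ = _ := by group

include W in
/-- The interchanging involution is conjugate to `t`. -/
theorem g_conj_t : ∃ k : G, k * D.g3 * k⁻¹ = H.t := by
  have hg : D.g3 ∈ H.M0 := pow_mem D.hg 3
  have key : ∀ u, ∀ hu : u ∈ H.M0, u * u = 1 → u ∉ H.J → ∃ x : A6, x * H.piM ⟨u, hu⟩ * x⁻¹ = fourSix * fourSix :=
    fun u hu h2 hJ => invol_conj _ (by rw [← map_mul, show (⟨u, hu⟩ : H.M0) * ⟨u, hu⟩ = 1 from Subtype.ext h2, map_one])
      (fun e => hJ ((H.piM_ker _).mp e))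
  have notJ : ∀ u, u * u = 1 → u ≠ 1 → u ∉ H.J := fun u h2 h1 hJ => h1 (by
    have h3 := H.hJexp _ hJ
    rwa [pow_succ, pow_two, h2, one_mul] at h3)
  have hg1 : D.g3 ≠ 1 := fun e => by
    have h := D.g3_z
    rw [e, one_mul, inv_one, mul_one] at h
    exact D.z_ne_pow_a 1 (h.trans (pow_one _).symm)
  have ht1 : H.t ≠ 1 := fun e => H.t_not_Q (e ▸ one_mem _)
  obtain ⟨x1, h1⟩ := key _ hg D.g3_sq (notJ _ D.g3_sq hg1)
  obtain ⟨x2, h2⟩ := key _ D.t_M0 H.t_sq (notJ _ H.t_sq ht1)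
  obtain ⟨⟨k, hk⟩, hkk⟩ := H.piM_surj (x2⁻¹ * x1)
  set u := k * D.g3 * k⁻¹ with hu
  have huJ : u * H.t ∈ H.J := by
    refine (H.piM_ker (⟨k, hk⟩ * ⟨D.g3, hg⟩ * ⟨k, hk⟩⁻¹ * ⟨H.t, D.t_M0⟩)).mp ?_
    rw [map_mul, map_mul, map_mul, map_inv, hkk]
    have htt : H.piM ⟨H.t, D.t_M0⟩ * H.piM ⟨H.t, D.t_M0⟩ = 1 := by
      rw [← map_mul, show (⟨H.t, D.t_M0⟩ : H.M0) * ⟨H.t, D.t_M0⟩ = 1 from Subtype.ext H.t_sq, map_one]
    calc x2⁻¹ * x1 * H.piM ⟨D.g3, hg⟩ * (x2⁻¹ * x1)⁻¹ * H.piM ⟨H.t, D.t_M0⟩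
        = x2⁻¹ * (x1 * H.piM ⟨D.g3, hg⟩ * x1⁻¹) * x2 * H.piM ⟨H.t, D.t_M0⟩ := by group
      _ = x2⁻¹ * (x2 * H.piM ⟨H.t, D.t_M0⟩ * x2⁻¹) * x2 * H.piM ⟨H.t, D.t_M0⟩ := by rw [h1, h2]
      _ = H.piM ⟨H.t, D.t_M0⟩ * H.piM ⟨H.t, D.t_M0⟩ := by group
      _ = 1 := htt
  set j := u * H.t with hj
  have hu2 : u * u = 1 := by
    rw [hu, show k * D.g3 * k⁻¹ * (k * D.g3 * k⁻¹) = k * (D.g3 * D.g3) * k⁻¹ by group, D.g3_sq, mul_one,
      mul_inv_cancel]
  have hju : u = j * H.t := by rw [hj, mul_assoc, H.t_sq, mul_one]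
  have hj3 : j * j * j = 1 := by
    have := H.hJexp _ huJ
    rwa [pow_succ, pow_two] at this
  have hinv : H.t * j * H.t = j⁻¹ := by
    refine eq_inv_of_mul_eq_one_right ?_
    rw [show j * (H.t * j * H.t) = (j * H.t) * (j * H.t) by group, ← hju, hu2]
  refine ⟨j * k, ?_⟩
  calc j * k * D.g3 * (j * k)⁻¹ = j * (j * H.t) * j⁻¹ := by rw [← hju, hu]; group
    _ = j * j * (H.t * j⁻¹ * H.t) * H.t := by
        rw [show j * j * (H.t * j⁻¹ * H.t) * H.t = j * j * H.t * j⁻¹ * (H.t * H.t) by group, H.t_sq, mul_one]; group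
    _ = j * j * j * H.t := by
        rw [show H.t * j⁻¹ * H.t = (H.t⁻¹ * j * H.t⁻¹)⁻¹ by group, H.t_inv, hinv, inv_inv]
    _ = H.t := by rw [hj3, one_mul]

/-- Conjugation modulo the involution. -/
theorem lift_conj {x y : H.C} (h : IsConj (H.bar x) (H.bar y)) :
    ∃ c : H.C, (c : G) * x * (c : G)⁻¹ = y ∨ (c : G) * x * (c : G)⁻¹ = H.t * y := by
  obtain ⟨q, hq⟩ := isConj_iff.mp h
  obtain ⟨c, rfl⟩ := QuotientGroup.mk'_surjective H.T q
  rw [← map_inv, ← map_mul, ← map_mul] at hq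
  exact ⟨c, H.bar_eq.mp hq⟩

include W in
theorem conj_t_of_bar {u : H.C} (h : IsConj (H.bar u) (H.bar D.gC)) : ∃ k : G, k * (u : G) * k⁻¹ = H.t := by
  obtain ⟨k, hk⟩ := W.g_conj_t
  obtain ⟨c, hc | hc⟩ := lift_conj h
  · refine ⟨k * c, ?_⟩
    calc k * c * (u : G) * (k * c)⁻¹ = k * ((c : G) * u * (c : G)⁻¹) * k⁻¹ := by group
      _ = H.t := by rw [hc]; exact hk
  · obtain ⟨c', hc', hcc⟩ := W.exists_g_swap
    refine ⟨k * c'⁻¹ * c, ?_⟩
    calc k * c'⁻¹ * c * (u : G) * (k * c'⁻¹ * c)⁻¹ = k * (c'⁻¹ * ((c : G) * u * (c : G)⁻¹) * c') * k⁻¹ := by group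
      _ = k * (c'⁻¹ * (c' * D.g3 * c'⁻¹) * c') * k⁻¹ := by
          rw [hc, hcc]; rfl
      _ = k * D.g3 * k⁻¹ := by group
      _ = H.t := hk

theorem sq_eq_t_of_bar {u : H.C} (h : IsConj (H.bar u) (H.bar ⟨W.e1, W.e1_C⟩)) : (u : G) * u = H.t := by
  obtain ⟨c, hc⟩ := lift_conj h
  have hct : Commute (c : G) H.t := Subgroup.mem_centralizer_singleton_iff.mp c.2
  have hte : Commute H.t W.e1 := (Subgroup.mem_centralizer_singleton_iff.mp W.e1_C).symm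
  have h2 : (c : G) * u * (c : G)⁻¹ * ((c : G) * u * (c : G)⁻¹) = H.t := by
    rcases hc with e | e <;> rw [e]
    · exact W.e1_sq
    · show H.t * W.e1 * (H.t * W.e1) = H.t
      rw [← pow_two, hte.mul_pow, pow_two, pow_two, H.t_sq, one_mul, W.e1_sq]
  calc (u : G) * u = (c : G)⁻¹ * ((c : G) * u * (c : G)⁻¹ * ((c : G) * u * (c : G)⁻¹)) * c := by group
    _ = (c : G)⁻¹ * (H.t * c) := by rw [h2, mul_assoc]
    _ = H.t := by rw [← hct.eq, inv_mul_cancel_left]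

include W in
/-- The rotation inverting both lines is a square modulo the involution, up to odd order. -/
theorem χ_e1 (χ : H.C →* ℤˣ) (ht : χ H.tC = 1) : χ ⟨W.e1, W.e1_C⟩ = 1 := by
  obtain ⟨x, hxK, hxJ, hxZ, hxB⟩ := D.exists_b_inverter
  obtain ⟨p, q, r, s, x1, x2, x3, hxact⟩ := D.diag hxJ (a := 1) (b := 2) (by decide) (by decide)
    (by rw [hxZ]; rfl) (by rw [hxB]; rfl)
  have hxx := D.K_square hxK hxJ hxB
  simp only [hxact] at hxx
  obtain ⟨s0, hs0, hs⟩ := swap_square p q r s x1 x2 (x3.trans (by decide)) hxx D.ga D.gp D.gq D.ga0 D.gpq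
  have hcube : ∀ u : H.C, (u : G) ∈ H.J → χ u = 1 := fun u hu => by
    have h3 : u ^ 3 = 1 := Subtype.ext (H.hJexp _ hu)
    have := congrArg χ h3
    rw [map_pow, map_one, pow_succ, Int.units_sq, one_mul] at this
    exact this
  set sC : H.C := ⟨D.g3 * x, mul_mem D.g3_C hxK.1⟩ with hsC
  have hsq : χ (sC * sC) = 1 := by rw [map_mul, Int.units_mul_self]
  set eC : H.C := ⟨D.e, H.mem_C.mpr D.e_t⟩ with heC
  have he : χ eC = 1 := by
    have hsJ : D.g3 * x ∈ H.NJ := mul_mem D.g3_NJ hxJ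
    have hssv : ∀ v, D.F.act (mul_mem hsJ hsJ) v = eMap 2 s0 v := fun v => by
      rw [D.F.act_mul hsJ hsJ, D.F.act_mul D.g3_NJ hxJ, D.F.act_mul D.g3_NJ hxJ, hxact, hxact, D.g3_act,
        D.g3_act, hs]
    have heJ := H.M0_le D.he
    by_cases hse : s0 = D.es
    · have hm : D.g3 * x * (D.g3 * x) * (D.e * H.t) ∈ H.J :=
        D.F.act_id_mem (mul_mem (mul_mem hsJ hsJ) (mul_mem heJ H.t_NJ)) fun v => by
          rw [D.F.act_mul (mul_mem hsJ hsJ) (mul_mem heJ H.t_NJ), D.F.act_mul heJ H.t_NJ, hssv, D.e_act,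
            D.toGeo.act_t, (eMap_flip s0 D.es hs0 D.es0 v).1 hse]
      have := hcube (sC * sC * (eC * H.tC)) hm
      rwa [map_mul, map_mul χ eC, hsq, one_mul, ht, mul_one] at this
    · have hm : D.g3 * x * (D.g3 * x) * D.e ∈ H.J :=
        D.F.act_id_mem (mul_mem (mul_mem hsJ hsJ) heJ) fun v => by
          rw [D.F.act_mul (mul_mem hsJ hsJ) heJ, hssv, D.e_act, (eMap_flip s0 D.es hs0 D.es0 v).2 hse]
      have := hcube (sC * sC * eC) hm
      rwa [map_mul, hsq, one_mul] at this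
  rw [show (⟨W.e1, W.e1_C⟩ : H.C) = eC ^ 3 from Subtype.ext rfl, map_pow, he, one_pow]

/-- The classes of involutions in `C` modulo the involution, through an isomorphism with `S₈`. -/
theorem classes (E : H.C ⧸ H.T ≃* Perm (Fin 8)) (S : Sym8.Setup8 (H.C ⧸ H.T)) (hz : S.z = H.bar H.zC)
    (ha : S.a = H.bar D.aC) (hg : S.g = H.bar D.gC) :
    (E (H.bar ⟨W.e1, W.e1_C⟩)).support.card = 4 ∧ (E (H.bar ⟨W.ν, W.hN.1⟩)).support.card = 6 ∧
      (E (H.bar D.gC)).support.card = 8 := by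
  set eb := H.bar ⟨W.e1, W.e1_C⟩ with heb
  set nb := H.bar ⟨W.ν, W.hN.1⟩ with hnb
  have hee : eb * eb = 1 := by
    rw [heb, ← map_mul, show (⟨W.e1, W.e1_C⟩ : H.C) * ⟨W.e1, W.e1_C⟩ = H.tC from Subtype.ext W.e1_sq]
    exact H.bar_t
  have hnn : nb * nb = 1 := by
    rw [hnb, ← map_mul, show (⟨W.ν, W.hN.1⟩ : H.C) * ⟨W.ν, W.hN.1⟩ = 1 from Subtype.ext W.sq, map_one]
  have hinv : ∀ (u v : H.C), (u : G) * v * (u : G)⁻¹ = (v : G)⁻¹ →
      H.bar u * H.bar v * (H.bar u)⁻¹ = (H.bar v)⁻¹ := fun u v h => by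
    rw [← map_inv, ← map_inv, ← map_mul, ← map_mul]
    exact congrArg H.bar (Subtype.ext h)
  have he4 : (E eb).support.card = 4 := by
    have hs := S.support_inverter E hee (by rw [hz, heb]; exact hinv _ _ W.e1_inv.1)
      (by rw [ha, heb]; exact hinv _ _ W.e1_inv.2)
    refine hs.resolve_right fun h6 => ?_
    let χ : H.C →* ℤˣ := (Perm.sign.comp E.toMonoidHom).comp H.bar
    have ht : χ H.tC = 1 := by
      show Perm.sign (E (H.bar H.tC)) = 1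
      rw [H.bar_t, map_one, map_one]
    have := W.χ_e1 χ ht
    change Perm.sign (E eb) = 1 at this
    rw [Sym8.invol_sign (by rw [← map_mul, hee, map_one]), h6] at this
    exact absurd this (by decide)
  have hn6 : (E nb).support.card = 6 := by
    have hs := S.support_inverter E hnn (by rw [hz, hnb]; exact hinv _ _ W.ν_z)
      (by rw [ha, hnb]; exact hinv _ _ (W.ν_inv_J D.a_J))
    refine hs.resolve_left fun h4 => ?_
    have hc : IsConj nb eb := by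
      have h := Sym8.invol_conj (x := E nb) (y := E eb) (by rw [← map_mul, hnn, map_one])
        (by rw [← map_mul, hee, map_one]) (h4.trans he4.symm)
      have h2 := E.symm.toMonoidHom.map_isConj h
      simpa using h2
    have := W.sq_eq_t_of_bar (u := ⟨W.ν, W.hN.1⟩) hc
    rw [W.sq] at this
    exact H.t_not_Q (this ▸ one_mem _)
  refine ⟨he4, hn6, ?_⟩
  have hs := S.support_swapper E
  rw [hg] at hs
  refine hs.resolve_left fun h6 => ?_
  have hgg : H.bar D.gC * H.bar D.gC = 1 := by rw [← hg]; exact S.gg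
  have h := Sym8.invol_conj (x := E nb) (y := E (H.bar D.gC)) (by rw [← map_mul, hnn, map_one])
    (by rw [← map_mul, hgg, map_one]) (hn6.trans h6.symm)
  have h2 := E.symm.toMonoidHom.map_isConj h
  obtain ⟨k, hk⟩ := W.conj_t_of_bar (u := ⟨W.ν, W.hN.1⟩) (by simpa [hnb] using h2)
  exact W.ν_not_conj k hk

end Twist

end CfsgLib.McLThree
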