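import Cfsg.Agent.Lib.McLThree.Nu
import Cfsg.Agent.Lib.McLThree.Fuse

/-!
# Isometries induced by the normalizer of `J`, and centralizers of pairs in `J`
-/

set_option autoImplicit false
set_option linter.unusedSectionVars false
set_option maxRecDepth 20000
set_option synthInstance.maxSize 4000
set_option synthInstance.maxHeartbeats 400000

open Equiv

namespace CfsgLib.McLThree

theorem other_line : ∀ u : V4, u ≠ 0 → qf u = 0 →
    u = eZ ∨ u = -eZ ∨ ∃ w : ZMod 3 × ZMod 3, u = tr 1 w eB ∨ u = -tr 1 w eB :=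
  fun u hu hq => (zeros_iff u hu).1 hq

theorem pm_prod : ∀ a b : ZMod 3, a ≠ 0 → b ≠ 0 → qf (a, 0, 0, b) = 1 →
    (a = 1 ∧ b = 1) ∨ (a = 2 ∧ b = 2) := by decide +kernel

theorem dMap_tau : ∀ p q r s : ZMod 3, ∀ v, dMap 1 1 p q r s (tauV v) = tauV (dMap 1 1 p q r s v) := by
  decide +kernel

theorem eMap_one_neg : ∀ s : ZMod 3, ∀ v, eMap 1 s v = -(eMap 2 (-s) v) := by decide +kernel

theorem eMap_two_tau : ∀ s e : ZMod 3, s ≠ 0 → e ≠ 0 → ∀ v,
    (s = e → eMap 2 e v = eMap 2 s v) ∧ (s ≠ e → tauV (eMap 2 e v) = eMap 2 s v) := by decide +kernel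

theorem fixMap_cases : ∀ k s : ZMod 3, (∀ v, fixMap k s v = v) ∨ (∀ v, fixMap k s v = tauV v) ∨
    ∀ v, fixMap k s v = eMap 1 s v := by decide +kernel

/-- The lines and planes which avoid a given vector. -/
theorem not_multiple : ∀ v w : V4, v ≠ 0 → w ≠ 0 → w ≠ v → w ≠ -v → ∀ c : ZMod 3, w ≠ c.val • v := by
  decide +kernel

namespace Hyp

variable {G : Type*} [Group G] [Finite G] (H : Hyp G)

theorem cent_z_le_NZ {x : G} (hx : x * H.z = H.z * x) : x ∈ H.NZ := by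
  show x ∈ Subgroup.normalizer (H.Z : Set G)
  rw [← H.z_spec.2.2.2, Subgroup.mem_normalizer_iff_map_conj_eq, MonoidHom.map_zpowers]
  show Subgroup.zpowers (x * H.z * x⁻¹) = _
  rw [hx, mul_inv_cancel_right]

/-- The centralizer of `z` and of another element of `J` normalizes `J`. -/
theorem cent_z_w {w x : G} (hw : w ∈ H.J) (hwZ : w ∉ H.Z) (hx : x * H.z = H.z * x) (hxw : x * w = w * x) :
    x ∈ H.NJ := by
  haveI : Fact (Nat.Prime 3) := ⟨Nat.prime_three⟩
  have hxN := H.cent_z_le_NZ hx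
  by_cases hwQ : w ∈ H.Q
  · -- the part of `L0` centralizing `w` is a three-group
    have hp : IsPGroup 3 ↥(H.L0 ⊓ Subgroup.centralizer ({w} : Set G)) := by
      rintro ⟨c, hc, hcw⟩
      have hcw' := Subgroup.mem_centralizer_singleton_iff.mp hcw
      have h3 := H.stab_cube hc hwQ hwZ (by rw [hcw', mul_inv_cancel_right, mul_inv_cancel]; exact one_mem _)
      have hq : c ^ 3 ∈ H.Q := by
        rw [← map_pow] at h3
        exact (H.piL_ker _).mp h3
      refine ⟨2, Subtype.ext ?_⟩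
      show c ^ (3 ^ 2) = 1
      rw [show (3 : ℕ) ^ 2 = 3 * 3 by norm_num, pow_mul, H.hQexp _ hq]
    refine H.three_unique hp (fun j hj => ⟨H.S_le_L0 (H.hJS hj), Subgroup.mem_centralizer_singleton_iff.mpr
      (H.hJc j hj w hw)⟩) fun j hj => ⟨H.conj_L0 hxN (H.S_le_L0 (H.hJS hj)),
        Subgroup.mem_centralizer_singleton_iff.mpr ?_⟩
    have e : x⁻¹ * w = w * x⁻¹ := (Commute.inv_left (show Commute x w from hxw)).eq
    calc x * j * x⁻¹ * w = x * j * (x⁻¹ * w) := by group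
      _ = x * j * (w * x⁻¹) := by rw [e]
      _ = x * (j * w) * x⁻¹ := by group
      _ = x * (w * j) * x⁻¹ := by rw [H.hJc j hj w hw]
      _ = (x * w) * j * x⁻¹ := by group
      _ = w * (x * j * x⁻¹) := by rw [hxw]; group
  · -- here `Q` and `w` generate `S`
    have hsup : H.Q ⊔ Subgroup.zpowers w = (H.S : Subgroup G) := by
      refine Subgroup.eq_of_le_of_card_ge (sup_le H.Q_le_S (Subgroup.zpowers_le.mpr (H.hJS hw))) ?_
      obtain ⟨n, hn⟩ := IsPGroup.iff_card.mp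
        (H.S.isPGroup'.to_le (sup_le H.Q_le_S (Subgroup.zpowers_le.mpr (H.hJS hw))))
      have h1 : 243 < Nat.card ↥(H.Q ⊔ Subgroup.zpowers w) := by
        refine lt_of_not_ge fun hle => hwQ ?_
        rw [Subgroup.eq_of_le_of_card_ge (le_sup_left : H.Q ≤ H.Q ⊔ Subgroup.zpowers w)
          (by rw [H.hQcard]; exact hle)]
        exact Subgroup.mem_sup_right (Subgroup.mem_zpowers w)
      rw [H.card_S, hn]
      rw [hn] at h1
      have : 6 ≤ n := by
        by_contra hn6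
        have := Nat.pow_le_pow_right (show 1 ≤ 3 by norm_num) (show n ≤ 5 by omega)
        omega
      exact le_trans (by norm_num) (Nat.pow_le_pow_right (show 1 ≤ 3 by norm_num) this)
    have hle : H.Q ⊔ Subgroup.zpowers w ≤ (H.S : Subgroup G).comap (MulAut.conj x).toMonoidHom :=
      sup_le (fun q hq => H.Q_le_S (H.Q_conj hxN hq)) (Subgroup.zpowers_le.mpr (by
        show x * w * x⁻¹ ∈ (H.S : Subgroup G)
        rw [hxw, mul_inv_cancel_right]; exact H.hJS hw))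
    exact H.weakly_closed fun j hj => hle (hsup.symm ▸ H.hJS hj)

end Hyp

namespace Data

variable {G : Type*} [Group G] [Finite G] {H : Hyp G} (D : Data H)

/-- The centralizer of two independent elements of `J`, one of them singular, normalizes `J`. -/
theorem cent_sing {v w : V4} (hv : v ≠ 0) (hq : qf v = 0) (hw0 : w ≠ 0) (hwv : w ≠ v) (hwv' : w ≠ -v)
    {x : G} (hxv : x * D.F.φ v = D.F.φ v * x) (hxw : x * D.F.φ w = D.F.φ w * x) : x ∈ H.NJ := by
  obtain ⟨m, hm, e⟩ := (D.toGeo.sing_iff v hv).mp hq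
  have hmN := H.M0_le hm
  set x' := m⁻¹ * x * m with hx'
  set w' := m⁻¹ * D.F.φ w * m with hw'
  have hw'J : w' ∈ H.J := by
    have := (Subgroup.mem_normalizer_iff.mp (inv_mem hmN) _).mp (D.F.mem w)
    rwa [inv_inv] at this
  have hw'Z : w' ∉ H.Z := by
    intro h
    have ew : D.F.φ w = m * w' * m⁻¹ := by rw [hw']; group
    rcases H.mem_Z_cases h with h' | h' | h'
    · exact hw0 (D.F.inj (by rw [ew, h', D.F.map_zero']; group))
    · rcases e with e | e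
      · exact hwv (D.F.inj (by rw [ew, h', e]))
      · exact hwv' (D.F.inj (by rw [ew, h', D.F.map_neg', e]))
    · rcases e with e | e
      · exact hwv' (D.F.inj (by rw [ew, h', D.F.map_neg', ← e]; group))
      · exact hwv (D.F.inj (by rw [ew, h', show D.F.φ v = ((D.F.φ v)⁻¹)⁻¹ by group, ← e]; group))
  have hxz : Commute x (m * H.z * m⁻¹) := by
    rcases e with e | e <;> rw [e]
    · exact hxv
    · exact (show Commute x (D.F.φ v) from hxv).inv_right
  have hz : Commute x' H.z := by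
    have h := hxz.map (MulAut.conj m⁻¹).toMonoidHom
    simp only [MulEquiv.coe_toMonoidHom, MulAut.conj_apply, inv_inv] at h
    rwa [show m⁻¹ * (m * H.z * m⁻¹) * m = H.z by group] at h
  have hwc : Commute x' w' := by
    have h := (show Commute x (D.F.φ w) from hxw).map (MulAut.conj m⁻¹).toMonoidHom
    simp only [MulEquiv.coe_toMonoidHom, MulAut.conj_apply, inv_inv] at h
    exact h
  have := mul_mem (mul_mem hmN (H.cent_z_w hw'J hw'Z hz.eq hwc.eq)) (inv_mem hmN)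
  rwa [hx', show m * (m⁻¹ * x * m) * m⁻¹ = x by group] at this

theorem fix_both {h : G} (hJ : h ∈ H.NJ) (hZ : D.F.act hJ eZ = eZ) (hB : D.F.act hJ eB = eB) :
    (∀ v, D.F.act hJ v = v) ∨ (∀ v, D.F.act hJ v = tauV v) ∨
      (¬ H.Case1 ∧ ∃ s : ZMod 3, s ≠ 0 ∧ ∀ v, D.F.act hJ v = eMap 1 s v) := by
  have h10 : (1 : ZMod 3) ≠ 0 := by decide
  obtain ⟨p, q, r, s, -, -, -, hact⟩ := D.diag hJ h10 h10 (by rw [hZ]; rfl) (by rw [hB]; rfl)
  obtain ⟨j, hj, hjt⟩ := D.toGeo.exists_lift hJ fun v => by rw [hact, hact, dMap_tau]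
  set n := h * j with hn
  have hnJ : n ∈ H.NJ := mul_mem hJ (H.M0_le (H.hJM hj))
  have hnC : n ∈ H.C := H.mem_C.mpr hjt
  have hsame : ∀ v, D.F.act hnJ v = D.F.act hJ v := fun v => by
    rw [D.F.act_mul hJ (H.M0_le (H.hJM hj)), D.F.act_of_J _ hj]
  have hnz : n * H.z * n⁻¹ = H.z := by
    rw [← D.F.map_z, ← D.F.act_spec hnJ, hsame, hZ]
  have hnN : n ∈ H.N1 := H.mem_N1_of_conj hnC (Or.inl hnz)
  by_cases h1 : H.Case1
  · have hs := h1 n hnN hnz
    obtain ⟨x, hx, e⟩ := H.θ_alt hs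
    have hxN := H.K_le_N1 hx
    have hθ : H.θ ⟨n * x⁻¹, mul_mem hnN (inv_mem hxN)⟩ = 1 := by
      rw [show (⟨n * x⁻¹, _⟩ : H.N1) = ⟨n, hnN⟩ * ⟨x, hxN⟩⁻¹ from rfl, map_mul, map_inv, e, mul_inv_cancel]
    have hnK : n ∈ H.K := by
      have hxz : x⁻¹ * H.z * x⁻¹⁻¹ = H.z := H.Z_conj_L0 (inv_mem hx.2)
      rcases D.ker_cases _ hθ (by
        rw [show n * x⁻¹ * H.z * (n * x⁻¹)⁻¹ = n * (x⁻¹ * H.z * x⁻¹⁻¹) * n⁻¹ by group, hxz, hnz]) with h | h
      · have := mul_mem (H.Z_le_K h) hx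
        rwa [inv_mul_cancel_right] at this
      · have := mul_mem (mul_mem H.t_mem_K (H.Z_le_K h)) hx
        rwa [← mul_assoc H.t, H.t_sq, one_mul, inv_mul_cancel_right] at this
    have hb : n * D.b * n⁻¹ = D.b := by rw [b, ← D.F.act_spec hnJ, hsame, hB]
    rcases D.K_cent_act hnK hnJ hb with e | e
    · exact Or.inl fun v => by rw [← hsame, e]
    · exact Or.inr (Or.inl fun v => by rw [← hsame, e])
  · obtain ⟨ν, hN, hνJ, hsq, hνact, hs⟩ := D.exists_nu h1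
    let W : Twist D := ⟨ν, hN, hνJ, hsq, hνact, hs⟩
    obtain ⟨k, s0, hs0, e⟩ := W.fix_lines hnC hnJ (by rw [hsame, hZ]) (by rw [hsame, hB])
    rcases fixMap_cases k s0 with c | c | c
    · exact Or.inl fun v => by rw [← hsame, e, c]
    · exact Or.inr (Or.inl fun v => by rw [← hsame, e, c])
    · exact Or.inr (Or.inr ⟨h1, s0, hs0, fun v => by rw [← hsame, e, c]⟩)

/-- An isometry in the normalizer of `J` is induced by `M0` up to sign. -/
theorem isometry_cases {n : G} (hn : n ∈ H.NJ) (hq : ∀ v, qf (D.F.act hn v) = qf v) :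
    ∃ m, ∃ hm : m ∈ H.M0, (∀ v, D.F.act hn v = D.F.act (H.M0_le hm) v) ∨
      (¬ H.Case1 ∧ ∀ v, D.F.act hn v = -D.F.act (H.M0_le hm) v) := by
  obtain ⟨m1, hm1, e1⟩ := H.conj_z_NJ hn
  have hm1N := H.M0_le hm1
  have hk1 : m1⁻¹ * n ∈ H.NJ := mul_mem (inv_mem hm1N) hn
  have hq1 : ∀ v, qf (D.F.act hk1 v) = qf v := fun v => by
    rw [D.F.act_mul (inv_mem hm1N) hn]
    exact (D.toGeo.qf_M0 (inv_mem hm1) _).trans (hq v)
  have hz1 : D.F.act hk1 eZ = eZ ∨ D.F.act hk1 eZ = -eZ := by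
    rcases e1 with e | e
    · left; refine D.F.act_eq _ ?_
      rw [D.F.map_z, show m1⁻¹ * n * H.z * (m1⁻¹ * n)⁻¹ = m1⁻¹ * (n * H.z * n⁻¹) * m1 by group, e]; group
    · right; refine D.F.act_eq _ ?_
      rw [D.F.map_neg', D.F.map_z, show m1⁻¹ * n * H.z * (m1⁻¹ * n)⁻¹ = m1⁻¹ * (n * H.z * n⁻¹) * m1 by group,
        e]
      group
  have hinj := D.F.act_injective hk1
  have hne0 : D.F.act hk1 eB ≠ 0 := fun e => absurd (hinj (e.trans (map_zero _).symm)) (by decide)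
  obtain ⟨w, hw⟩ : ∃ w, D.F.act hk1 eB = tr 1 w eB ∨ D.F.act hk1 eB = -tr 1 w eB := by
    rcases other_line _ hne0 (by rw [hq1]; exact qf_facts.2.1) with e | e | e
    · exfalso
      rcases hz1 with e' | e'
      · exact absurd (hinj (e.trans e'.symm)) (by decide)
      · exact absurd (hinj (e.trans (neg_neg eZ).symm |>.trans (by rw [← e', map_neg]))) (by decide)
    · exfalso
      rcases hz1 with e' | e'
      · exact absurd (hinj (e.trans (by rw [← e', map_neg]))) (by decide)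
      · exact absurd (hinj (e.trans e'.symm)) (by decide)
    · exact e
  obtain ⟨p, hpS, hp, hpv⟩ := D.F.act_tr w
  have hpM : p ∈ H.M0 := H.S_le_M0 hpS
  have hk2 : p⁻¹ * (m1⁻¹ * n) ∈ H.NJ := mul_mem (inv_mem hp) hk1
  have hk2v : ∀ v, D.F.act hk2 v = D.F.act (inv_mem hp) (D.F.act hk1 v) := fun v =>
    D.F.act_mul (inv_mem hp) hk1 v
  have hpi : ∀ v, D.F.act (inv_mem hp) (tr 1 w v) = v := fun v => D.F.act_eq _ (by
    rw [← hpv, D.F.act_spec]; group)
  have hz2 : D.F.act hk2 eZ = eZ ∨ D.F.act hk2 eZ = -eZ := by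
    have h0 := hpi eZ
    rw [tr_eZ] at h0
    rcases hz1 with e | e
    · left; rw [hk2v, e, h0]
    · right; rw [hk2v, e, map_neg, h0]
  have hB2 : D.F.act hk2 eB = eB ∨ D.F.act hk2 eB = -eB := by
    rcases hw with e | e
    · left; rw [hk2v, e, hpi]
    · right; rw [hk2v, e, map_neg, hpi]
  have hq2 : ∀ v, qf (D.F.act hk2 v) = qf v := fun v => by
    rw [hk2v]
    exact (D.toGeo.qf_M0 (inv_mem hpM) _).trans (hq1 v)
  obtain ⟨a, ha, hza⟩ := pm_eZ _ hz2
  obtain ⟨b, hb, hBb⟩ := pm_eB _ hB2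
  have hab : qf (a, 0, 0, b) = 1 := by
    rw [show ((a, 0, 0, b) : V4) = D.F.act hk2 eZ + D.F.act hk2 eB by rw [hza, hBb]; simp, ← map_add, hq2]
    decide
  have hsum : n = m1 * p * (p⁻¹ * (m1⁻¹ * n)) := by group
  have hmp : m1 * p ∈ H.M0 := mul_mem hm1 hpM
  -- `k` fixes both lines
  obtain ⟨m, hm, k, hk, hnk, hkz, hkb⟩ : ∃ m, ∃ _ : m ∈ H.M0, ∃ k, ∃ hk : k ∈ H.NJ, n = m * k ∧
      D.F.act hk eZ = eZ ∧ D.F.act hk eB = eB := by
    rcases pm_prod a b ha hb hab with ⟨rfl, rfl⟩ | ⟨rfl, rfl⟩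
    · exact ⟨_, hmp, _, hk2, hsum, hza, hBb⟩
    · have hk3 : D.e * (p⁻¹ * (m1⁻¹ * n)) ∈ H.NJ := mul_mem (H.M0_le D.he) hk2
      refine ⟨m1 * p * D.e⁻¹, mul_mem hmp (inv_mem D.he), _, hk3, by group, ?_, ?_⟩
      · rw [D.F.act_mul (H.M0_le D.he) hk2, hza, D.e_act]; simp [eMap, eZ]; decide
      · rw [D.F.act_mul (H.M0_le D.he) hk2, hBb, D.e_act]; simp [eMap, eB]; decide
  have hsplit : ∀ v, D.F.act hn v = D.F.act (H.M0_le hm) (D.F.act hk v) := fun v => by
    rw [← D.F.act_mul (H.M0_le hm) hk]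
    exact Geo.act_congr D.toGeo hnk _ _ v
  rcases D.fix_both hk hkz hkb with c | c | ⟨h1, s, hs, c⟩
  · exact ⟨m, hm, Or.inl fun v => by rw [hsplit, c]⟩
  · refine ⟨m * H.t, mul_mem hm D.t_M0, Or.inl fun v => ?_⟩
    rw [hsplit, c, ← D.toGeo.act_t, ← D.F.act_mul (H.M0_le hm) H.t_NJ]
  · have hs' : -s ≠ 0 := neg_ne_zero.mpr hs
    by_cases hse : -s = D.es
    · refine ⟨m * D.e, mul_mem hm D.he, Or.inr ⟨h1, fun v => ?_⟩⟩
      rw [hsplit, c, eMap_one_neg, ← (eMap_two_tau (-s) D.es hs' D.es0 v).1 hse, ← D.e_act, map_neg,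
        ← D.F.act_mul (H.M0_le hm) (H.M0_le D.he)]
    · refine ⟨m * (H.t * D.e), mul_mem hm (mul_mem D.t_M0 D.he), Or.inr ⟨h1, fun v => ?_⟩⟩
      rw [hsplit, c, eMap_one_neg, ← (eMap_two_tau (-s) D.es hs' D.es0 v).2 hse, ← D.e_act, ← D.toGeo.act_t,
        map_neg, ← D.F.act_mul H.t_NJ (H.M0_le D.he),
        ← D.F.act_mul (H.M0_le hm) (mul_mem H.t_NJ (H.M0_le D.he))]

end Data

end CfsgLib.McLThree
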