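import Cfsg.Agent.Lib.McLThree.Five

/-!
# The kernel of the action on five points
-/

set_option autoImplicit false
set_option linter.unusedSectionVars false
set_option maxRecDepth 20000
set_option synthInstance.maxSize 4000
set_option synthInstance.maxHeartbeats 400000

namespace CfsgLib.McLThree

open Equiv

/-- A map fixing two lines. -/
def dMap (a b p q r s : ZMod 3) (v : V4) : V4 :=
  (a * v.1, p * v.2.1 + r * v.2.2.1, q * v.2.1 + s * v.2.2.1, b * v.2.2.2)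

theorem fixed_singular : ∀ v : V4, v ≠ 0 → qf v = 0 → tauV v = v → v = eZ ∨ v = -eZ ∨ v = eB ∨ v = -eB := by
  decide +kernel

theorem no_inner : ∀ p q r s : ZMod 3, p * p + q * q = 2 → r * r + s * s = 2 →
    (p + r) * (p + r) + (q + s) * (q + s) = 1 → ∀ p' q' r' s' : ZMod 3, p' * p' + q' * q' = 2 →
    r' * r' + s' * s' = 2 → (p' + r') * (p' + r') + (q' + s') * (q' + s') = 1 →
    dMap 2 1 p q r s (dMap 1 2 p' q' r' s' eA) = dMap 1 2 p' q' r' s' (dMap 2 1 p q r s eA) →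
    dMap 2 1 p q r s (dMap 1 2 p' q' r' s' eC) = dMap 1 2 p' q' r' s' (dMap 2 1 p q r s eC) →
    (dMap 1 2 p' q' r' s' (dMap 1 2 p' q' r' s' eA) = eA ∨
      dMap 1 2 p' q' r' s' (dMap 1 2 p' q' r' s' eA) = tauV eA) →
    ∀ e : ZMod 3, e ≠ 0 →
      dMap 2 1 p q r s (dMap 1 2 p' q' r' s' eA) ≠ eMap 2 e eA ∧
      dMap 2 1 p q r s (tauV (dMap 1 2 p' q' r' s' eA)) ≠ eMap 2 e eA := by decide +kernel

theorem orth_cases : ∀ p q r s : ZMod 3, p * p + q * q = 1 → r * r + s * s = 1 →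
    (p + r) * (p + r) + (q + s) * (q + s) = 2 →
    (∀ v, dMap 1 1 p q r s v = v) ∨ (∀ v, dMap 1 1 p q r s v = tauV v) ∨
    (∃ u1 u2 : ZMod 3, (u1, u2) ≠ (0, 0) ∧ dMap 1 1 p q r s (0, u1, u2, 0) = (0, u1, u2, 0)) ∨
    (∀ v, dMap 1 1 p q r s (dMap 1 1 p q r s v) = tauV v) := by decide +kernel

theorem eMap_lines : ∀ s, eMap 2 s eB = -eB ∧ eMap 2 s eZ = -eZ := by decide +kernel

theorem tau_fixed : ∀ v : V4, tauV v = v → v = v.1.val • eZ + v.2.2.2.val • eB := by decide +kernel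

theorem middle_id : ∀ p q r s : ZMod 3, (dMap 1 1 p q r s eA).2 = eA.2 → (dMap 1 1 p q r s eC).2 = eC.2 →
    ∀ v, dMap 1 1 p q r s v = v := by decide +kernel

theorem eZ_shift : ∀ c : ZMod 3, ∀ x : V4, (c.val • eZ + x).2 = x.2 := by decide +kernel

namespace Data

variable {G : Type*} [Group G] [Finite G] {H : Hyp G} (D : Data H)

/-- The element `b`. -/
def b : G := D.F.φ eB

theorem b_J : D.b ∈ H.J := D.F.mem _

theorem b_C : D.b ∈ H.C := H.mem_C.mpr (D.F.t_act eB)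

theorem b_K : D.b ∈ H.K := ⟨D.b_C, H.S_le_L0 (H.hJS D.b_J)⟩

theorem b_not_Q : D.b ∉ H.Q := fun h => absurd ((D.F.mem_Q eB).mp h) (by decide)

theorem NJ_of_b {n : G} (hn : n ∈ H.NZ) (hb : n * D.b * n⁻¹ ∈ (H.S : Subgroup G)) : n ∈ H.NJ := by
  refine H.weakly_closed fun j hj => ?_
  obtain ⟨v, rfl⟩ := D.F.surj j hj
  have e : v = flat v + v.2.2.2.val • eB := by
    conv_lhs => rw [show v = (v.1, v.2.1, v.2.2.1, v.2.2.2) from rfl]
    simp [flat, smul_eval, eB]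
  rw [e, D.F.map_add, D.F.map_nsmul']
  show n * (D.F.φ (flat v) * D.b ^ v.2.2.2.val) * n⁻¹ ∈ _
  rw [show n * (D.F.φ (flat v) * D.b ^ v.2.2.2.val) * n⁻¹ =
      (n * D.F.φ (flat v) * n⁻¹) * (n * D.b ^ v.2.2.2.val * n⁻¹) by group, ← conj_pow]
  exact mul_mem (H.Q_le_S (H.Q_conj hn ((D.F.mem_Q (flat v)).mpr rfl))) (pow_mem hb _)

theorem lines_C {x : G} (hx : x ∈ H.NJ) (hxC : x ∈ H.C) {v : V4} (hv : v = eZ ∨ v = eB) :
    D.F.act hx v = eZ ∨ D.F.act hx v = -eZ ∨ D.F.act hx v = eB ∨ D.F.act hx v = -eB := by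
  have hne : v ≠ 0 := by rcases hv with rfl | rfl <;> decide
  refine fixed_singular _ (fun e => hne (D.F.act_injective hx (e.trans (map_zero _).symm)))
    ((D.toGeo.zero_act hx v).mp (by rcases hv with rfl | rfl <;> decide)) ?_
  have ht : tauV v = v := by rcases hv with rfl | rfl <;> decide
  refine D.F.inj ?_
  rw [← D.F.t_act, D.F.act_spec]
  have hxt := Subgroup.mem_centralizer_singleton_iff.mp hxC
  calc H.t * (x * D.F.φ v * x⁻¹) * H.t = x * (H.t * D.F.φ v * H.t) * x⁻¹ := by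
        have h2 : x⁻¹ * H.t = H.t * x⁻¹ := (Commute.inv_left (show Commute x H.t from hxt)).eq
        calc _ = (H.t * x) * D.F.φ v * (x⁻¹ * H.t) := by group
          _ = (x * H.t) * D.F.φ v * (H.t * x⁻¹) := by rw [hxt, h2]
          _ = _ := by group
    _ = _ := by rw [D.F.t_act, ht]

theorem diag {n : G} (hn : n ∈ H.NJ) {a b : ZMod 3} (ha : a ≠ 0) (hb : b ≠ 0)
    (hz : D.F.act hn eZ = (a, 0, 0, 0)) (hB : D.F.act hn eB = (0, 0, 0, b)) :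
    ∃ p q r s : ZMod 3, p * p + q * q = a * b ∧ r * r + s * s = a * b ∧
      (p + r) * (p + r) + (q + s) * (q + s) = a * b * 2 ∧ ∀ v, D.F.act hn v = dMap a b p q r s v := by
  obtain ⟨p, q, r, s, hA, hC, e1, e2, e3, -⟩ := sim_lines (L := D.F.act hn) (D.toGeo.zero_act hn) ha hb hz hB
  refine ⟨p, q, r, s, e1, e2, e3, fun v => ?_⟩
  conv_lhs => rw [vec_decomp v]
  rw [map_add, map_add, map_add, map_nsmul, map_nsmul, map_nsmul, map_nsmul, hz, hB, hA, hC]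
  simp [smul_eval, dMap, mul_comm]

theorem z_dir {n : G} (hn : n ∈ H.NJ) :
    (n * H.z * n⁻¹ = H.z → D.F.act hn eZ = eZ) ∧ (n * H.z * n⁻¹ = H.z⁻¹ → D.F.act hn eZ = -eZ) :=
  ⟨fun e => D.F.act_eq _ (by rw [D.F.map_z, e]), fun e => D.F.act_eq _ (by rw [D.F.map_neg', D.F.map_z, e])⟩

/-- The image of `b` when it is shifted by an element of `Z`. -/
theorem b_dir {n : G} (hn : n ∈ H.NJ) (hC : n ∈ H.C) :
    (n * D.b * n⁻¹ * D.b⁻¹ ∈ H.Z → D.F.act hn eB = eB) ∧ (n * D.b * n⁻¹ * D.b ∈ H.Z → D.F.act hn eB = -eB) := by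
  have key : ∀ x, D.F.φ (D.F.act hn eB + -x) ∈ H.Z → (x = eB ∨ x = -eB) → D.F.act hn eB = x := by
    intro x hx hcase
    obtain ⟨v, hv⟩ : ∃ c : ZMod 3, D.F.act hn eB + -x = c.val • eZ := by
      rcases H.mem_Z_cases hx with e | e | e
      · exact ⟨0, D.F.inj (by rw [e, D.F.map_nsmul', ZMod.val_zero, pow_zero])⟩
      · exact ⟨1, D.F.inj (by rw [e, D.F.map_nsmul', D.F.map_z]; exact (pow_one _).symm)⟩
      · refine ⟨2, D.F.inj ?_⟩
        rw [e, D.F.map_nsmul', D.F.map_z]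
        refine inv_eq_of_mul_eq_one_right ?_
        show H.z * H.z ^ 2 = 1
        rw [← pow_succ', H.z_spec.2.1]
    have e : D.F.act hn eB = v.val • eZ + x := by rw [← hv, neg_add_cancel_right]
    have h2 : (D.F.act hn eB).2 = x.2 := by rw [e, eZ_shift]
    rcases D.lines_C hn hC (Or.inr rfl) with h | h | h | h <;> rw [h] at h2 ⊢ <;>
      rcases hcase with rfl | rfl <;> first | rfl | exact absurd h2 (by decide)
  constructor
  · intro h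
    refine key eB ?_ (Or.inl rfl)
    rw [D.F.map_add, D.F.map_neg', D.F.act_spec]; exact h
  · intro h
    refine key (-eB) ?_ (Or.inr rfl)
    rw [neg_neg, D.F.map_add, D.F.act_spec]; exact h

theorem piL_b_spec : H.piL ⟨D.b, D.b_K.2⟩ ^ 3 = 1 ∧ H.piL ⟨D.b, D.b_K.2⟩ ≠ 1 :=
  ⟨by rw [← map_pow, show (⟨D.b, D.b_K.2⟩ : H.L0) ^ 3 = 1 from Subtype.ext (H.hJexp _ D.b_J), map_one],
    fun e => D.b_not_Q ((H.piL_ker _).mp e)⟩

/-- The centralizer of `b` in `K`. -/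
theorem K_cent_b {y : G} (hy : y ∈ H.K) (hc : y * D.b * y⁻¹ = D.b) :
    ∃ i : ℕ, y * (D.b ^ i)⁻¹ ∈ H.Z ∨ H.t * (y * (D.b ^ i)⁻¹) ∈ H.Z := by
  obtain ⟨h3, h1⟩ := D.piL_b_spec
  have hcomm : H.piL ⟨y, hy.2⟩ * H.piL ⟨D.b, D.b_K.2⟩ = H.piL ⟨D.b, D.b_K.2⟩ * H.piL ⟨y, hy.2⟩ := by
    rw [← map_mul, ← map_mul]
    exact congrArg H.piL (Subtype.ext (mul_inv_eq_iff_eq_mul.mp hc))
  have key : ∀ i : ℕ, (H.piL ⟨y, hy.2⟩ * (H.piL ⟨D.b, D.b_K.2⟩ ^ i)⁻¹ = 1 ∨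
      H.piL ⟨y, hy.2⟩ * (H.piL ⟨D.b, D.b_K.2⟩ ^ i)⁻¹ = -1) →
      y * (D.b ^ i)⁻¹ ∈ H.Z ∨ H.t * (y * (D.b ^ i)⁻¹) ∈ H.Z := by
    intro i h
    refine H.K_pm (mul_mem hy (inv_mem (pow_mem D.b_K i))) ?_
    rw [← map_pow, ← map_inv, ← map_mul] at h
    exact h
  have hinv : (H.piL ⟨D.b, D.b_K.2⟩)⁻¹ = H.piL ⟨D.b, D.b_K.2⟩ ^ 2 :=
    inv_eq_of_mul_eq_one_right (by rw [← pow_succ', h3])
  have hn : ∀ a : SL25, -a * a⁻¹ = -1 := fun a => by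
    rw [show -a = -1 * a by simp, mul_assoc, mul_inv_cancel, mul_one]
  rcases cent_three _ h3 h1 _ hcomm with e | e | e | e | e | e
  · exact ⟨0, key 0 (Or.inl (by rw [e, pow_zero, inv_one, mul_one]))⟩
  · exact ⟨1, key 1 (Or.inl (by rw [e, pow_one, mul_inv_cancel]))⟩
  · exact ⟨2, key 2 (Or.inl (by rw [e, hinv, mul_inv_cancel]))⟩
  · exact ⟨0, key 0 (Or.inr (by rw [e, pow_zero, inv_one, mul_one]))⟩
  · exact ⟨1, key 1 (Or.inr (by rw [e, pow_one, hn]))⟩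
  · exact ⟨2, key 2 (Or.inr (by rw [e, hinv, hn]))⟩

theorem K_cent_act {y : G} (hyK : y ∈ H.K) (hyJ : y ∈ H.NJ) (hc : y * D.b * y⁻¹ = D.b) :
    (∀ v, D.F.act hyJ v = v) ∨ ∀ v, D.F.act hyJ v = tauV v := by
  obtain ⟨i, hi⟩ := D.K_cent_b hyK hc
  rcases hi with h | h
  · left; intro v
    refine D.F.act_of_J hyJ ?_ v
    have := mul_mem (H.Z_le_J h) (pow_mem D.b_J i)
    rwa [inv_mul_cancel_right] at this
  · right; intro v
    have hJ : H.t * y ∈ H.J := by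
      have := mul_mem (H.Z_le_J h) (pow_mem D.b_J i)
      rwa [← mul_assoc, inv_mul_cancel_right] at this
    rw [← D.toGeo.act_t v, Geo.act_congr D.toGeo (show y = H.t * (H.t * y) by
        rw [← mul_assoc, H.t_sq, one_mul]) _ (mul_mem H.t_NJ (H.M0_le (H.hJM hJ))),
      D.F.act_mul H.t_NJ (H.M0_le (H.hJM hJ)), D.F.act_of_J _ hJ]

theorem e_N1 : D.e ∈ H.N1 ∧ D.e * H.z * D.e⁻¹ = H.z⁻¹ ∧ D.e * D.b * D.e⁻¹ = D.b⁻¹ := by
  have hzv : D.e * H.z * D.e⁻¹ = H.z⁻¹ := by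
    rw [← D.F.map_z, ← D.F.act_spec (H.M0_le D.he), D.e_act, ← D.F.map_neg']
    congr 1
    simp [eMap, eZ]; decide
  refine ⟨⟨H.mem_C.mpr D.e_t, ?_⟩, hzv, ?_⟩
  · show D.e ∈ Subgroup.normalizer (H.Z : Set G)
    rw [← H.z_spec.2.2.2, Subgroup.mem_normalizer_iff_map_conj_eq, MonoidHom.map_zpowers]
    show Subgroup.zpowers (D.e * H.z * D.e⁻¹) = _
    rw [hzv, Subgroup.zpowers_inv]
  · show D.e * D.F.φ eB * D.e⁻¹ = (D.F.φ eB)⁻¹
    rw [← D.F.act_spec (H.M0_le D.he), D.e_act, ← D.F.map_neg']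
    congr 1
    simp [eMap, eB]; decide

theorem ker_b {n : G} (hn : n ∈ H.N1) (hθ : H.θ ⟨n, hn⟩ = 1) :
    ∃ hJ : n ∈ H.NJ, D.F.act hJ eB = eB := by
  have hc := H.ker_comm hn hθ D.b_K
  have hJ : n ∈ H.NJ := D.NJ_of_b hn.2 (by
    have := mul_mem (H.Z_le_S hc) (H.hJS D.b_J)
    rwa [inv_mul_cancel_right] at this)
  exact ⟨hJ, (D.b_dir hJ hn.1).1 hc⟩

/-- The element `e` induces an odd permutation. -/
theorem sign_e : Perm.sign (H.θ ⟨D.e, D.e_N1.1⟩) = -1 := by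
  by_contra hne
  have hsgn : Perm.sign (H.θ ⟨D.e, D.e_N1.1⟩) = 1 := (Int.units_eq_one_or _).resolve_right hne
  obtain ⟨heN1, hez, heb⟩ := D.e_N1
  have heJ : D.e ∈ H.NJ := H.M0_le D.he
  obtain ⟨x, hx, hxθ⟩ := H.θ_alt hsgn
  have hxN := H.K_le_N1 hx
  set n := D.e * x⁻¹ with hn
  have hnN : n ∈ H.N1 := mul_mem heN1 (inv_mem hxN)
  have hnθ : H.θ ⟨n, hnN⟩ = 1 := by
    rw [show (⟨n, hnN⟩ : H.N1) = ⟨D.e, heN1⟩ * ⟨x, hxN⟩⁻¹ from rfl, map_mul, map_inv, hxθ, mul_inv_cancel]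
  obtain ⟨hnJ, hnB⟩ := D.ker_b hnN hnθ
  have hxz : x * H.z * x⁻¹ = H.z := H.Z_conj_L0 hx.2
  have hxiz : x⁻¹ * H.z * x = H.z := by
    calc x⁻¹ * H.z * x = x⁻¹ * (x * H.z * x⁻¹) * x := by rw [hxz]
      _ = H.z := by group
  have hnz : n * H.z * n⁻¹ = H.z⁻¹ := by
    rw [hn, show D.e * x⁻¹ * H.z * (D.e * x⁻¹)⁻¹ = D.e * (x⁻¹ * H.z * x) * D.e⁻¹ by group, hxiz, hez]
  have hnZ := (D.z_dir hnJ).2 hnz
  have h22 : (2 : ZMod 3) ≠ 0 := by decide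
  have h11 : (1 : ZMod 3) ≠ 0 := by decide
  obtain ⟨p, q, r, s, e1, e2, e3, hnact⟩ := D.diag hnJ (a := 2) (b := 1) h22 h11 (by rw [hnZ]; rfl) (by rw [hnB]; rfl)
  -- an element of `K` inverting `b`
  obtain ⟨-, ⟨k0, hk0⟩, -⟩ := three_gen _ D.piL_b_spec.1 D.piL_b_spec.2
  obtain ⟨k, hk, hk0'⟩ := H.exists_K_lift k0
  have hkb : k * D.b * k⁻¹ * D.b ∈ H.Z := by
    refine H.Q_cent_t ((H.piL_ker (⟨k, hk.2⟩ * ⟨D.b, D.b_K.2⟩ * ⟨k, hk.2⟩⁻¹ * ⟨D.b, D.b_K.2⟩)).mp ?_)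
      (mul_mem (mul_mem (mul_mem hk D.b_K) (inv_mem hk)) D.b_K).1
    rw [map_mul, map_mul, map_mul, map_inv, hk0', hk0, inv_mul_cancel]
  have hkJ : k ∈ H.NJ := D.NJ_of_b (H.L0_le hk.2) (by
    have := mul_mem (H.Z_le_S hkb) (inv_mem (H.hJS D.b_J))
    rwa [mul_inv_cancel_right] at this)
  have hkB := (D.b_dir hkJ hk.1).2 hkb
  have hkZ := (D.z_dir hkJ).1 (H.Z_conj_L0 hk.2)
  obtain ⟨p', q', r', s', f1, f2, f3, hkact⟩ :=
    D.diag hkJ (a := 1) (b := 2) h11 h22 (by rw [hkZ]; rfl) (by rw [hkB]; rfl)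
  have hc := H.ker_comm hnN hnθ hk
  have hcomm : ∀ v, D.F.act hnJ (D.F.act hkJ v) = D.F.act hkJ (D.F.act hnJ v) := fun v => by
    rw [← D.F.act_mul hnJ hkJ, Geo.act_congr D.toGeo (show n * k = (n * k * n⁻¹ * k⁻¹) * (k * n) by group) _
      (mul_mem (mul_mem (mul_mem (mul_mem hnJ hkJ) (inv_mem hnJ)) (inv_mem hkJ)) (mul_mem hkJ hnJ)),
      D.F.act_mul (mul_mem (mul_mem (mul_mem hnJ hkJ) (inv_mem hnJ)) (inv_mem hkJ)) (mul_mem hkJ hnJ),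
      D.F.act_of_J _ (H.Z_le_J hc), D.F.act_mul hkJ hnJ]
  have hxJ : x ∈ H.NJ := by
    have := mul_mem (inv_mem hnJ) heJ
    rwa [hn, show (D.e * x⁻¹)⁻¹ * D.e = x by group] at this
  have hex : ∀ v, D.F.act heJ v = D.F.act hnJ (D.F.act hxJ v) := fun v => by
    rw [← D.F.act_mul hnJ hxJ]; exact Geo.act_congr D.toGeo (by rw [hn]; group) _ _ _
  have hxB : D.F.act hxJ eB = -eB := by
    refine D.F.act_injective hnJ ?_
    rw [← hex, map_neg, hnB, D.e_act, (eMap_lines D.es).1]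
  -- `x * k⁻¹` centralizes `b`
  set y := x * k⁻¹ with hy
  have hyK : y ∈ H.K := mul_mem hx (inv_mem hk)
  have hyJ : y ∈ H.NJ := mul_mem hxJ (inv_mem hkJ)
  have hxy : ∀ v, D.F.act hxJ v = D.F.act hyJ (D.F.act hkJ v) := fun v => by
    rw [← D.F.act_mul hyJ hkJ]; exact Geo.act_congr D.toGeo (by rw [hy]; group) _ _ _
  have hyB : D.F.act hyJ eB = eB := by
    have := hxy eB
    rw [hxB, hkB, map_neg] at this
    exact (neg_injective this).symm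
  have hyact := D.K_cent_act hyK hyJ (by rw [b, ← D.F.act_spec hyJ, hyB])
  have hfin := no_inner p q r s e1 e2 e3 p' q' r' s' f1 f2 f3
    (by rw [← hnact, ← hkact, ← hkact, ← hnact]; exact hcomm eA)
    (by rw [← hnact, ← hkact, ← hkact, ← hnact]; exact hcomm eC)
    (by
      have hk2 := D.K_cent_act (mul_mem hk hk) (mul_mem hkJ hkJ) (by
        rw [b, ← D.F.act_spec (mul_mem hkJ hkJ), D.F.act_mul hkJ hkJ, hkB, map_neg, hkB, neg_neg])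
      rw [← hkact, ← hkact, ← D.F.act_mul hkJ hkJ]
      rcases hk2 with h | h <;> [left; right] <;> exact h eA) D.es D.es0
  have heq := hex eA
  rw [D.e_act, hxy, hkact, hnact] at heq
  rcases hyact with h | h <;> rw [h] at heq
  · exact hfin.1 heq.symm
  · exact hfin.2 heq.symm

theorem five_ker {n : G} (hn : n ∈ H.N1) (hθ : H.θ ⟨n, hn⟩ = 1) : n * H.five = H.five * n := by
  have hfK : H.five ∈ H.K := ⟨H.mem_C.mpr H.five_t, H.five_spec.1⟩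
  have hc := H.ker_comm hn hθ hfK
  set c := n * H.five * n⁻¹ * H.five⁻¹ with hcd
  have e : n * H.five * n⁻¹ = c * H.five := by rw [hcd]; group
  have hcf : Commute c H.five := (H.L0_comm H.five_spec.1 hc).symm
  have h := congrArg (· ^ 5) e
  simp only [conj_pow, hcf.mul_pow, H.five_spec.2.1, mul_one, mul_inv_cancel] at h
  have h1 : c = 1 := by
    calc c = (c ^ 3) ^ 2 * (c ^ 5)⁻¹ := by group
      _ = 1 := by rw [H.hQexp c (H.Z_le_Q hc), ← h]; group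
  rw [h1, one_mul] at e
  exact mul_inv_eq_iff_eq_mul.mp e

end Data

end CfsgLib.McLThree
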