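import Cfsg.Agent.Lib.McLThree.Basic

/-!
# The central involution, the element of order five, and the uniqueness of `J`
-/

set_option autoImplicit false
set_option linter.unusedSectionVars false

namespace CfsgLib.McLThree.Hyp

variable {G : Type*} [Group G] [Finite G] (H : Hyp G)

theorem Z_conj_L0 {x : G} (hx : x ∈ H.L0) : x * H.z * x⁻¹ = H.z := by
  rw [H.hL0] at hx
  induction hx using Subgroup.closure_induction with
  | mem x hx =>
    obtain ⟨hxN, k, hk⟩ := hx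
    obtain ⟨hzZ, -, hz1, -⟩ := H.z_spec
    rcases H.mem_Z_cases ((Subgroup.mem_normalizer_iff.mp hxN _).mp hzZ) with e | e | e
    · exact absurd (conj_eq_one_iff.mp e) hz1
    · exact e
    · have h2 : Commute (x * x) H.z := by
        refine mul_inv_eq_iff_eq_mul.mp ?_
        calc x * x * H.z * (x * x)⁻¹ = x * (x * H.z * x⁻¹) * x⁻¹ := by group
          _ = x * H.z⁻¹ * x⁻¹ := by rw [e]
          _ = (x * H.z * x⁻¹)⁻¹ := by group
          _ = H.z := by rw [e, inv_inv]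
      have hodd : Odd (orderOf x) := by rw [hk]; exact Odd.pow (by decide)
      obtain ⟨m, hm⟩ := hodd
      have hx2 : x = (x * x) ^ (m + 1) := by
        rw [← pow_two, ← pow_mul, show 2 * (m + 1) = orderOf x + 1 by omega, pow_succ, pow_orderOf_eq_one, one_mul]
      exact mul_inv_eq_iff_eq_mul.mpr (show Commute x H.z by rw [hx2]; exact h2.pow_left _).eq
  | one => group
  | mul x y _ _ hx hy =>
    rw [show x * y * H.z * (x * y)⁻¹ = x * (y * H.z * y⁻¹) * x⁻¹ by group, hy, hx]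
  | inv x _ hx =>
    calc x⁻¹ * H.z * x⁻¹⁻¹ = x⁻¹ * (x * H.z * x⁻¹) * x := by rw [hx]; group
      _ = H.z := by group

theorem L0_comm {x m : G} (hx : x ∈ H.L0) (hm : m ∈ H.Z) : x * m = m * x := by
  have h : Commute x H.z := mul_inv_eq_iff_eq_mul.mp (H.Z_conj_L0 hx)
  rcases H.mem_Z_cases hm with e | e | e <;> rw [e]
  · simp
  · exact h.eq
  · exact h.inv_right.eq

theorem exists_t : ∃ t : G, ∃ h : t ∈ H.L0, t * t = 1 ∧ H.piL ⟨t, h⟩ = -1 := by
  obtain ⟨⟨x, hx⟩, he⟩ := H.piL_surj (-1)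
  have hxx : x * x ∈ H.Q := by
    refine (H.piL_ker (⟨x, hx⟩ * ⟨x, hx⟩)).mp ?_
    rw [map_mul, he]; exact neg_one_spec.2
  refine ⟨x ^ 3, pow_mem hx 3, ?_, ?_⟩
  · rw [← pow_add, show 3 + 3 = 2 * 3 from rfl, pow_mul, pow_two]; exact H.hQexp _ hxx
  · rw [show (⟨x ^ 3, pow_mem hx 3⟩ : H.L0) = (⟨x, hx⟩ : H.L0) ^ 3 from rfl, map_pow, he, pow_succ, pow_two,
      neg_one_spec.2, one_mul]

/-- The central involution. -/
noncomputable def t : G := H.exists_t.choose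

theorem t_mem : H.t ∈ H.L0 := H.exists_t.choose_spec.choose
theorem t_sq : H.t * H.t = 1 := H.exists_t.choose_spec.choose_spec.1
theorem piL_t : H.piL ⟨H.t, H.t_mem⟩ = -1 := H.exists_t.choose_spec.choose_spec.2
theorem t_inv : H.t⁻¹ = H.t := inv_eq_of_mul_eq_one_left H.t_sq

theorem t_not_Q : H.t ∉ H.Q := fun h => by
  have := (H.piL_ker ⟨H.t, H.t_mem⟩).mpr h
  rw [H.piL_t] at this
  exact neg_one_spec.1 this

theorem t_comm {x : G} (hx : x ∈ H.L0) : H.t * x * H.t * x⁻¹ ∈ H.Q := by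
  refine (H.piL_ker (⟨H.t, H.t_mem⟩ * ⟨x, hx⟩ * ⟨H.t, H.t_mem⟩ * ⟨x, hx⟩⁻¹)).mp ?_
  rw [map_mul, map_mul, map_mul, map_inv, H.piL_t, mul_assoc (-1 : SL25) _ (-1 : SL25), ← neg_one_central,
    ← mul_assoc (-1 : SL25), neg_one_spec.2, one_mul, mul_inv_cancel]

theorem t_comm_Z {m : G} (hm : m ∈ H.Z) : H.t * m = m * H.t := H.L0_comm H.t_mem hm

theorem t_Z {m : G} (hm : m ∈ H.Z) : H.t * m * H.t = m := by
  rw [H.t_comm_Z hm, mul_assoc, H.t_sq, mul_one]

theorem exists_fixed_lift {x : G} (hx : x ∈ H.L0) : ∃ c ∈ H.Q, H.t * (c * x) * H.t = c * x := by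
  set c := H.t * x * H.t * x⁻¹ with hc
  have hcQ := H.t_comm hx
  rw [← hc] at hcQ
  have h1 : H.t * x * H.t = c * x := by rw [hc]; group
  have h2 : H.t * c * H.t * c = 1 := by
    have e : x = H.t * c * H.t * c * x := by
      calc x = (H.t * H.t) * x * (H.t * H.t) := by rw [H.t_sq]; group
        _ = H.t * (H.t * x * H.t) * H.t := by group
        _ = H.t * c * 1 * x * H.t := by rw [h1]; group
        _ = (H.t * c * H.t) * (H.t * x * H.t) := by rw [← H.t_sq]; group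
        _ = _ := by rw [h1]; group
    exact mul_eq_right.mp e.symm
  refine ⟨c * c, mul_mem hcQ hcQ, ?_⟩
  have hi : H.t * c * H.t = c⁻¹ := eq_inv_of_mul_eq_one_left h2
  have h3 : c⁻¹ = c * c := inv_eq_of_mul_eq_one_right (by
    have := H.hQexp c hcQ; rwa [pow_succ', pow_two] at this)
  calc H.t * (c * c * x) * H.t = (H.t * c * H.t) * (H.t * c * H.t) * (H.t * x * H.t) := by
        calc _ = H.t * c * 1 * c * 1 * x * H.t := by group
          _ = _ := by rw [← H.t_sq]; group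
    _ = c⁻¹ * x := by rw [hi, h1]; group
    _ = c * c * x := by rw [h3]

theorem exists_five : ∃ g : G, g ∈ H.L0 ∧ g ^ 5 = 1 ∧ g ∉ H.Q ∧ H.t * g * H.t = g := by
  obtain ⟨⟨x₀, hx₀⟩, he₀⟩ := H.piL_surj slFive
  obtain ⟨c, hc, ht⟩ := H.exists_fixed_lift hx₀
  obtain ⟨x, hx, he, hxt⟩ : ∃ x, ∃ hx : x ∈ H.L0, H.piL ⟨x, hx⟩ = slFive ∧ H.t * x * H.t = x :=
    ⟨c * x₀, mul_mem (H.hQL hc) hx₀, by
      rw [show (⟨c * x₀, mul_mem (H.hQL hc) hx₀⟩ : H.L0) = ⟨c, H.hQL hc⟩ * ⟨x₀, hx₀⟩ from rfl, map_mul, he₀,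
        (H.piL_ker ⟨c, H.hQL hc⟩).mpr hc, one_mul], ht⟩
  have h5 : x ^ 5 ∈ H.Q := (H.piL_ker (⟨x, hx⟩ ^ 5)).mp (by rw [map_pow, he]; exact slFive_spec.1)
  refine ⟨x ^ 3, pow_mem hx 3, by rw [← pow_mul, mul_comm, pow_mul]; exact H.hQexp _ h5, fun h => ?_, ?_⟩
  · have h1 : H.piL (⟨x, hx⟩ ^ 3) = 1 := (H.piL_ker _).mpr h
    rw [map_pow, he] at h1
    have : slFive = 1 := by
      calc slFive = (slFive ^ 3) ^ 2 * (slFive ^ 5)⁻¹ := by group
        _ = 1 := by rw [h1, slFive_spec.1, one_pow, inv_one, one_mul]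
    exact slFive_spec.2 this
  · have hc' : Commute H.t x := by
      calc H.t * x = (H.t * x * H.t) * H.t := by rw [mul_assoc, H.t_sq, mul_one]
        _ = x * H.t := by rw [hxt]
    rw [(hc'.pow_right 3).eq, mul_assoc, H.t_sq, mul_one]

/-- An element of order five. -/
noncomputable def five : G := H.exists_five.choose

theorem five_spec : H.five ∈ H.L0 ∧ H.five ^ 5 = 1 ∧ H.five ∉ H.Q :=
  ⟨H.exists_five.choose_spec.1, H.exists_five.choose_spec.2.1, H.exists_five.choose_spec.2.2.1⟩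

theorem five_t : H.t * H.five * H.t = H.five := H.exists_five.choose_spec.2.2.2

/-- The fixed points in a subgroup of an element of order dividing five. -/
theorem fixed_modEq {W : Subgroup G} {g : G} (hg : g ^ 5 = 1) (hn : ∀ w ∈ W, g * w * g⁻¹ ∈ W) :
    Nat.card W ≡ Nat.card (W ⊓ Subgroup.centralizer {g} : Subgroup G) [MOD 5] := by
  classical
  haveI : Fact (Nat.Prime 5) := ⟨by norm_num⟩
  haveI := Fintype.ofFinite W
  have hninv : ∀ w ∈ W, g⁻¹ * w * g ∈ W := fun w hw => by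
    have h4 : g⁻¹ = g ^ 4 := inv_eq_of_mul_eq_one_left (by rw [← pow_succ, hg])
    have key : ∀ n : ℕ, ∀ w ∈ W, g ^ n * w * (g ^ n)⁻¹ ∈ W := by
      intro n
      induction n with
      | zero => simp
      | succ n ih =>
        intro w hw
        rw [pow_succ, show g ^ n * g * w * (g ^ n * g)⁻¹ = g ^ n * (g * w * g⁻¹) * (g ^ n)⁻¹ by group]
        exact ih _ (hn w hw)
    have := key 4 w hw
    rwa [← h4, inv_inv] at this
  let σ : Equiv.Perm W :=
    { toFun := fun w => ⟨g * w * g⁻¹, hn w w.2⟩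
      invFun := fun w => ⟨g⁻¹ * w * g, hninv w w.2⟩
      left_inv := fun w => Subtype.ext (by simp [mul_assoc])
      right_inv := fun w => Subtype.ext (by simp [mul_assoc]) }
  have hpow : ∀ n : ℕ, ∀ w : W, ((σ ^ n) w : G) = g ^ n * w * (g ^ n)⁻¹ := by
    intro n
    induction n with
    | zero => simp
    | succ n ih =>
      intro w
      rw [pow_succ, Equiv.Perm.mul_apply, ih]
      show g ^ n * (g * w * g⁻¹) * (g ^ n)⁻¹ = _
      group
  have hσ : σ ^ 5 ^ 1 = 1 := Equiv.ext fun w => Subtype.ext (by rw [pow_one, hpow, hg]; simp)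
  have h1 := Equiv.Perm.card_compl_support_modEq hσ
  have e1 : σ.supportᶜ.card = Nat.card (W ⊓ Subgroup.centralizer {g} : Subgroup G) := by
    rw [← Fintype.card_coe, ← Nat.card_eq_fintype_card]
    refine Nat.card_congr
      { toFun := fun w => ⟨(w.1 : G), w.1.2, Subgroup.mem_centralizer_singleton_iff.mpr ?_⟩
        invFun := fun w => ⟨⟨w.1, w.2.1⟩, ?_⟩
        left_inv := fun _ => rfl
        right_inv := fun _ => rfl }
    · have h := w.2
      rw [Finset.mem_compl, Equiv.Perm.notMem_support] at h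
      exact (mul_inv_eq_iff_eq_mul.mp (congrArg Subtype.val h)).symm
    · rw [Finset.mem_compl, Equiv.Perm.notMem_support]
      exact Subtype.ext (mul_inv_eq_iff_eq_mul.mpr (Subgroup.mem_centralizer_singleton_iff.mp w.2.2).symm)
  rw [← e1, Nat.card_eq_fintype_card]
  exact h1.symm

theorem cent_five_Q : H.Q ⊓ Subgroup.centralizer {H.five} = H.Z := by
  haveI : Fact (Nat.Prime 3) := ⟨Nat.prime_three⟩
  obtain ⟨h5L, h5, h5Q⟩ := H.five_spec
  have hle : H.Z ≤ H.Q ⊓ Subgroup.centralizer {H.five} := fun m hm =>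
    ⟨H.Z_le_Q hm, Subgroup.mem_centralizer_singleton_iff.mpr (H.L0_comm h5L hm).symm⟩
  refine (Subgroup.eq_of_le_of_card_ge hle ?_).symm
  obtain ⟨n, hn⟩ := IsPGroup.iff_card.mp (H.Q_pgroup.to_le (inf_le_left (b := Subgroup.centralizer {H.five})))
  have h := fixed_modEq (W := H.Q) h5 fun w hw => H.Q_conj (H.L0_le h5L) hw
  have hd := Subgroup.card_dvd_of_le (inf_le_left : H.Q ⊓ Subgroup.centralizer {H.five} ≤ H.Q)
  rw [H.hQcard, hn] at h
  rw [H.hQcard, hn, show (243 : ℕ) = 3 ^ 5 by norm_num, Nat.pow_dvd_pow_iff_le_right (by norm_num)] at hd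
  rw [hn, H.card_Z]
  rcases (show n = 0 ∨ n = 1 ∨ n = 2 ∨ n = 3 ∨ n = 4 ∨ n = 5 by omega) with rfl | rfl | rfl | rfl | rfl | rfl
  all_goals first
    | (norm_num [Nat.ModEq] at h; done)
    | norm_num
    | skip
  exfalso
  have e := Subgroup.eq_of_le_of_card_ge (inf_le_left : H.Q ⊓ Subgroup.centralizer {H.five} ≤ H.Q)
    (by rw [hn, H.hQcard]; norm_num)
  refine h5Q (H.cent_Q fun q hq => ?_)
  rw [← e] at hq
  exact Subgroup.mem_centralizer_singleton_iff.mp hq.2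

/-- Subgroups between `Z` and `Q` invariant under the element of order five. -/
theorem irr {W : Subgroup G} (hZW : H.Z ≤ W) (hWQ : W ≤ H.Q)
    (hn : ∀ w ∈ W, H.five * w * H.five⁻¹ ∈ W) : W = H.Z ∨ W = H.Q := by
  haveI : Fact (Nat.Prime 3) := ⟨Nat.prime_three⟩
  have h := fixed_modEq H.five_spec.2.1 hn
  have e : W ⊓ Subgroup.centralizer {H.five} = H.Z := by
    refine le_antisymm ?_ (le_inf hZW ?_)
    · rw [← H.cent_five_Q]; exact inf_le_inf_right _ hWQ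
    · rw [← H.cent_five_Q]; exact inf_le_right
  rw [e, H.card_Z] at h
  obtain ⟨n, hn'⟩ := IsPGroup.iff_card.mp (H.Q_pgroup.to_le hWQ)
  have hd := Subgroup.card_dvd_of_le hWQ
  rw [hn'] at h
  rw [H.hQcard, hn', show (243 : ℕ) = 3 ^ 5 by norm_num, Nat.pow_dvd_pow_iff_le_right (by norm_num)] at hd
  rcases (show n = 0 ∨ n = 1 ∨ n = 2 ∨ n = 3 ∨ n = 4 ∨ n = 5 by omega) with rfl | rfl | rfl | rfl | rfl | rfl
  all_goals try (norm_num [Nat.ModEq] at h; done)
  · exact Or.inl (Subgroup.eq_of_le_of_card_ge hZW (by rw [hn', H.card_Z]; norm_num)).symm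
  · exact Or.inr (Subgroup.eq_of_le_of_card_ge hWQ (by rw [hn', H.hQcard]; norm_num))

theorem comm_Z_conj {x q : G} (hx : x ∈ H.Q) (hq : q ∈ H.Q) : ∃ m ∈ H.Z, x * q * x⁻¹ = m * q :=
  ⟨_, H.comm_mem_Z hx hq, by group⟩

theorem t_Q_inv {q : G} (hq : q ∈ H.Q) : H.t * q * H.t * q ∈ H.Z := by
  have hNt := H.L0_le H.t_mem
  have htQ : ∀ q ∈ H.Q, H.t * q * H.t ∈ H.Q := fun q hq => by
    have := H.Q_conj hNt hq; rwa [H.t_inv] at this
  have hmul : ∀ a b : G, a ∈ H.Q → b ∈ H.Q → H.t * a * H.t * a⁻¹ ∈ H.Z → H.t * b * H.t * b⁻¹ ∈ H.Z →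
      H.t * (a * b) * H.t * (a * b)⁻¹ ∈ H.Z := by
    intro a b ha hb h1 h2
    have e : H.t * (a * b) * H.t * (a * b)⁻¹ =
        (H.t * a * H.t) * (H.t * b * H.t * b⁻¹) * a⁻¹ := by
      calc H.t * (a * b) * H.t * (a * b)⁻¹ = H.t * a * 1 * b * H.t * b⁻¹ * a⁻¹ := by group
        _ = _ := by rw [← H.t_sq]; group
    rw [e, H.Z_comm h2 (H.Q_le_S (htQ a ha)), mul_assoc]
    exact mul_mem h2 h1
  let W : Subgroup G :=
    { carrier := {a | a ∈ H.Q ∧ H.t * a * H.t * a⁻¹ ∈ H.Z}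
      mul_mem' := fun ha hb => ⟨mul_mem ha.1 hb.1, hmul _ _ ha.1 hb.1 ha.2 hb.2⟩
      one_mem' := ⟨one_mem _, by simp [H.t_sq]⟩
      inv_mem' := fun {a} ha => by
        refine ⟨inv_mem ha.1, ?_⟩
        have e : H.t * a⁻¹ * H.t * a⁻¹⁻¹ = a⁻¹ * (a * (H.t * a⁻¹ * H.t)) * a := by group
        have h1 : a * (H.t * a⁻¹ * H.t) = (H.t * a * H.t * a⁻¹)⁻¹ := by
          simp only [mul_inv_rev, inv_inv, H.t_inv]; group
        rw [e, h1, H.Z_comm (inv_mem ha.2) (H.Q_le_S (inv_mem ha.1)), mul_assoc, inv_mul_cancel, mul_one]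
        exact inv_mem ha.2 }
  have hW : ∀ w ∈ W, H.five * w * H.five⁻¹ ∈ W := by
    rintro w ⟨hw, hwZ⟩
    obtain ⟨h5L, -, -⟩ := H.five_spec
    refine ⟨H.Q_conj (H.L0_le h5L) hw, ?_⟩
    set c := H.t * H.five * H.t * H.five⁻¹ with hc
    have hcQ := H.t_comm h5L
    set m := H.t * w * H.t * w⁻¹ with hm
    have e : H.t * (H.five * w * H.five⁻¹) * H.t = c * (m * (H.five * w * H.five⁻¹)) * c⁻¹ := by
      have e1 : m * (H.five * w * H.five⁻¹) = H.five * (m * w) * H.five⁻¹ := by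
        rw [← mul_assoc, ← mul_assoc, ← mul_assoc, H.L0_comm h5L hwZ]
      rw [e1, hm, hc]
      simp only [mul_inv_rev, inv_inv, H.t_inv]
      calc _ = H.t * H.five * (H.t * H.t) * w * (H.t * H.t) * H.five⁻¹ * H.t := by rw [H.t_sq]; group
        _ = _ := by group
    obtain ⟨m', hm', e2⟩ := H.comm_Z_conj hcQ (H.Q_conj (H.L0_le h5L) hw)
    rw [e, show c * (m * (H.five * w * H.five⁻¹)) * c⁻¹ = (c * m) * (H.five * w * H.five⁻¹) * c⁻¹ by group,
      H.Z_comm hwZ (H.Q_le_S hcQ), show m * c * (H.five * w * H.five⁻¹) * c⁻¹ =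
        m * (c * (H.five * w * H.five⁻¹) * c⁻¹) by group, e2, mul_assoc, mul_inv_cancel_right]
    exact mul_mem hwZ hm'
  have hZW : H.Z ≤ W := fun m hm => ⟨H.Z_le_Q hm, by rw [H.t_Z hm, mul_inv_cancel]; exact one_mem _⟩
  rcases H.irr hZW (fun a ha => ha.1) hW with h | h
  · -- the commutator lies in the fixed part
    have hp : H.t * q * H.t * q ∈ W := by
      refine ⟨mul_mem (htQ q hq) hq, ?_⟩
      have := H.comm_mem_Z hq (htQ q hq)
      convert this using 1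
      calc _ = H.t * H.t * q * H.t * q * H.t * (H.t * q * H.t * q)⁻¹ := by group
        _ = _ := by rw [H.t_sq]; group
    rw [h] at hp; exact hp
  · exfalso
    refine H.t_not_Q (H.cent_Q fun a ha => ?_)
    obtain ⟨-, hm⟩ := (h.symm ▸ ha : a ∈ W)
    set m := H.t * a * H.t * a⁻¹ with hm'
    have h1 : H.t * a * H.t = m * a := by rw [hm']; group
    have h2 : m * m = 1 := by
      have : a = m * (m * a) := by
        calc a = (H.t * H.t) * a * (H.t * H.t) := by rw [H.t_sq]; group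
          _ = H.t * (H.t * a * H.t) * H.t := by group
          _ = H.t * m * (H.t * H.t) * a * H.t := by rw [h1, H.t_sq]; group
          _ = (H.t * m * H.t) * (H.t * a * H.t) := by group
          _ = _ := by rw [H.t_Z hm, h1]
      rw [← mul_assoc] at this
      exact mul_eq_right.mp this.symm
    have h3 : m = 1 := by
      have := H.hQexp m (H.Z_le_Q hm)
      rwa [pow_succ, pow_two, h2, one_mul] at this
    rw [h3, one_mul] at h1
    calc a * H.t = (H.t * a * H.t) * H.t := by rw [h1]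
      _ = H.t * a := by rw [mul_assoc, H.t_sq, mul_one]

theorem J_Q_comm {q j : G} (hq : q ∈ H.Q) (hj : j ∈ H.J) : q * j * q⁻¹ * j⁻¹ ∈ H.A := by
  have hjN := H.S_le_NZ (H.hJS hj)
  refine H.cent_A ?_ fun a ha => ?_
  · rw [show q * j * q⁻¹ * j⁻¹ = q * (j * q⁻¹ * j⁻¹) by group]
    exact mul_mem hq (H.Q_conj hjN (inv_mem hq))
  · have hja : j * a = a * j := H.hJc j hj a (H.A_le_J ha)
    obtain ⟨m, hm, e⟩ := H.comm_Z_conj hq (H.A_le_Q ha)
    have hmj : j * m = m * j := H.hJc j hj m (H.Z_le_J hm)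
    have hmq : q * m = m * q := H.Z_comm hm (H.Q_le_S hq)
    have e' : q⁻¹ * a = m⁻¹ * a * q⁻¹ := by
      have h1 : q⁻¹ * (m * a) = a * q⁻¹ := by rw [← e]; group
      calc q⁻¹ * a = m⁻¹ * (m * q⁻¹) * a := by group
        _ = m⁻¹ * (q⁻¹ * (m * a)) := by
            rw [show m * q⁻¹ = q⁻¹ * m from (Commute.inv_left (show Commute q m from hmq)).eq.symm]; group
        _ = _ := by rw [h1]; group
    have hja' : j⁻¹ * a = a * j⁻¹ := (Commute.inv_left (show Commute j a from hja)).eq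
    have hjm : j * m⁻¹ = m⁻¹ * j := (Commute.inv_right (show Commute j m from hmj)).eq
    calc q * j * q⁻¹ * j⁻¹ * a = q * j * q⁻¹ * (a * j⁻¹) := by rw [← hja']; group
      _ = q * j * (m⁻¹ * a * q⁻¹) * j⁻¹ := by rw [← e']; group
      _ = q * (j * m⁻¹) * a * q⁻¹ * j⁻¹ := by group
      _ = q * m⁻¹ * (j * a) * q⁻¹ * j⁻¹ := by rw [hjm]; group
      _ = (q * m⁻¹ * a * q⁻¹) * (q * j * q⁻¹ * j⁻¹) := by rw [hja]; group
      _ = (m⁻¹ * (q * a * q⁻¹)) * (q * j * q⁻¹ * j⁻¹) := by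
          rw [(Commute.inv_right (show Commute q m from hmq)).eq]; group
      _ = a * (q * j * q⁻¹ * j⁻¹) := by rw [e, inv_mul_cancel_left]

theorem Q_conj_J {q j : G} (hq : q ∈ H.Q) (hj : j ∈ H.J) : q * j * q⁻¹ ∈ H.J := by
  have := mul_mem (H.A_le_J (H.J_Q_comm hq hj)) hj
  rwa [inv_mul_cancel_right] at this

/-- The elements of `Q` commuting modulo `Z` with an element. -/
def modCent (u : G) (hu : u ∈ H.L0) : Subgroup G where
  carrier := {q | q ∈ H.Q ∧ u * q * u⁻¹ * q⁻¹ ∈ H.Z}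
  one_mem' := ⟨one_mem _, by simp⟩
  mul_mem' := by
    rintro a b ⟨ha, h1⟩ ⟨hb, h2⟩
    refine ⟨mul_mem ha hb, ?_⟩
    rw [show u * (a * b) * u⁻¹ * (a * b)⁻¹ = (u * a * u⁻¹) * (u * b * u⁻¹ * b⁻¹) * a⁻¹ by group,
      H.Z_comm h2 (H.Q_le_S (H.Q_conj (H.L0_le hu) ha)), mul_assoc]
    exact mul_mem h2 h1
  inv_mem' := by
    rintro a ⟨ha, h1⟩
    refine ⟨inv_mem ha, ?_⟩
    rw [show u * a⁻¹ * u⁻¹ * a⁻¹⁻¹ = a⁻¹ * (u * a * u⁻¹ * a⁻¹)⁻¹ * a by group,
      H.Z_comm (inv_mem h1) (H.Q_le_S (inv_mem ha)), mul_assoc, inv_mul_cancel, mul_one]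
    exact inv_mem h1

theorem cent_mod_Z {q j : G} (hq : q ∈ H.Q) (hj : j ∈ H.J) (hjQ : j ∉ H.Q)
    (h : q * j * q⁻¹ * j⁻¹ ∈ H.Z) : q ∈ H.A := by
  haveI : Fact (Nat.Prime 3) := ⟨Nat.prime_three⟩
  by_contra hqA
  have hjL : j ∈ H.L0 := H.S_le_L0 (H.hJS hj)
  set W := H.modCent j hjL with hWdef
  have hAW : H.A ≤ W := fun a ha => ⟨H.A_le_Q ha, by
    rw [H.hJc j hj a (H.A_le_J ha), mul_inv_cancel_right, mul_inv_cancel]; exact one_mem _⟩
  have hqW : q ∈ W := ⟨hq, by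
    have := inv_mem h
    rwa [show (q * j * q⁻¹ * j⁻¹)⁻¹ = j * q * j⁻¹ * q⁻¹ by group] at this⟩
  have hWQ : W ≤ H.Q := fun a ha => ha.1
  have hW81 : 81 ≤ Nat.card W := by
    obtain ⟨n, hn⟩ := IsPGroup.iff_card.mp (H.Q_pgroup.to_le hWQ)
    have h27 : 27 < Nat.card W := by
      refine lt_of_not_ge fun hle => hqA ?_
      rw [Subgroup.eq_of_le_of_card_ge hAW (by rw [H.card_A]; exact hle)]; exact hqW
    rw [hn] at h27 ⊢
    have : 4 ≤ n := by
      by_contra hn4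
      have := Nat.pow_le_pow_right (show 1 ≤ 3 by norm_num) (show n ≤ 3 by omega)
      omega
    exact le_trans (by norm_num) (Nat.pow_le_pow_right (show 1 ≤ 3 by norm_num) this)
  set x : SL25 := H.piL ⟨j, hjL⟩ with hx
  have hx3 : x ^ 3 = 1 := by
    rw [hx, ← map_pow, show (⟨j, hjL⟩ : H.L0) ^ 3 = 1 from Subtype.ext (H.hJexp j hj), map_one]
  have hx1 : x ≠ 1 := fun e => hjQ ((H.piL_ker _).mp e)
  obtain ⟨⟨g, hg⟩, -, -⟩ := three_gen x hx3 hx1
  obtain ⟨⟨g', hg'⟩, hgg⟩ := H.piL_surj g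
  set j' := g' * j * g'⁻¹ with hj'
  have hj'L : j' ∈ H.L0 := mul_mem (mul_mem hg' hjL) (inv_mem hg')
  set W' := H.modCent j' hj'L with hW'
  have hWW' : ∀ a ∈ W, g' * a * g'⁻¹ ∈ W' := by
    rintro a ⟨ha, h1⟩
    refine ⟨H.Q_conj (H.L0_le hg') ha, ?_⟩
    rw [hj', show g' * j * g'⁻¹ * (g' * a * g'⁻¹) * (g' * j * g'⁻¹)⁻¹ * (g' * a * g'⁻¹)⁻¹ =
      g' * (j * a * j⁻¹ * a⁻¹) * g'⁻¹ by group, H.L0_comm hg' h1, mul_inv_cancel_right]
    exact h1
  have hW'Q : W' ≤ H.Q := fun a ha => ha.1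
  have hW'81 : 81 ≤ Nat.card W' := by
    refine le_trans hW81 (Nat.card_le_card_of_injective (fun a : W => (⟨_, hWW' a a.2⟩ : W'))
      fun a b e => Subtype.ext ?_)
    simpa using congrArg Subtype.val e
  have hi : ∀ V : Subgroup G, V ≤ H.Q → 81 ≤ Nat.card V → V.relIndex H.Q ≤ 3 := by
    intro V hV h81
    have := (V.subgroupOf H.Q).card_mul_index
    rw [Nat.card_congr (Subgroup.subgroupOfEquivOfLe hV).toEquiv, H.hQcard] at this
    change (V.subgroupOf H.Q).index ≤ 3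
    nlinarith
  have hinf : (W ⊓ W').relIndex H.Q ≤ 9 :=
    (Subgroup.relIndex_inf_le ..).trans (Nat.mul_le_mul (hi W hWQ hW81) (hi W' hW'Q hW'81))
  have hle : W ⊓ W' ≤ H.Z := by
    rintro a ⟨ha, ha'⟩
    have haQ : a ∈ H.Q := ha.1
    have hu : j * j' * (j * j') ∈ H.L0 := mul_mem (mul_mem hjL hj'L) (mul_mem hjL hj'L)
    have hmc : ∀ u v : G, ∀ (hu : u ∈ H.L0) (hv : v ∈ H.L0), a ∈ H.modCent u hu → a ∈ H.modCent v hv →
        a ∈ H.modCent (u * v) (mul_mem hu hv) := by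
      rintro u v hu hv ⟨-, h1⟩ ⟨-, h2⟩
      refine ⟨haQ, ?_⟩
      rw [show u * v * a * (u * v)⁻¹ * a⁻¹ =
        (u * (v * a * v⁻¹ * a⁻¹) * u⁻¹) * (u * a * u⁻¹ * a⁻¹) by group, H.L0_comm hu h2, mul_inv_cancel_right]
      exact mul_mem h2 h1
    obtain ⟨-, h2⟩ := hmc _ _ _ _ (hmc j j' hjL hj'L ha ha') (hmc j j' hjL hj'L ha ha')
    set u := j * j' * (j * j') with hudef
    have hc : H.t * u ∈ H.Q := by
      refine (H.piL_ker (⟨H.t, H.t_mem⟩ * ⟨u, hu⟩)).mp ?_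
      have : H.piL ⟨u, hu⟩ = -1 := by
        have e : (⟨u, hu⟩ : H.L0) = ⟨j, hjL⟩ * (⟨g', hg'⟩ * ⟨j, hjL⟩ * ⟨g', hg'⟩⁻¹) *
            (⟨j, hjL⟩ * (⟨g', hg'⟩ * ⟨j, hjL⟩ * ⟨g', hg'⟩⁻¹)) := Subtype.ext (by simp [hudef, hj'])
        rw [e, map_mul, map_mul, map_mul, map_mul, map_inv, hgg, ← hx]; exact hg
      rw [map_mul, H.piL_t, this]; exact neg_one_spec.2
    obtain ⟨m1, hm1, e1⟩ := H.comm_Z_conj hc haQ
    -- `t` centralizes `a` modulo `Z`
    set m2 := u * a * u⁻¹ * a⁻¹ with hm2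
    have h3 : H.t * a * H.t = m2⁻¹ * m1 * a := by
      have e2 : u * a * u⁻¹ = m2 * a := by rw [hm2]; group
      have e3 : H.t * (m2 * a) * H.t = m1 * a := by
        rw [← e2, ← e1]
        simp only [mul_inv_rev, H.t_inv]; group
      rw [show H.t * (m2 * a) * H.t = (H.t * m2) * a * H.t by group, H.t_comm_Z h2] at e3
      rw [mul_assoc m2⁻¹, ← e3]; group
    have h4 := H.t_Q_inv haQ
    rw [h3] at h4
    have h5 : a * a ∈ H.Z := by
      have := mul_mem (mul_mem (inv_mem hm1) h2) h4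
      rwa [show m1⁻¹ * m2 * (m2⁻¹ * m1 * a * a) = a * a by group] at this
    have : a = (a * a) ^ 2 := by
      rw [← pow_two, ← pow_mul, show 2 * 2 = 3 + 1 from rfl, pow_succ, H.hQexp a haQ, one_mul]
    rw [this]; exact pow_mem h5 2
  have h3 := Subgroup.card_dvd_of_le hle
  have h4 := ((W ⊓ W').subgroupOf H.Q).card_mul_index
  rw [Nat.card_congr (Subgroup.subgroupOfEquivOfLe (inf_le_left.trans hWQ)).toEquiv, H.hQcard] at h4
  change ((W ⊓ W').subgroupOf H.Q).index ≤ 9 at hinf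
  rw [H.card_Z] at h3
  have h5 := Nat.le_of_dvd (by norm_num) h3
  nlinarith

theorem sup_eq_S : H.Q ⊔ H.J = (H.S : Subgroup G) := by
  refine Subgroup.eq_of_le_of_card_ge (sup_le H.Q_le_S H.hJS) ?_
  obtain ⟨n, hn⟩ := IsPGroup.iff_card.mp (H.S.isPGroup'.to_le (sup_le H.Q_le_S H.hJS))
  have h1 : 243 < Nat.card ↥(H.Q ⊔ H.J) := by
    refine lt_of_not_ge fun hle => H.J_not_le ?_
    rw [Subgroup.eq_of_le_of_card_ge (le_sup_left : H.Q ≤ H.Q ⊔ H.J) (by rw [H.hQcard]; exact hle)]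
    exact le_sup_right
  rw [H.card_S, hn]
  rw [hn] at h1
  have : 6 ≤ n := by
    by_contra hn6
    have := Nat.pow_le_pow_right (show 1 ≤ 3 by norm_num) (show n ≤ 5 by omega)
    omega
  exact le_trans (by norm_num) (Nat.pow_le_pow_right (show 1 ≤ 3 by norm_num) this)

theorem S_decomp {x : G} (hx : x ∈ (H.S : Subgroup G)) : ∃ q ∈ H.Q, ∃ j ∈ H.J, x = q * j := by
  rw [← H.sup_eq_S, ← SetLike.mem_coe, Subgroup.coe_mul_of_right_le_normalizer_left H.Q H.J
    (fun y hy => Subgroup.mem_normalizer_iff.mpr fun q =>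
      ⟨H.Q_conj (H.S_le_NZ (H.hJS hy)), fun h => by
        simpa [mul_assoc] using H.Q_conj (inv_mem (H.S_le_NZ (H.hJS hy))) h⟩)] at hx
  obtain ⟨q, hq, j, hj, rfl⟩ := hx
  exact ⟨q, hq, j, hj, rfl⟩

theorem J_unique {X : Subgroup G} (hX : X ≤ (H.S : Subgroup G)) (hc : ∀ x ∈ X, ∀ y ∈ X, x * y = y * x)
    (hcard : Nat.card X = 81) : X = H.J := by
  have hi := (H.Q.subgroupOf (H.S : Subgroup G)).card_mul_index
  rw [Nat.card_congr (Subgroup.subgroupOfEquivOfLe H.Q_le_S).toEquiv, H.hQcard, H.card_S] at hi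
  have h3 : H.Q.relIndex (H.S : Subgroup G) = 3 := by
    show (H.Q.subgroupOf (H.S : Subgroup G)).index = 3; omega
  have h1 : (H.Q.subgroupOf X).index ≤ 3 :=
    h3 ▸ Subgroup.relIndex_le_of_le_right hX (by rw [h3]; norm_num)
  have e : Nat.card (H.Q.subgroupOf X) = Nat.card (X ⊓ H.Q : Subgroup G) := by
    rw [← Subgroup.card_map_of_injective X.subtype_injective, Subgroup.subgroupOf_map_subtype, inf_comm]
  have h2 := (H.Q.subgroupOf X).card_mul_index
  rw [e, hcard] at h2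
  have h4 := H.Q_abelian_card (inf_le_right : X ⊓ H.Q ≤ H.Q) fun x hx y hy => hc x hx.1 y hy.1
  have h27 : Nat.card (X ⊓ H.Q : Subgroup G) = 27 := by
    rcases (show (H.Q.subgroupOf X).index = 0 ∨ (H.Q.subgroupOf X).index = 1 ∨
      (H.Q.subgroupOf X).index = 2 ∨ (H.Q.subgroupOf X).index = 3 by omega) with e1 | e1 | e1 | e1 <;>
      rw [e1] at h2 <;> omega
  obtain ⟨x, hxX, hxQ⟩ : ∃ x ∈ X, x ∉ H.Q := by
    by_contra hall
    push Not at hall
    rw [inf_eq_left.mpr hall, hcard] at h27; norm_num at h27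
  obtain ⟨q, hq, j, hj, rfl⟩ := H.S_decomp (hX hxX)
  have hjQ : j ∉ H.Q := fun h => hxQ (mul_mem hq h)
  have hXA : X ⊓ H.Q = H.A := by
    refine Subgroup.eq_of_le_of_card_ge (fun a ha => H.cent_mod_Z ha.2 hj hjQ ?_) (by rw [H.card_A, h27])
    have hcomm : a * (q * j) = q * j * a := hc a ha.1 _ hxX
    have hm := H.comm_mem_Z (inv_mem hq) ha.2
    have hj' : a * j * a⁻¹ * j⁻¹ = a * q⁻¹ * a⁻¹ * q := by
      calc a * j * a⁻¹ * j⁻¹ = a * q⁻¹ * ((q * j) * a⁻¹) * (q * j)⁻¹ * q := by group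
        _ = a * q⁻¹ * (a⁻¹ * (q * j)) * (q * j)⁻¹ * q := by
            rw [(Commute.inv_left (show Commute a (q * j) from hcomm)).eq.symm]
        _ = _ := by group
    rw [hj', show a * q⁻¹ * a⁻¹ * q = (q⁻¹ * a * q⁻¹⁻¹ * a⁻¹)⁻¹ by group]
    exact inv_mem hm
  have hqA : q ∈ H.A := by
    refine H.cent_A hq fun a ha => ?_
    have h5 : a ∈ X := (hXA.symm ▸ ha : a ∈ X ⊓ H.Q).1
    have hcomm : a * (q * j) = q * j * a := hc a h5 _ hxX
    rw [← mul_assoc, mul_assoc q j a, H.hJc j hj a (H.A_le_J ha), ← mul_assoc] at hcomm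
    exact (mul_right_cancel hcomm).symm
  refine Subgroup.eq_of_le_of_card_ge (fun y hy => ?_) (by rw [H.hJcard, hcard])
  by_cases hyQ : y ∈ H.Q
  · exact H.A_le_J (hXA ▸ ⟨hy, hyQ⟩)
  · obtain ⟨q', hq', j', hj', rfl⟩ := H.S_decomp (hX hy)
    refine mul_mem ?_ hj'
    refine H.A_le_J (H.cent_A hq' fun a ha => ?_)
    have h5 : a ∈ X := (hXA.symm ▸ ha : a ∈ X ⊓ H.Q).1
    have hcomm : a * (q' * j') = q' * j' * a := hc a h5 _ hy
    rw [← mul_assoc, mul_assoc q' j' a, H.hJc j' hj' a (H.A_le_J ha), ← mul_assoc] at hcomm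
    exact (mul_right_cancel hcomm).symm

theorem weakly_closed {g : G} (h : ∀ j ∈ H.J, g * j * g⁻¹ ∈ (H.S : Subgroup G)) : g ∈ H.NJ := by
  have e : H.J.map (MulAut.conj g).toMonoidHom = H.J := by
    refine H.J_unique (by rintro _ ⟨j, hj, rfl⟩; exact h j hj) ?_ ?_
    · rintro _ ⟨x, hx, rfl⟩ _ ⟨y, hy, rfl⟩
      rw [← map_mul, H.hJc x hx y hy, map_mul]
    · rw [Subgroup.card_map_of_injective (f := (MulAut.conj g).toMonoidHom) (MulAut.conj g).injective, H.hJcard]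
  exact Subgroup.mem_normalizer_iff_map_conj_eq.mpr e

theorem S_le_NJ : (H.S : Subgroup G) ≤ H.NJ := fun _ hx =>
  H.weakly_closed fun _ hj => mul_mem (mul_mem hx (H.hJS hj)) (inv_mem hx)

theorem S_le_M0 : (H.S : Subgroup G) ≤ H.M0 := fun _ hx => H.three_mem_M0 (H.S_le_NJ hx) (H.three_order hx)

theorem t_NJ : H.t ∈ H.NJ := by
  refine H.weakly_closed fun j hj => ?_
  rw [H.t_inv]
  have := mul_mem (H.Q_le_S (H.t_comm (H.S_le_L0 (H.hJS hj)))) (H.hJS hj)
  rwa [inv_mul_cancel_right] at this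

theorem cent_J {x : G} (hx : ∀ j ∈ H.J, x * j = j * x) : x ∈ H.J := by
  haveI : Fact (Nat.Prime 3) := ⟨Nat.prime_three⟩
  set C := Subgroup.centralizer (H.J : Set G) with hC
  have hCN : C ≤ H.NJ := Subgroup.centralizer_le_normalizer _
  have hCZ : C ≤ H.NZ := fun u hu => by
    refine Subgroup.mem_normalizer_iff.mpr fun m => ?_
    constructor
    · intro hm
      rw [(Subgroup.mem_centralizer_iff.mp hu m (H.Z_le_J hm)).symm, mul_inv_cancel_right]; exact hm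
    · intro hm
      have hcm := Subgroup.mem_centralizer_iff.mp hu _ (H.Z_le_J hm)
      have e : m = u * m * u⁻¹ := by
        calc m = u⁻¹ * (u * m * u⁻¹ * u) := by group
          _ = u * m * u⁻¹ := by rw [hcm]; group
      rw [e]; exact hm
  have hp : IsPGroup 3 C := by
    intro u
    obtain ⟨e, m, h3, hm⟩ := Nat.exists_eq_pow_mul_and_not_dvd (orderOf_pos (u : G)).ne' 3 (by norm_num)
    set v := (u : G) ^ 3 ^ e with hv
    have hvC : v ∈ C := pow_mem u.2 _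
    have hvm : v ^ m = 1 := by rw [hv, ← pow_mul, ← hm, pow_orderOf_eq_one]
    have hfix : ∀ q ∈ H.Q, q * v = v * q := by
      intro q hq
      have hcA : v * q * v⁻¹ * q⁻¹ ∈ H.A := by
        refine H.cent_A (mul_mem (H.Q_conj (hCZ hvC) hq) (inv_mem hq)) fun a ha => ?_
        obtain ⟨m', hm', e'⟩ := H.comm_Z_conj (inv_mem hq) (H.A_le_Q ha)
        rw [inv_inv] at e'
        have hva : v * a = a * v := (Subgroup.mem_centralizer_iff.mp hvC a (H.A_le_J ha)).symm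
        have hvm' : v * m' = m' * v := (Subgroup.mem_centralizer_iff.mp hvC m' (H.Z_le_J hm')).symm
        have hqm : q * m' = m' * q := H.Z_comm hm' (H.Q_le_S hq)
        have e2 : q⁻¹ * a = m' * a * q⁻¹ := by rw [← e']; group
        have e3 : v⁻¹ * (m' * a) = (m' * a) * v⁻¹ :=
          (Commute.inv_left ((show Commute v m' from hvm').mul_right (show Commute v a from hva))).eq
        calc v * q * v⁻¹ * q⁻¹ * a = v * q * (v⁻¹ * (m' * a)) * q⁻¹ := by
              rw [mul_assoc _ q⁻¹, e2]; group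
          _ = v * (q * m') * a * v⁻¹ * q⁻¹ := by rw [e3]; group
          _ = v * m' * q * a * q⁻¹ * (q * v⁻¹ * q⁻¹) := by rw [hqm]; group
          _ = v * (m' * (q * a * q⁻¹)) * (q * v⁻¹ * q⁻¹) := by group
          _ = (v * a) * (q * v⁻¹ * q⁻¹) := by
              congr 2
              calc m' * (q * a * q⁻¹) = q * (m' * a) * q⁻¹ := by rw [← mul_assoc q, hqm]; group
                _ = a := by rw [← e']; group
          _ = a * (v * q * v⁻¹ * q⁻¹) := by rw [hva]; group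
      set c := v * q * v⁻¹ * q⁻¹ with hc
      have hvc : v * c = c * v := (Subgroup.mem_centralizer_iff.mp hvC c (H.A_le_J hcA)).symm
      have key : ∀ n : ℕ, v ^ n * q * (v ^ n)⁻¹ = c ^ n * q := by
        intro n
        induction n with
        | zero => simp
        | succ n ih =>
          rw [pow_succ', show v * v ^ n * q * (v * v ^ n)⁻¹ = v * (v ^ n * q * (v ^ n)⁻¹) * v⁻¹ by group, ih,
            ← mul_assoc, ((show Commute v c from hvc).pow_right n).eq, pow_succ, hc]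
          group
      have h1 := key m
      rw [hvm, one_mul, inv_one, mul_one, eq_comm, mul_eq_right] at h1
      have h2 : orderOf c ∣ m := orderOf_dvd_of_pow_eq_one h1
      rcases (Nat.dvd_prime Nat.prime_three).mp
        (orderOf_dvd_of_pow_eq_one (H.hQexp c (H.A_le_Q hcA))) with e4 | e4
      · rw [orderOf_eq_one_iff, hc, mul_inv_eq_one, mul_inv_eq_iff_eq_mul] at e4
        exact e4.symm
      · rw [e4] at h2; exact absurd h2 h3
    have hv3 := H.hQexp v (H.cent_Q hfix)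
    refine ⟨e + 1, Subtype.ext ?_⟩
    rw [pow_succ, pow_mul, Subgroup.coe_pow, Subgroup.coe_pow, Subgroup.coe_one, ← hv, hv3]
  have hCS : C ≤ (H.S : Subgroup G) := by
    have hsup : IsPGroup 3 ↥(C ⊔ (H.S : Subgroup G)) := by
      refine IsPGroup.to_sup_of_normal_left' hp H.S.isPGroup' fun y hy => ?_
      refine Subgroup.mem_normalizer_iff.mpr fun u => ?_
      have hj : ∀ w ∈ H.NJ, ∀ u ∈ C, w * u * w⁻¹ ∈ C := fun w hw u hu =>
        Subgroup.mem_centralizer_iff.mpr fun j hj => by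
          have h1 := Subgroup.mem_centralizer_iff.mp hu _
            ((Subgroup.mem_normalizer_iff.mp (inv_mem hw) j).mp hj)
          simp only [inv_inv] at h1
          calc j * (w * u * w⁻¹) = w * ((w⁻¹ * j * w) * u) * w⁻¹ := by group
            _ = w * (u * (w⁻¹ * j * w)) * w⁻¹ := by rw [h1]
            _ = _ := by group
      exact ⟨hj y (H.S_le_NJ hy) u, fun h => by
        simpa [mul_assoc] using hj y⁻¹ (inv_mem (H.S_le_NJ hy)) _ h⟩
    exact le_sup_left.trans (H.S.is_maximal' hsup le_sup_right).le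
  have hxC : x ∈ C := Subgroup.mem_centralizer_iff.mpr fun j hj => (hx j hj).symm
  obtain ⟨q, hq, j, hj, rfl⟩ := H.S_decomp (hCS hxC)
  refine mul_mem (H.A_le_J (H.cent_A hq fun a ha => ?_)) hj
  have h := hx a (H.A_le_J ha)
  rw [mul_assoc, H.hJc j hj a (H.A_le_J ha), ← mul_assoc, ← mul_assoc] at h
  exact mul_right_cancel h

end CfsgLib.McLThree.Hyp
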