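import Cfsg.Agent.Lib.McLThree.Embed
import Cfsg.Agent.S3702
import Cfsg.Agent.Lib.ThreeCubedTI.Main
import Cfsg.Agent.Lib.Transfer.Focal

/-!
# The centralizer of `q0` normalizes `J`
-/

set_option autoImplicit false
set_option linter.unusedSectionVars false
set_option maxRecDepth 20000
set_option synthInstance.maxSize 4000
set_option synthInstance.maxHeartbeats 400000

open Equiv
open scoped commutatorElement

namespace CfsgLib.McLThree

/-- An affine signed permutation of nine points in three blocks. -/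
def aff (σ : Equiv.Perm (Fin 3)) (ε v : V3) : Equiv.Perm (Fin 9) :=
  finProdFinEquiv.permCongr
    (Equiv.prodShear σ (fun i => (lineMap (ε i) (v (σ i)) : Equiv.Perm (Fin 3))) : Equiv.Perm (Fin 3 × Fin 3))

theorem aff_inW : ∀ σ : Equiv.Perm (Fin 3), ∀ ε v : V3, detOne σ ε →
    NineNormalizer.inW (NineNormalizer.code (aff σ ε v)) = true := by decide +kernel

theorem aff_mem {σ : Equiv.Perm (Fin 3)} {ε : V3} (v : V3) (h : detOne σ ε) : aff σ ε v ∈ NineNormalizer.W := by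
  obtain ⟨h1, h2⟩ := NineNormalizer.inW_iff.mp (aff_inW σ ε v h)
  have e := NineNormalizer.code_inj ((NineNormalizer.code_ofNum h1).trans h2)
  rw [← e]
  exact SetLike.coe_mem _

theorem lineMap_mul : ∀ e f a b : ZMod 3, e ≠ 0 → f ≠ 0 →
    lineMap (e * f) (a + e * b) = lineMap e a * lineMap f b := by decide +kernel

theorem lineMap_inj : ∀ e f a b : ZMod 3, e ≠ 0 → f ≠ 0 → lineMap e a = lineMap f b → e = f ∧ a = b := by
  decide +kernel

theorem lineMap_cases : ∀ p : Equiv.Perm (Fin 3), ∃ e a : ZMod 3, e ≠ 0 ∧ (lineMap e a : Equiv.Perm (Fin 3)) = p := by decide +kernel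

theorem lineMap_sign : ∀ e a : ZMod 3, e ≠ 0 → (Equiv.Perm.sign (lineMap e a : Equiv.Perm (Fin 3)) = 1 ↔ e = 1) := by
  decide +kernel

theorem lineMap_ev : ∀ a b c : ZMod 3, a ≠ 0 → b ≠ 0 → c ≠ 0 → ∀ u v w : ZMod 3,
    (Equiv.Perm.sign (lineMap a u : Equiv.Perm (Fin 3)) * Equiv.Perm.sign (lineMap b v : Equiv.Perm (Fin 3)) *
      Equiv.Perm.sign (lineMap c w : Equiv.Perm (Fin 3)) = 1 ↔ a * b * c = 1) := by decide +kernel

theorem sgn3_one : sgn3 1 = 1 := by decide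

theorem sgn3_sq : ∀ σ : Equiv.Perm (Fin 3), sgn3 σ * sgn3 σ = 1 := by decide +kernel

theorem three_eq_zero : ∀ c : ZMod 3, c + c + c = 0 := by decide

theorem dia_prod : ∀ a b : Fin 3, (∀ i, dia b ((1 : Equiv.Perm (Fin 3)) i) * dia a i = 1) → b = a := by
  decide +kernel

theorem ev_ne : ∀ i, ev i ≠ 0 := by decide

theorem lineMap_one : (lineMap 1 0 : Equiv.Perm (Fin 3)) = 1 := by decide +kernel

theorem le_sylow_of_normal {X : Type*} [Group X] [Finite X] {p : ℕ} [Fact p.Prime] (P : Sylow p X)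
    {N : Subgroup X} (hn : N.Normal) (hp : IsPGroup p N) : N ≤ (P : Subgroup X) :=
  haveI := hn
  le_sup_right.trans (P.is_maximal' (P.2.to_sup_of_normal_right hp) le_sup_left).le

theorem det_diag : ∀ ε : V3, detOne 1 ε → (∀ i, ε i = 1) ∨ ∃ i, ε = dia i := by decide +kernel

theorem det_quot : ∀ σ : Equiv.Perm (Fin 3), ∀ ε η : V3, detOne σ ε → detOne σ η →
    ∃ θ : V3, detOne 1 θ ∧ (fun i => θ (σ i) * η i) = ε := by
  intro σ ε η h h'
  refine ⟨fun j => ε (σ.symm j) * η (σ.symm j), ⟨fun j => mul_ne_zero (h.1 _) (h'.1 _), ?_⟩, funext fun i => ?_⟩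
  · have key : ∀ σ : Equiv.Perm (Fin 3), ∀ f : V3,
        f (σ.symm 0) * f (σ.symm 1) * f (σ.symm 2) = f 0 * f 1 * f 2 := by decide +kernel
    rw [sgn3_one, one_mul, key σ fun i => ε i * η i]
    have hs := sgn3_sq σ
    calc ε 0 * η 0 * (ε 1 * η 1) * (ε 2 * η 2)
        = (sgn3 σ * sgn3 σ) * ((ε 0 * ε 1 * ε 2) * (η 0 * η 1 * η 2)) := by rw [hs]; ring
      _ = (sgn3 σ * (ε 0 * ε 1 * ε 2)) * (sgn3 σ * (η 0 * η 1 * η 2)) := by ring
      _ = 1 := by rw [h.2, h'.2, one_mul]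
  · have h2 : ∀ e : ZMod 3, e ≠ 0 → e * e = 1 := by decide
    simp only [Equiv.symm_apply_apply]
    rw [mul_assoc, h2 _ (h'.1 i), mul_one]

theorem perm_gen : ∀ ρ π σ : Equiv.Perm (Fin 3), ρ ≠ 1 → Equiv.Perm.sign ρ = 1 → Equiv.Perm.sign π ≠ 1 →
    σ = 1 ∨ σ = ρ ∨ σ = ρ * ρ ∨ σ = π ∨ σ = π * ρ ∨ σ = π * (ρ * ρ) := by decide +kernel

theorem three_cycle : ∀ ρ : Equiv.Perm (Fin 3), (∀ j, j = 0 ∨ ρ j = 0 ∨ ρ (ρ j) = 0) → ρ ≠ 1 →
    Equiv.Perm.sign ρ = 1 := by decide +kernel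

theorem card_triples : (Finset.univ.filter fun p : Equiv.Perm (Fin 3) × V3 × V3 => detOne p.1 p.2.1).card = 648 := by
  decide +kernel

theorem even_comm : ∀ σ π : Equiv.Perm (Fin 3), Equiv.Perm.sign σ = 1 → Equiv.Perm.sign π = 1 →
    σ * π = π * σ ∧ σ * σ * σ = 1 ∧ (σ * σ = 1 → σ = 1) := by decide +kernel

theorem dia_cycle : ∀ ρ : Equiv.Perm (Fin 3), Equiv.Perm.sign ρ = 1 → ρ ≠ 1 → ∀ i k,
    dia (ρ (ρ i)) k * dia (ρ i) k * dia i k = 1 := by decide +kernel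

theorem diag_sq : ∀ ε : V3, (∀ i, ε i ≠ 0) → ∀ i, ε ((1 : Equiv.Perm (Fin 3)) i) * ε i = 1 := by decide +kernel

theorem cycle_cent : ∀ σ π : Equiv.Perm (Fin 3), ∀ ε η : V3, σ ≠ 1 → Equiv.Perm.sign σ = 1 →
    Equiv.Perm.sign π = 1 → detOne σ ε → detOne π η → (∀ i, ε (π i) * η i = η (σ i) * ε i) →
    ∀ i : Fin 3, mon π η (mon π η (mon π η (ev i))) = ev i := by decide +kernel

theorem conj_sq : ∀ σ π : Equiv.Perm (Fin 3), π * σ * π⁻¹ = 1 → σ = 1 := fun σ π h => conj_eq_one_iff.mp h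

namespace Data

variable {G : Type*} [Group G] [Finite G] {H : Hyp G} {D : Data H}

namespace Tri

variable (τ : D.Tri)

theorem exists_three : ∃ r : D.Hb, τ.perm r ≠ 1 ∧ Equiv.Perm.sign (τ.perm r) = 1 := by
  obtain ⟨r, hr, hrC, -, ρ, η, hR, hRd, hρ, hcyc⟩ := D.exists_cyclic
  let x : D.QX := D.proj ⟨r, hrC⟩
  have hx : x ∈ D.Hb := D.mem_Hb.mpr hr
  have hA : D.ActsX x ρ η := ⟨hRd, fun v => by
    show D.proj _ * D.jb v * (D.proj _)⁻¹ = _
    rw [jb, jb, ← map_inv, ← map_mul, ← map_mul]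
    congr 1
    refine Subtype.ext ?_
    simp only [Subgroup.coe_mul, InvMemClass.coe_inv]
    rw [← D.F.act_spec hr, hR.2.2]⟩
  obtain ⟨e, -⟩ := D.actsX_unique (τ.dec_acts (τ.dec_self ⟨x, hx⟩)) hA
  exact ⟨⟨x, hx⟩, by rw [e]; exact hρ, by rw [e]; exact three_cycle ρ hcyc hρ⟩

theorem diag_dec {θ : V3} (hθ : detOne 1 θ) (v : V3) : ∃ x : D.Hb, τ.Dec x 1 θ v := by
  rcases det_diag θ hθ with h | ⟨i, rfl⟩
  · refine ⟨⟨D.jb v, D.jb_Hb v⟩, ?_⟩
    rw [show θ = fun _ => (1 : ZMod 3) from funext h]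
    exact τ.dec_jb v
  · refine ⟨⟨D.jb v * τ.T i, mul_mem (D.jb_Hb v) (τ.mem i)⟩, τ.T i, rfl, τ.mem i, τ.acts i, fun b => ?_⟩
    rw [τ.comm, mul_inv_cancel_right]; rfl

theorem eq_one_of_coords {x : D.Hb} (h1 : τ.perm x = 1) (h2 : ∀ i, τ.sgnv x i = 1) (h3 : τ.trans x = 0) :
    x = 1 := by
  obtain ⟨v, hv⟩ := D.Jb_eq ((τ.mem_Jb_iff x).mpr ⟨h1, h2⟩)
  have := (τ.coords_of_dec (x := x) (hv ▸ τ.dec_jb v)).2.2
  rw [h3] at this
  exact Subtype.ext (by rw [hv, ← this, D.jb_zero]; rfl)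

theorem aff_mul (x y : D.Hb) : aff (τ.perm (x * y)) (τ.sgnv (x * y)) (τ.trans (x * y)) =
    aff (τ.perm x) (τ.sgnv x) (τ.trans x) * aff (τ.perm y) (τ.sgnv y) (τ.trans y) := by
  obtain ⟨h1, h2, h3⟩ := τ.coords_mul x y
  rw [h1, h2, h3, aff, aff, aff]
  refine Equiv.ext fun p => ?_
  obtain ⟨⟨i, c⟩, rfl⟩ := finProdFinEquiv.surjective p
  simp only [Equiv.Perm.mul_apply, Equiv.permCongr_apply, Equiv.symm_apply_apply, Equiv.prodShear_apply]
  congr 1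
  refine Prod.ext rfl ?_
  show lineMap (τ.sgnv x (τ.perm y i) * τ.sgnv y i)
      ((τ.trans x + mon (τ.perm x) (τ.sgnv x) (τ.trans y)) (τ.perm x (τ.perm y i))) c =
    lineMap (τ.sgnv x (τ.perm y i)) (τ.trans x (τ.perm x (τ.perm y i)))
      (lineMap (τ.sgnv y i) (τ.trans y (τ.perm y i)) c)
  rw [show (τ.trans x + mon (τ.perm x) (τ.sgnv x) (τ.trans y)) (τ.perm x (τ.perm y i)) =
      τ.trans x (τ.perm x (τ.perm y i)) + τ.sgnv x (τ.perm y i) * τ.trans y (τ.perm y i) by simp [mon],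
    lineMap_mul _ _ _ _ (τ.sgnv_ne _ _) (τ.sgnv_ne _ _), Equiv.Perm.mul_apply]

/-- The embedding into the group on nine points. -/
noncomputable def toW : D.Hb →* NineNormalizer.W :=
  MonoidHom.mk' (fun x => ⟨_, aff_mem (τ.trans x) (τ.det_self x)⟩) fun x y => Subtype.ext (τ.aff_mul x y)

theorem toW_injective : Function.Injective τ.toW := by
  refine (injective_iff_map_eq_one _).mpr fun x hx => ?_
  have h := finProdFinEquiv.permCongr.injective ((congrArg Subtype.val hx).trans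
    (Equiv.ext fun p => by simp : (1 : Equiv.Perm (Fin 9)) = finProdFinEquiv.permCongr
      (1 : Equiv.Perm (Fin 3 × Fin 3))))
  have hp : ∀ i c, (τ.perm x i, (lineMap (τ.sgnv x i) (τ.trans x (τ.perm x i)) : Equiv.Perm (Fin 3)) c) = (i, c) :=
    fun i c => congrFun (congrArg DFunLike.coe h) (i, c)
  have h1 : τ.perm x = 1 := Equiv.ext fun i => congrArg Prod.fst (hp i 0)
  have hline : ∀ i, lineMap (τ.sgnv x i) (τ.trans x i) = lineMap 1 0 := fun i => by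
    have hid : ∀ c : Fin 3, lineMap 1 0 c = c := fun c => by rw [lineMap_one]; rfl
    refine Equiv.ext fun c => ?_
    have := congrArg Prod.snd (hp i c)
    rw [h1] at this
    exact this.trans (hid c).symm
  have h23 := fun i => lineMap_inj _ _ _ _ (τ.sgnv_ne x i) (by decide) (hline i)
  exact τ.eq_one_of_coords h1 (fun i => (h23 i).1) (funext fun i => (h23 i).2)

theorem odd_pow_mem {x : D.Hb} (h1 : τ.perm x = 1) {k : ℕ} (hx : (x : D.QX) ^ (3 ^ k) = 1) :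
    (x : D.QX) ∈ D.Jb := by
  obtain ⟨m, hm⟩ : Odd (3 ^ k) := Odd.pow (by decide)
  have h : ((x : D.QX) * x) ^ (m + 1) = x := by
    rw [← pow_two, ← pow_mul, show 2 * (m + 1) = 3 ^ k + 1 by omega, pow_succ, hx, one_mul]
  rw [← h]
  refine pow_mem ((τ.mem_Jb_iff (x * x)).mpr ⟨?_, fun i => ?_⟩) _
  · rw [(τ.coords_mul x x).1, h1, one_mul]
  · rw [(τ.coords_mul x x).2.1, h1]
    exact diag_sq _ (τ.sgnv_ne x) i

theorem perm_conj_T (x : D.Hb) (a : Fin 3) :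
    τ.perm (x * ⟨τ.T a, τ.mem a⟩ * x⁻¹) = 1 ∧ τ.sgnv (x * ⟨τ.T a, τ.mem a⟩ * x⁻¹) = dia (τ.perm x a) := by
  have hy : D.ActsX ((x : D.QX) * τ.T a * (x : D.QX)⁻¹) 1 (dia (τ.perm x a)) := by
    obtain ⟨u, e, -⟩ := τ.conj_T x.2 (τ.dec_acts (τ.dec_self x)) a
    rw [e]; exact D.actsX_jb _ (τ.acts _)
  obtain ⟨h1, h2⟩ := D.actsX_unique (τ.dec_acts (τ.dec_self (x * ⟨τ.T a, τ.mem a⟩ * x⁻¹))) hy
  exact ⟨h1, h2⟩

include τ in
theorem pCore_eq : D.Jb = (Cfsg.pCore 3 ↥D.Hb).map D.Hb.subtype := by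
  haveI : Fact (Nat.Prime 3) := ⟨Nat.prime_three⟩
  have hexp : ∀ v : V3, D.jb v ^ (3 ^ 1) = 1 := fun v => by
    rw [pow_one, pow_succ, pow_two, ← D.jb_add, ← D.jb_add, ← D.jb_zero]
    congr 1
    funext j
    exact three_eq_zero (v j)
  refine le_antisymm (fun x hx => ?_) ?_
  · refine ⟨⟨x, D.Jb_le hx⟩, Fitting.le_pCore (N := D.Jb.subgroupOf D.Hb) ?_ ?_ hx, rfl⟩
    · refine ⟨fun y hy g => ?_⟩
      obtain ⟨v, hv⟩ := D.Jb_eq (Subgroup.mem_subgroupOf.mp hy)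
      obtain ⟨σ, ε, -, hg⟩ := D.exists_actsX g.2
      refine Subgroup.mem_subgroupOf.mpr ?_
      simp only [Subgroup.coe_mul, InvMemClass.coe_inv]
      rw [hv, hg]; exact D.jb_mem _
    · intro y
      obtain ⟨v, hv⟩ := D.Jb_eq (Subgroup.mem_subgroupOf.mp y.2)
      exact ⟨1, Subtype.ext (Subtype.ext (by simpa [hv] using hexp v))⟩
  · rintro _ ⟨x, hx, rfl⟩
    have hn : (Cfsg.pCore 3 ↥D.Hb).Normal := Fitting.pCore_normal 3
    have hp1 : τ.perm x = 1 := by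
      refine Equiv.ext fun a => ?_
      let t : D.Hb := ⟨τ.T a, τ.mem a⟩
      have hc : x * t * x⁻¹ * t⁻¹ ∈ Cfsg.pCore 3 ↥D.Hb := by
        rw [show x * t * x⁻¹ * t⁻¹ = x * (t * x⁻¹ * t⁻¹) by group]
        exact mul_mem hx (hn.conj_mem _ (inv_mem hx) t)
      obtain ⟨k, hk⟩ := Fitting.pCore_isPGroup 3 ⟨_, hc⟩
      obtain ⟨c1, c2⟩ := τ.perm_conj_T x a
      obtain ⟨t1, t2, -⟩ := τ.coords_of_dec (x := t) (τ.dec_T a)
      have hti : t⁻¹ = t := inv_eq_of_mul_eq_one_right (Subtype.ext (τ.sq a))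
      have hJ := τ.odd_pow_mem (x := x * t * x⁻¹ * t⁻¹) (k := k) (by
        rw [hti, (τ.coords_mul _ _).1, c1, t1, one_mul]) (by simpa using congrArg (fun y : Cfsg.pCore 3 ↥D.Hb => ((y : D.Hb) : D.QX)) hk)
      have hs := ((τ.mem_Jb_iff _).mp hJ).2
      rw [hti, (τ.coords_mul _ _).2.1, c2, t1, t2] at hs
      exact dia_prod a _ hs
    obtain ⟨k, hk⟩ := Fitting.pCore_isPGroup 3 ⟨_, hx⟩
    exact τ.odd_pow_mem hp1 (k := k) (by simpa using congrArg (fun y : Cfsg.pCore 3 ↥D.Hb => ((y : D.Hb) : D.QX)) hk)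

/-- If an element interchanges two blocks, the normalizer is everything. -/
theorem top_of_odd {s : D.Hb} (hs : Equiv.Perm.sign (τ.perm s) ≠ 1) : D.Hb = ⊤ := by
  classical
  obtain ⟨r, hr1, hr⟩ := τ.exists_three
  have hperm : ∀ σ, ∃ y : D.Hb, τ.perm y = σ := by
    intro σ
    rcases perm_gen _ _ σ hr1 hr hs with e | e | e | e | e | e
    · exact ⟨1, by rw [e]; exact τ.permHom.map_one⟩
    · exact ⟨r, e.symm⟩
    · exact ⟨r * r, by rw [(τ.coords_mul r r).1, e]⟩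
    · exact ⟨s, e.symm⟩
    · exact ⟨s * r, by rw [(τ.coords_mul s r).1, e]⟩
    · exact ⟨s * (r * r), by rw [(τ.coords_mul _ _).1, (τ.coords_mul r r).1, e]⟩
  have hall : ∀ p : {p : Equiv.Perm (Fin 3) × V3 × V3 // detOne p.1 p.2.1},
      ∃ x : D.Hb, τ.perm x = p.1.1 ∧ τ.sgnv x = p.1.2.1 ∧ τ.trans x = p.1.2.2 := by
    rintro ⟨⟨σ, ε, v⟩, hd⟩
    obtain ⟨y, hy⟩ := hperm σ
    obtain ⟨θ, hθ, he⟩ := det_quot σ ε (τ.sgnv y) hd (hy ▸ τ.det_self y)
    obtain ⟨d, hd'⟩ := τ.diag_dec hθ (v + -mon 1 θ (τ.trans y))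
    obtain ⟨d1, d2, d3⟩ := τ.coords_of_dec hd'
    obtain ⟨m1, m2, m3⟩ := τ.coords_mul d y
    refine ⟨d * y, by rw [m1, d1, hy, one_mul], ?_, by rw [m3, d1, d2, d3]; abel⟩
    rw [m2, d2, hy]; exact he
  choose f hf using hall
  have hfi : Function.Injective f := by
    intro p q e
    obtain ⟨a1, a2, a3⟩ := hf p
    obtain ⟨b1, b2, b3⟩ := hf q
    rw [e] at a1 a2 a3
    exact Subtype.ext (Prod.ext (a1.symm.trans b1) (Prod.ext (a2.symm.trans b2) (a3.symm.trans b3)))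
  have h648 : Nat.card NineNormalizer.W ≤ Nat.card D.Hb := by
    rw [NineNormalizer.card_W, ← card_triples, ← Fintype.card_subtype, ← Nat.card_eq_fintype_card]
    exact Nat.card_le_card_of_injective f hfi
  have hbij : Function.Bijective τ.toW := (Nat.bijective_iff_injective_and_card _).mpr
    ⟨τ.toW_injective, le_antisymm (Nat.card_le_card_of_injective _ τ.toW_injective) h648⟩
  refine Cfsg.Agent.S3702.result D.Hb ⟨MulEquiv.ofBijective τ.toW hbij⟩ D.Jb τ.pCore_eq ?_ ⟨D.Jb_le, ?_⟩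
  · intro j hj hj1 x hx
    obtain ⟨v, rfl⟩ := D.Jb_eq hj
    exact D.cent_jb (fun e => hj1 (by rw [e, D.jb_zero])) (Subgroup.mem_centralizer_singleton_iff.mp hx)
  · intro x hx g hg
    obtain ⟨v, rfl⟩ := D.Jb_eq hx
    exact D.jb_closed hg

section Even

variable (hev : ∀ x : D.Hb, Equiv.Perm.sign (τ.perm x) = 1)
include hev

/-- An element moving the blocks has cube in the image of `J` and fixes a nonzero vector. -/
theorem exists_fixed {x : D.Hb} (hx : τ.perm x ≠ 1) {k : ℕ} (hk : (x : D.QX) ^ (3 ^ k) = 1) :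
    ∃ u : V3, u ≠ 0 ∧ (x : D.QX) * D.jb u = D.jb u * x := by
  have hA := τ.dec_acts (τ.dec_self x)
  have h3 : ((x * x * x : D.Hb) : D.QX) ∈ D.Jb := τ.odd_pow_mem (k := k)
    (by rw [(τ.coords_mul _ _).1, (τ.coords_mul x x).1]; exact (even_comm _ _ (hev x) (hev x)).2.1)
    (by
      simp only [Subgroup.coe_mul]
      rw [← pow_two, ← pow_succ, ← pow_mul, mul_comm, pow_mul, hk, one_pow])
  obtain ⟨w, hw⟩ := D.Jb_eq h3
  have hm : ∀ i : Fin 3, mon (τ.perm x) (τ.sgnv x) (mon (τ.perm x) (τ.sgnv x) (mon (τ.perm x) (τ.sgnv x) (ev i))) =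
      ev i := fun i => D.jb_inj (by
    rw [← hA.2, ← hA.2, ← hA.2]
    simp only [Subgroup.coe_mul] at hw
    calc _ = ((x : D.QX) * x * x) * D.jb (ev i) * ((x : D.QX) * x * x)⁻¹ := by group
      _ = _ := by rw [hw, D.jb_comm, mul_inv_cancel_right])
  obtain ⟨u, hu, he⟩ := (cyc_fixed _ _ (τ.sgnv_ne x) hm hx).1
  refine ⟨u, hu, ?_⟩
  have := hA.2 u
  rw [he] at this
  exact mul_inv_eq_iff_eq_mul.mp this

theorem cent_nine {y : D.Hb} (hy : τ.perm y ≠ 1) {t : D.QX} (ht : t ∈ D.Hb) (hc : t * y = y * t) :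
    t ^ 9 = 1 := by
  let t' : D.Hb := ⟨t, ht⟩
  have hty : t' * y = y * t' := Subtype.ext hc
  have he : ∀ i, τ.sgnv y (τ.perm t' i) * τ.sgnv t' i = τ.sgnv t' (τ.perm y i) * τ.sgnv y i := fun i => by
    have h1 := congrFun (τ.coords_mul y t').2.1 i
    have h2 := congrFun (τ.coords_mul t' y).2.1 i
    rw [← h1, ← h2, hty]
  have hm := cycle_cent _ _ _ _ hy (hev y) (hev t') (τ.det_self y) (τ.det_self t') he
  have hA := τ.dec_acts (τ.dec_self t')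
  have h3 : ((t' * t' * t' : D.Hb) : D.QX) ∈ D.Jb := by
    refine D.mem_Jb_of_comm (t' * t' * t').2 fun v => mul_inv_eq_iff_eq_mul.mp ?_
    simp only [Subgroup.coe_mul]
    have hstep : ∀ w, t * t * t * D.jb w * (t * t * t)⁻¹ =
        D.jb (mon (τ.perm t') (τ.sgnv t') (mon (τ.perm t') (τ.sgnv t') (mon (τ.perm t') (τ.sgnv t') w))) :=
      fun w => by rw [← hA.2, ← hA.2, ← hA.2]; show _ = t * (t * (t * _ * t⁻¹) * t⁻¹) * t⁻¹; group
    show t * t * t * D.jb v * (t * t * t)⁻¹ = D.jb v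
    rw [hstep]
    congr 1
    conv_lhs => rw [mon_eval]
    conv_rhs => rw [ev_decomp v]
    have hl : ∀ σ : Equiv.Perm (Fin 3), ∀ θ : V3, ∀ a b c : ℕ, ∀ x y z : V3,
        mon σ θ (a • x + b • y + c • z) = a • mon σ θ x + b • mon σ θ y + c • mon σ θ z := by
      intro σ θ a b c x y z; funext k; simp [mon, mul_add, mul_left_comm]
    rw [← mon_eval]
    conv_lhs => rw [ev_decomp v]
    rw [hl, hl, hl, hm, hm, hm]
  obtain ⟨w, hw⟩ := D.Jb_eq h3
  simp only [Subgroup.coe_mul] at hw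
  rw [show (9 : ℕ) = 3 * 3 from rfl, pow_mul, pow_succ t 2, pow_two, hw, pow_succ, pow_two, ← D.jb_add, ← D.jb_add,
    ← D.jb_zero]
  congr 1
  funext j
  exact three_eq_zero (w j)

/-- Conjugacy of three-elements of `Hb` is controlled by `Hb`. -/
theorem fusion_three {x y : D.Hb} {k : ℕ} (hk : (x : D.QX) ^ (3 ^ k) = 1) {g : D.QX}
    (hg : g * x * g⁻¹ = (y : D.QX)) : ∃ n ∈ D.Hb, n * (x : D.QX) * n⁻¹ = y := by
  haveI : Fact (Nat.Prime 3) := ⟨Nat.prime_three⟩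
  by_cases hxJ : (x : D.QX) ∈ D.Jb
  · obtain ⟨v, hv⟩ := D.Jb_eq hxJ
    by_cases hv0 : v = 0
    · refine ⟨1, one_mem _, ?_⟩
      rw [← hg, hv, hv0, D.jb_zero]; group
    · exact ⟨g, D.conj_mem hv0 (by rw [← hv, hg]; exact y.2), hg⟩
  have hky : (y : D.QX) ^ (3 ^ k) = 1 := by rw [← hg, conj_pow, hk, mul_one, mul_inv_cancel]
  have hx1 : τ.perm x ≠ 1 := fun e => hxJ (τ.odd_pow_mem e hk)
  have hy1 : τ.perm y ≠ 1 := fun e => hxJ (by
    obtain ⟨w, hw⟩ := D.Jb_eq (τ.odd_pow_mem e hky)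
    have hxe : (x : D.QX) = g⁻¹ * D.jb w * g⁻¹⁻¹ := by rw [← hw, ← hg]; group
    rw [hxe]
    exact D.jb_closed (hxe ▸ x.2))
  obtain ⟨u, hu, hxu⟩ := τ.exists_fixed hev hx1 hk
  obtain ⟨u', hu', hyu⟩ := τ.exists_fixed hev hy1 hky
  set C := Subgroup.centralizer ({(y : D.QX)} : Set D.QX) with hC
  set T := C ⊓ D.Hb with hT
  have hTp : IsPGroup 3 (T.subgroupOf C) := fun t =>
    ⟨2, Subtype.ext (Subtype.ext (τ.cent_nine hev hy1 t.2.2 (Subgroup.mem_centralizer_singleton_iff.mp t.1.2)))⟩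
  obtain ⟨S, hS⟩ := hTp.exists_le_sylow
  have hz : D.jb u' ∈ T := ⟨Subgroup.mem_centralizer_singleton_iff.mpr hyu.symm, D.jb_Hb u'⟩
  have hSeq : (S : Subgroup C) = T.subgroupOf C := by
    refine le_antisymm (fun s hs => ?_) hS
    by_contra hns
    have hlt : T.subgroupOf C < (S : Subgroup C) := lt_of_le_of_ne hS fun h => hns (h ▸ hs)
    haveI := S.2.isNilpotent
    obtain ⟨⟨r, hrS⟩, hr, hrn⟩ := SetLike.exists_of_lt (Group.normalizerCondition_of_isNilpotent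
      ((T.subgroupOf C).subgroupOf (S : Subgroup C))
      (lt_top_iff_ne_top.mpr fun h => hlt.not_ge (Subgroup.subgroupOf_eq_top.mp h)))
    rw [Subgroup.mem_subgroupOf] at hrn
    have hzz : (⟨_, hz.1⟩ : C) ∈ T.subgroupOf C := Subgroup.mem_subgroupOf.mpr hz
    have hzr := Subgroup.mem_subgroupOf.mp ((Subgroup.mem_normalizer_iff.mp hr
      ⟨⟨_, hz.1⟩, hS hzz⟩).mp (Subgroup.mem_subgroupOf.mpr hzz))
    exact hrn (Subgroup.mem_subgroupOf.mpr ⟨r.2, D.conj_mem hu' (Subgroup.mem_subgroupOf.mp hzr).2⟩)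
  have hxu' : D.jb u * (x : D.QX) = x * D.jb u := hxu.symm
  have hgz : g * D.jb u * g⁻¹ ∈ C := Subgroup.mem_centralizer_singleton_iff.mpr (by
    rw [← hg]
    calc g * D.jb u * g⁻¹ * (g * (x : D.QX) * g⁻¹) = g * (D.jb u * x) * g⁻¹ := by group
      _ = g * ((x : D.QX) * D.jb u) * g⁻¹ := by rw [hxu']
      _ = _ := by group)
  have hzp : IsPGroup 3 (Subgroup.zpowers (⟨_, hgz⟩ : C)) := by
    rintro ⟨_, m, rfl⟩
    refine ⟨1, Subtype.ext ?_⟩
    show ((⟨_, hgz⟩ : C) ^ m) ^ (3 ^ 1 : ℕ) = 1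
    rw [← zpow_natCast, ← zpow_mul, mul_comm, zpow_mul, zpow_natCast,
      show (⟨_, hgz⟩ : C) ^ (3 ^ 1 : ℕ) = 1 from Subtype.ext (by
        show (g * D.jb u * g⁻¹) ^ (3 ^ 1 : ℕ) = 1
        rw [conj_pow, show D.jb u ^ (3 ^ 1 : ℕ) = 1 by
          rw [pow_one, pow_succ, pow_two, ← D.jb_add, ← D.jb_add, ← D.jb_zero]
          congr 1
          funext j
          exact three_eq_zero (u j), mul_one, mul_inv_cancel]), one_zpow]
  obtain ⟨S', hS'⟩ := hzp.exists_le_sylow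
  obtain ⟨c, hc'⟩ := MulAction.exists_smul_eq C S' S
  have hmem : c * ⟨_, hgz⟩ * c⁻¹ ∈ (S : Subgroup C) := by
    rw [← hc']
    exact ⟨⟨_, hgz⟩, hS' (Subgroup.mem_zpowers _), rfl⟩
  rw [hSeq, Subgroup.mem_subgroupOf] at hmem
  refine ⟨(c : D.QX) * g, D.conj_mem hu ?_, ?_⟩
  · rw [show (c : D.QX) * g * D.jb u * ((c : D.QX) * g)⁻¹ = (c : D.QX) * (g * D.jb u * g⁻¹) * (c : D.QX)⁻¹ by group]
    exact hmem.2
  · calc (c : D.QX) * g * x * ((c : D.QX) * g)⁻¹ = (c : D.QX) * (g * x * g⁻¹) * (c : D.QX)⁻¹ := by group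
      _ = y * c * (c : D.QX)⁻¹ := by rw [hg, Subgroup.mem_centralizer_singleton_iff.mp c.2]
      _ = y := mul_inv_cancel_right _ _

/-- The derived group meets `Hb` in the elements fixing the blocks. -/
theorem perm_of_commutator {x : D.Hb} (hx : (x : D.QX) ∈ commutator D.QX) : τ.perm x = 1 := by
  haveI : Fact (Nat.Prime 3) := ⟨Nat.prime_three⟩
  let P0 : Sylow 3 D.Hb := default
  have hnine : ∀ y : D.Hb, (y : D.QX) ^ (2 * 9) = 1 := by
    intro y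
    let c : D.Hb := y ^ 3
    have hc : τ.perm c = 1 := by
      show τ.permHom (y ^ 3) = 1
      rw [map_pow, pow_succ, pow_two]
      exact (even_comm _ _ (hev y) (hev y)).2.1
    have hcc : ((c * c : D.Hb) : D.QX) ∈ D.Jb := (τ.mem_Jb_iff _).mpr ⟨by rw [(τ.coords_mul c c).1, hc, one_mul],
      fun i => by rw [(τ.coords_mul c c).2.1, hc]; exact diag_sq _ (τ.sgnv_ne c) i⟩
    obtain ⟨w, hw⟩ := D.Jb_eq hcc
    simp only [c, Subgroup.coe_mul, SubmonoidClass.coe_pow, ← pow_add] at hw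
    rw [show 2 * 9 = (3 + 3) * 3 from rfl, pow_mul, hw, pow_succ, pow_two, ← D.jb_add, ← D.jb_add, ← D.jb_zero]
    congr 1
    funext j
    exact three_eq_zero (w j)
  have hJP : D.Jb.subgroupOf D.Hb ≤ (P0 : Subgroup D.Hb) := by
    refine le_trans ?_ (le_sylow_of_normal P0 (Fitting.pCore_normal 3) (Fitting.pCore_isPGroup 3))
    intro y hy
    have : (y : D.QX) ∈ (Cfsg.pCore 3 ↥D.Hb).map D.Hb.subtype := τ.pCore_eq ▸ hy
    obtain ⟨y', hy', e⟩ := this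
    exact (Subtype.ext e : y' = y) ▸ hy'
  set P : Subgroup D.QX := (P0 : Subgroup D.Hb).map D.Hb.subtype with hP
  have hPH : P ≤ D.Hb := Subgroup.map_subtype_le _
  obtain ⟨a, ha⟩ : ∃ a : V3, a ≠ 0 := ⟨ev 0, ev_ne 0⟩
  have hmax : ∀ Q : Subgroup D.QX, IsPGroup 3 Q → P ≤ Q → Q = P := by
    intro Q hQ hle
    by_contra hne
    haveI := hQ.isNilpotent
    obtain ⟨⟨r, hrQ⟩, hr, hrn⟩ := SetLike.exists_of_lt
      (Group.normalizerCondition_of_isNilpotent (P.subgroupOf Q) (lt_top_iff_ne_top.mpr fun h =>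
        hne (le_antisymm (Subgroup.subgroupOf_eq_top.mp h) hle)))
    rw [Subgroup.mem_subgroupOf] at hrn
    have haP : D.jb a ∈ P := ⟨⟨_, D.jb_Hb a⟩, hJP (Subgroup.mem_subgroupOf.mpr (D.jb_mem a)), rfl⟩
    have hrH : r ∈ D.Hb := D.conj_mem ha (hPH (Subgroup.mem_subgroupOf.mp
      ((Subgroup.mem_normalizer_iff.mp hr ⟨_, hle haP⟩).mp (Subgroup.mem_subgroupOf.mpr haP))))
    have h0 : Q.subgroupOf D.Hb = (P0 : Subgroup D.Hb) := P0.is_maximal'
      (hQ.comap_of_injective _ D.Hb.subtype_injective) fun p hp => hle ⟨p, hp, rfl⟩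
    exact hrn ⟨⟨r, hrH⟩, h0 ▸ Subgroup.mem_subgroupOf.mpr hrQ, rfl⟩
  let SP : Sylow 3 D.QX := ⟨P, P0.2.map _, fun hQ hle => hmax _ hQ hle⟩
  have hfocal := CfsgLib.Transfer.commutator_inf_sylow_eq_of_controls SP (N := D.Hb) hPH fun p hp g hg => by
    obtain ⟨k, hk⟩ := SP.2 ⟨p, hp⟩
    exact τ.fusion_three hev (x := ⟨p, hPH hp⟩) (y := ⟨_, hPH hg⟩) (k := k) (congrArg Subtype.val hk) rfl
  have hker : ⁅D.Hb, D.Hb⁆ ≤ τ.permHom.ker.map D.Hb.subtype := by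
    rw [Subgroup.commutator_le]
    intro p hp q hq
    refine ⟨⁅(⟨p, hp⟩ : D.Hb), ⟨q, hq⟩⁆, ?_, map_commutatorElement D.Hb.subtype _ _⟩
    rw [SetLike.mem_coe, MonoidHom.mem_ker, map_commutatorElement, commutatorElement_eq_one_iff_mul_comm]
    exact (even_comm _ _ (hev _) (hev _)).1
  by_contra hne
  let x2 : D.Hb := x * x
  have hx2 : τ.perm x2 ≠ 1 := fun e => hne ((even_comm _ _ (hev x) (hev x)).2.2 (by rwa [(τ.coords_mul x x).1] at e))
  have h9 : (x2 : D.QX) ^ (3 ^ 2) = 1 := by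
    show ((x : D.QX) * x) ^ (3 ^ 2) = 1
    rw [← pow_two, ← pow_mul]; exact hnine x
  have hzp : IsPGroup 3 (Subgroup.zpowers x2) := by
    rintro ⟨_, m, rfl⟩
    refine ⟨2, Subtype.ext ?_⟩
    show (x2 ^ m) ^ (3 ^ 2 : ℕ) = 1
    rw [← zpow_natCast, ← zpow_mul, mul_comm, zpow_mul, zpow_natCast,
      show x2 ^ (3 ^ 2 : ℕ) = 1 from Subtype.ext (by simpa using h9), one_zpow]
  obtain ⟨S', hS'⟩ := hzp.exists_le_sylow
  obtain ⟨h, hh⟩ := MulAction.exists_smul_eq D.Hb S' P0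
  have hmem : h * x2 * h⁻¹ ∈ (P0 : Subgroup D.Hb) := by
    rw [← hh]
    exact ⟨x2, hS' (Subgroup.mem_zpowers _), rfl⟩
  have hinf : ((h * x2 * h⁻¹ : D.Hb) : D.QX) ∈ commutator D.QX ⊓ (SP : Subgroup D.QX) := by
    refine ⟨?_, ⟨_, hmem, rfl⟩⟩
    simp only [Subgroup.coe_mul, InvMemClass.coe_inv, x2]
    exact (inferInstance : (commutator D.QX).Normal).conj_mem _ (mul_mem hx hx) _
  rw [hfocal] at hinf
  obtain ⟨w, hw, e⟩ := hker hinf.1
  rw [show w = h * x2 * h⁻¹ from Subtype.ext e, SetLike.mem_coe, MonoidHom.mem_ker, map_mul, map_mul, map_inv] at hw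
  exact hx2 (conj_sq _ _ hw)

/-- If no element interchanges two blocks, the normalizer is everything. -/
theorem top_of_even : D.Hb = ⊤ := by
  set L := commutator D.QX with hL
  have hcomm : ∀ g h : D.QX, g * h * g⁻¹ * h⁻¹ ∈ L := fun g h => by
    rw [← commutatorElement_def]
    exact Subgroup.commutator_mem_commutator (Subgroup.mem_top g) (Subgroup.mem_top h)
  have hev' : ∀ a j : Fin 3, j ≠ a → mon 1 (dia a) (ev j) + -ev j = ev j := by decide +kernel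
  have hjev : ∀ j, D.jb (ev j) ∈ L := fun j => by
    obtain ⟨a, ha⟩ : ∃ a : Fin 3, j ≠ a := by revert j; decide
    rw [← hev' a j ha, D.jb_add, D.jb_neg, ← (τ.acts a).2]
    exact hcomm _ _
  have hjL : ∀ v, D.jb v ∈ L := by
    have hpow : ∀ (n : ℕ) (j : Fin 3), D.jb (n • ev j) ∈ L := by
      intro n j
      induction n with
      | zero => rw [zero_smul, D.jb_zero]; exact one_mem _
      | succ n ih => rw [succ_nsmul, D.jb_add]; exact mul_mem ih (hjev j)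
    intro v
    rw [ev_decomp v, D.jb_add, D.jb_add]
    exact mul_mem (mul_mem (hpow _ _) (hpow _ _)) (hpow _ _)
  obtain ⟨r, hr1, hr⟩ := τ.exists_three
  have hTL : ∀ i, τ.T i ∈ L := by
    intro i
    let a := τ.perm r i
    let t : D.Hb := ⟨τ.T a, τ.mem a⟩
    let c : D.Hb := r * t * r⁻¹ * t⁻¹
    obtain ⟨c1, c2⟩ := τ.perm_conj_T r a
    obtain ⟨t1, t2, -⟩ := τ.coords_of_dec (x := t) (τ.dec_T a)
    obtain ⟨i1, i2, -⟩ := τ.coords_of_dec (x := (⟨τ.T i, τ.mem i⟩ : D.Hb)) (τ.dec_T i)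
    have hti : t⁻¹ = t := inv_eq_of_mul_eq_one_right (Subtype.ext (τ.sq a))
    have hJ : ((c * ⟨τ.T i, τ.mem i⟩ : D.Hb) : D.QX) ∈ D.Jb := (τ.mem_Jb_iff _).mpr
      ⟨by rw [(τ.coords_mul _ _).1, i1, mul_one]
          show τ.perm (r * t * r⁻¹ * t⁻¹) = 1
          rw [hti, (τ.coords_mul _ _).1, c1, t1, one_mul],
        fun k => by
          rw [(τ.coords_mul _ _).2.1, i1, i2]
          show τ.sgnv (r * t * r⁻¹ * t⁻¹) _ * _ = 1
          rw [hti, (τ.coords_mul _ _).2.1, c2, t1, t2]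
          exact dia_cycle _ hr hr1 i k⟩
    obtain ⟨v, hv⟩ := D.Jb_eq hJ
    rw [show τ.T i = (c : D.QX)⁻¹ * D.jb v from eq_inv_mul_iff_mul_eq.mpr hv]
    refine mul_mem (inv_mem ?_) (hjL v)
    simp only [c, t, Subgroup.coe_mul, InvMemClass.coe_inv]
    exact hcomm _ _
  have hHL : ∀ x : D.Hb, τ.perm x = 1 → (x : D.QX) ∈ L := by
    intro x hx
    obtain ⟨k, e, hk, hkA, -⟩ := τ.dec_self x
    have hd : detOne 1 (τ.sgnv x) := hx ▸ τ.det_self x
    rcases det_diag _ hd with h | ⟨i, hi⟩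
    · obtain ⟨v, hv⟩ := D.Jb_eq ((τ.mem_Jb_iff x).mpr ⟨hx, h⟩)
      rw [hv]; exact hjL v
    · have hJ : ((x * ⟨τ.T i, τ.mem i⟩ : D.Hb) : D.QX) ∈ D.Jb := by
        obtain ⟨i1, i2, -⟩ := τ.coords_of_dec (x := (⟨τ.T i, τ.mem i⟩ : D.Hb)) (τ.dec_T i)
        refine (τ.mem_Jb_iff _).mpr ⟨by rw [(τ.coords_mul _ _).1, hx, i1, one_mul], fun j => ?_⟩
        rw [(τ.coords_mul _ _).2.1, i1, i2, hi]
        exact diag_sq _ (dia_ne i) j
      obtain ⟨v, hv⟩ := D.Jb_eq hJ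
      rw [show (x : D.QX) = D.jb v * (τ.T i)⁻¹ by rw [← hv, Subgroup.coe_mul, mul_inv_cancel_right]]
      exact mul_mem (hjL v) (inv_mem (hTL i))
  let r0 : D.Hb.subgroupOf L →* D.Hb :=
    { toFun := fun x => ⟨((x : L) : D.QX), x.2⟩
      map_one' := rfl
      map_mul' := fun _ _ => rfl }
  have hp : ∀ x, τ.perm (r0 x) = 1 := fun x => τ.perm_of_commutator hev (x : L).2
  let Φ : D.Hb.subgroupOf L →* ThreeCubedTI.P3 :=
    MonoidHom.mk' (fun x i => lineMap (τ.sgnv (r0 x) i) (τ.trans (r0 x) i)) fun x y => funext fun i => by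
      rw [map_mul]
      obtain ⟨-, h2, h3⟩ := τ.coords_mul (r0 x) (r0 y)
      rw [h2, h3, hp x, hp y]
      exact lineMap_mul _ _ _ _ (τ.sgnv_ne _ _) (τ.sgnv_ne _ _)
  have hrot : ∀ x, ThreeCubedTI.Rot (Φ x) ↔ ((x : L) : D.QX) ∈ D.Jb := by
    intro x
    refine ⟨fun h => (τ.mem_Jb_iff (r0 x)).mpr ⟨hp x, fun i => (lineMap_sign _ _ (τ.sgnv_ne _ _)).mp (h i)⟩,
      fun h i => (lineMap_sign _ _ (τ.sgnv_ne _ _)).mpr (((τ.mem_Jb_iff (r0 x)).mp h).2 i)⟩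
  have DD : ThreeCubedTI.Data (D.Hb.subgroupOf L) (D.Jb.subgroupOf L) Φ := by
    refine ⟨?_, fun x => ?_, ?_, fun x hx => Subgroup.mem_subgroupOf.mpr (D.Jb_le (Subgroup.mem_subgroupOf.mp hx)),
      fun x => (hrot x).symm, ?_, ?_⟩
    · refine (injective_iff_map_eq_one _).mpr fun x hx => ?_
      have h23 := fun i => lineMap_inj _ 1 _ 0 (τ.sgnv_ne (r0 x) i) (by decide) (by
        refine (congrFun hx i).trans ?_
        exact lineMap_one.symm)
      have h := τ.eq_one_of_coords (hp x) (fun i => (h23 i).1) (funext fun i => (h23 i).2)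
      exact Subtype.ext (Subtype.ext (congrArg Subtype.val h :))
    · refine (lineMap_ev _ _ _ (τ.sgnv_ne _ _) (τ.sgnv_ne _ _) (τ.sgnv_ne _ _) _ _ _).mpr ?_
      have hd : detOne 1 (τ.sgnv (r0 x)) := (hp x) ▸ τ.det_self (r0 x)
      have h := hd.2
      rwa [sgn3_one, one_mul] at h
    · intro f hf
      choose e a he hea using fun i => lineMap_cases (f i)
      have hd : detOne 1 e := ⟨he, by
        rw [sgn3_one, one_mul]
        refine (lineMap_ev _ _ _ (he 0) (he 1) (he 2) (a 0) (a 1) (a 2)).mp ?_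
        rw [hea, hea, hea]; exact hf⟩
      obtain ⟨x, hx⟩ := τ.diag_dec hd a
      obtain ⟨x1, x2, x3⟩ := τ.coords_of_dec hx
      refine ⟨⟨⟨x, hHL x x1⟩, Subgroup.mem_subgroupOf.mpr x.2⟩, funext fun i => ?_⟩
      show lineMap (τ.sgnv x i) (τ.trans x i) = f i
      rw [x2, x3, hea]
    · refine le_antisymm (fun g hg => ?_) (fun g hg => ?_)
      · have h0 := ev_ne 0
        refine Subgroup.mem_subgroupOf.mpr (D.conj_mem h0 (D.Jb_le ?_))
        exact Subgroup.mem_subgroupOf.mp ((Subgroup.mem_normalizer_iff.mp hg ⟨_, hjL (ev 0)⟩).mp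
          (Subgroup.mem_subgroupOf.mpr (D.jb_mem _)))
      · rw [Subgroup.mem_subgroupOf, ← D.norm_Jb] at hg
        refine Subgroup.mem_normalizer_iff.mpr fun x => ?_
        simp only [Subgroup.mem_subgroupOf, Subgroup.coe_mul, InvMemClass.coe_inv]
        exact Subgroup.mem_normalizer_iff.mp hg x
    · intro t ht ht1 g hg
      obtain ⟨v, hv⟩ := D.Jb_eq (Subgroup.mem_subgroupOf.mp ht)
      refine Subgroup.mem_subgroupOf.mpr (D.cent_jb (v := v) (fun e => ht1 (Subtype.ext ?_)) ?_)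
      · rw [hv, e, D.jb_zero]; rfl
      · rw [← hv]
        exact congrArg Subtype.val (Subgroup.mem_centralizer_singleton_iff.mp hg)
  have hLH : L ≤ D.Hb := Subgroup.subgroupOf_eq_top.mp DD.eq_top
  refine eq_top_iff.mpr fun g _ => D.conj_mem (v := ev 0) (ev_ne 0) (hLH ?_)
  exact (inferInstance : (commutator D.QX).Normal).conj_mem _ (hjL _) g

end Even

end Tri

theorem Hb_eq_top (D : Data H) : D.Hb = ⊤ := by
  obtain ⟨τ⟩ := D.nonempty_tri
  by_cases h : ∀ x : D.Hb, Equiv.Perm.sign (τ.perm x) = 1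
  · exact τ.top_of_even h
  · push Not at h
    obtain ⟨s, hs⟩ := h
    exact τ.top_of_odd hs

/-- The centralizer of `q0` normalizes `J`. -/
theorem cent_q0 (D : Data H) {x : G} (hx : x * D.F.φ q0 = D.F.φ q0 * x) : x ∈ H.NJ :=
  (D.mem_Hb (x := ⟨x, D.mem_C0.mpr hx⟩)).mp (D.Hb_eq_top ▸ Subgroup.mem_top _)

end Data

end CfsgLib.McLThree
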