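import Cfsg.Agent.S2073
import Cfsg.Agent.Lib.Leech.Sub.Pairs
import Cfsg.Agent.Lib.NonQS.InLayer
import Cfsg.Prelude.Def_Sporadic

/-!
# The McLaughlin group is simple, and is the generalized Fitting subgroup of its automorphism group
-/

set_option autoImplicit false
set_option linter.unusedSectionVars false

namespace CfsgLib.McLThree

open scoped commutatorElement
open CfsgLib.Golay CfsgLib.Leech CfsgLib.Leech.OutPair CfsgLib.Leech.Mult Cfsg

theorem mcl_isMcL : Cfsg.IsMcL ↥Cfsg.Spor.McL := by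
  obtain ⟨e⟩ := Cfsg.Agent.S2073.exists_equiv
  have hV := Cfsg.Agent.S2073.facts.1
  have hW := Cfsg.Agent.S2073.facts.2.1
  obtain ⟨hs, hc⟩ := isMcL_pair ((sqNorm_vec (inL_length hV)).trans Cfsg.Agent.S2073.facts.2.2.1)
      ((sqNorm_vec (inL_length hW)).trans Cfsg.Agent.S2073.facts.2.2.2.1)
      ((dotInt_vec (inL_length hV) (inL_length hW)).trans Cfsg.Agent.S2073.facts.2.2.2.2)
      (v := ⟨vec mclCert.V, vec_mem hV⟩) (w := ⟨vec mclCert.W, vec_mem hW⟩)
  let f : ↥(MulAction.stabilizer ↥Co0 (⟨vec mclCert.V, vec_mem hV⟩ : ↥leechLattice) ⊓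
      MulAction.stabilizer ↥Co0 (⟨vec mclCert.W, vec_mem hW⟩ : ↥leechLattice)) ≃* ↥(pairG hV hW) :=
    { toFun := fun g => ⟨⟨g.1, g.2.1⟩, g.2.2⟩
      invFun := fun g => ⟨g.1.1, g.1.2, g.2⟩
      left_inv := fun _ => rfl
      right_inv := fun _ => rfl
      map_mul' := fun _ _ => rfl }
  haveI := hs
  exact ⟨(f.trans e).symm.isSimpleGroup, (Nat.card_congr (f.trans e).toEquiv).symm.trans hc⟩

theorem mcl_simple : IsSimpleGroup ↥Cfsg.Spor.McL := mcl_isMcL.1

theorem mcl_center : Subgroup.center ↥Cfsg.Spor.McL = ⊥ := by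
  haveI := mcl_simple
  refine (Subgroup.center ↥Cfsg.Spor.McL).normal_of_characteristic.eq_bot_or_eq_top.resolve_right fun h => ?_
  letI : CommGroup ↥Cfsg.Spor.McL :=
    { (inferInstance : Group ↥Cfsg.Spor.McL) with
      mul_comm := fun a b => Subgroup.mem_center_iff.mp (h ▸ Subgroup.mem_top b) a }
  have hp := IsSimpleGroup.prime_card (α := ↥Cfsg.Spor.McL)
  rw [mcl_isMcL.2] at hp
  norm_num at hp

theorem mcl_quasisimple : Cfsg.IsQuasisimple ↥Cfsg.Spor.McL := by
  haveI := mcl_simple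
  haveI : Nontrivial ↥Cfsg.Spor.McL := IsSimpleGroup.toNontrivial
  haveI : Group.IsPerfect ↥Cfsg.Spor.McL := ⟨by
    refine (commutator ↥Cfsg.Spor.McL).normal_of_characteristic.eq_bot_or_eq_top.resolve_left fun h => ?_
    have : (⊤ : Subgroup ↥Cfsg.Spor.McL) ≤ Subgroup.center ↥Cfsg.Spor.McL := fun a _ =>
      Subgroup.mem_center_iff.mpr fun b => by
        have hab : ⁅b, a⁆ ∈ commutator ↥Cfsg.Spor.McL :=
          Subgroup.commutator_mem_commutator (Subgroup.mem_top b) (Subgroup.mem_top a)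
        rw [h, Subgroup.mem_bot] at hab
        exact commutatorElement_eq_one_iff_mul_comm.mp hab
    rw [mcl_center, le_bot_iff] at this
    exact top_ne_bot this⟩
  exact CfsgLib.Layer.isQuasisimple_of_normal_le_center (X := ↥Cfsg.Spor.McL)
    fun N hN => (IsSimpleGroup.eq_bot_or_eq_top_of_normal N hN).symm.imp id fun h => h.le.trans bot_le

theorem fstar_mcl : Cfsg.generalizedFittingSubgroup ↥Cfsg.Spor.McL = ⊤ := by
  haveI := mcl_simple
  haveI : Finite ↥Cfsg.Spor.McL := Nat.finite_of_card_ne_zero (by rw [mcl_isMcL.2]; norm_num)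
  refine (IsSimpleGroup.eq_bot_or_eq_top_of_normal _ CfsgLib.Layer.generalizedFitting_normal).resolve_left fun h => ?_
  have := CfsgLib.Layer.centralizer_generalizedFitting_le (G := ↥Cfsg.Spor.McL)
  rw [h, Subgroup.centralizer_eq_top_iff_subset.mpr (by simp), le_bot_iff] at this
  exact top_ne_bot this

end CfsgLib.McLThree
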