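import Cfsg.Agent.Lib.McLThree.Basic
import Cfsg.Agent.Lib.Layer.CharP
import Cfsg.Agent.Lib.Critical.Basic

/-!
# The centralizer condition on `O₃(C(Z))` and on `O₃(C(x))`
-/

set_option autoImplicit false
set_option linter.unusedSectionVars false

open scoped Pointwise

namespace CfsgLib.McLThree

variable {G : Type*} [Group G]

/-- The three-core of a subgroup, as a subgroup. -/
def coreThree (K : Subgroup G) : Subgroup G := (Cfsg.pCore 3 K).map K.subtype

/-- `C(O₃(K)) ≤ O₃(K)`. -/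
def CoreCond (K : Subgroup G) : Prop := Subgroup.centralizer (coreThree K : Set G) ≤ coreThree K

theorem coreThree_map (K : Subgroup G) (g : G) :
    coreThree (K.map (MulAut.conj g).toMonoidHom) = (coreThree K).map (MulAut.conj g).toMonoidHom := by
  rw [coreThree, coreThree]
  erw [← CharCore.map_pCore ((MulAut.conj g).subgroupMap K), Subgroup.map_map, Subgroup.map_map]
  rfl

theorem coreCond_map {K : Subgroup G} (g : G) (h : CoreCond K) :
    CoreCond (K.map (MulAut.conj g).toMonoidHom) := by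
  intro y hy
  rw [coreThree_map] at hy ⊢
  refine ⟨g⁻¹ * y * g, h (Subgroup.mem_centralizer_iff.mpr fun x hx => ?_), ?_⟩
  · have := Subgroup.mem_centralizer_iff.mp hy (g * x * g⁻¹) ⟨x, hx, rfl⟩
    calc x * (g⁻¹ * y * g) = g⁻¹ * (g * x * g⁻¹ * y) * g := by group
      _ = g⁻¹ * (y * (g * x * g⁻¹)) * g := by rw [this]
      _ = _ := by group
  · show g * (g⁻¹ * y * g) * g⁻¹ = y
    group

theorem map_centralizer_singleton (g x : G) :
    (Subgroup.centralizer ({x} : Set G)).map (MulAut.conj g).toMonoidHom =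
      Subgroup.centralizer ({g * x * g⁻¹} : Set G) := by
  ext y
  rw [Subgroup.mem_map, Subgroup.mem_centralizer_singleton_iff]
  constructor
  · rintro ⟨w, hw, rfl⟩
    rw [Subgroup.mem_centralizer_singleton_iff] at hw
    show g * w * g⁻¹ * (g * x * g⁻¹) = g * x * g⁻¹ * (g * w * g⁻¹)
    calc _ = g * (w * x) * g⁻¹ := by group
      _ = g * (x * w) * g⁻¹ := by rw [hw]
      _ = _ := by group
  · intro hy
    refine ⟨g⁻¹ * y * g, Subgroup.mem_centralizer_singleton_iff.mpr ?_, by show g * _ * g⁻¹ = y; group⟩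
    calc g⁻¹ * y * g * x = g⁻¹ * (y * (g * x * g⁻¹)) * g := by group
      _ = g⁻¹ * (g * x * g⁻¹ * y) * g := by rw [hy]
      _ = _ := by group

theorem coreThree_conj_mem {K : Subgroup G} {n : G} (hn : n ∈ Subgroup.normalizer (K : Set G)) {k : G}
    (hk : k ∈ coreThree K) : n * k * n⁻¹ ∈ coreThree K := by
  have e : K.map (MulAut.conj n).toMonoidHom = K := Subgroup.mem_normalizer_iff_map_conj_eq.mp hn
  have h : n * k * n⁻¹ ∈ (coreThree K).map (MulAut.conj n).toMonoidHom := ⟨k, hk, rfl⟩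
  rwa [← coreThree_map, e] at h

variable [Finite G]

/-- The condition at `Z` gives that `O₃(N(Z))` is self-centralizing. -/
theorem cent_core_normalizer (Z : Subgroup G) (h : CoreCond (Subgroup.centralizer (Z : Set G)))
    {Q : Subgroup G} (hQ : Q = coreThree (Subgroup.normalizer (Z : Set G))) :
    Subgroup.centralizer (Q : Set G) ≤ Q := by
  have hCN : Subgroup.centralizer (Z : Set G) ≤ Subgroup.normalizer (Z : Set G) := fun c hc =>
    Subgroup.mem_normalizer_iff.mpr fun m => by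
      constructor
      · intro hm; rw [← Subgroup.mem_centralizer_iff.mp hc m hm, mul_inv_cancel_right]; exact hm
      · intro hm
        have := Subgroup.mem_centralizer_iff.mp hc _ hm
        have e : m = c * m * c⁻¹ := by
          calc m = c⁻¹ * (c * m * c⁻¹ * c) := by group
            _ = c * m * c⁻¹ := by rw [this]; group
        rwa [e]
  have hNC : ∀ n ∈ Subgroup.normalizer (Z : Set G),
      n ∈ Subgroup.normalizer (Subgroup.centralizer (Z : Set G) : Set G) := by
    intro n hn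
    rw [Subgroup.mem_normalizer_iff_map_conj_eq]
    refine Subgroup.eq_of_le_of_card_ge ?_ (le_of_eq
      (Subgroup.card_map_of_injective (f := (MulAut.conj n).toMonoidHom) (MulAut.conj n).injective).symm)
    rintro _ ⟨c, hc, rfl⟩
    refine Subgroup.mem_centralizer_iff.mpr fun m hm => ?_
    have hm' : n⁻¹ * m * n⁻¹⁻¹ ∈ Z := (Subgroup.mem_normalizer_iff.mp (inv_mem hn) m).mp hm
    have := Subgroup.mem_centralizer_iff.mp hc _ hm'
    show m * (n * c * n⁻¹) = n * c * n⁻¹ * m
    calc m * (n * c * n⁻¹) = n * (n⁻¹ * m * n⁻¹⁻¹ * c) * n⁻¹ := by group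
      _ = n * (c * (n⁻¹ * m * n⁻¹⁻¹)) * n⁻¹ := by rw [this]
      _ = _ := by group
  have hOQ : coreThree (Subgroup.centralizer (Z : Set G)) ≤ Q := by
    rw [hQ]
    intro k hk
    have hle : coreThree (Subgroup.centralizer (Z : Set G)) ≤ Subgroup.normalizer (Z : Set G) :=
      (Subgroup.map_subtype_le _).trans hCN
    refine ⟨⟨k, hle hk⟩, ?_, rfl⟩
    haveI : ((coreThree (Subgroup.centralizer (Z : Set G))).subgroupOf (Subgroup.normalizer (Z : Set G))).Normal :=
      ⟨fun y hy x => coreThree_conj_mem (hNC _ x.2) hy⟩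
    exact Fitting.le_pCore inferInstance
      (((Fitting.pCore_isPGroup 3).map _).of_equiv (Subgroup.subgroupOfEquivOfLe hle).symm) hk
  intro c hc
  exact hOQ (h (Subgroup.centralizer_le (fun x hx => hOQ hx) hc))

/-- In the presence of the three-local data, the condition at the elements of `J` gives it at `Z`. -/
theorem coreCond_of_J (S : Sylow 3 G) (Z : Subgroup G)
    (hZ : Z = (S : Subgroup G) ⊓ Subgroup.centralizer ((S : Subgroup G) : Set G))
    (J : Subgroup G) (hJne : J ≠ ⊥)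
    (M₀ : Subgroup G) (hJM : J ≤ M₀) (hMJ : M₀ ≤ Subgroup.normalizer (J : Set G)) (hJp : IsPGroup 3 J)
    (hMcard : Nat.card M₀ = 29160)
    (L₀ : Subgroup G) (hSL : (S : Subgroup G) ≤ L₀) (hLcard : Nat.card L₀ = 29160)
    (Q : Subgroup G) (hQ : Q = coreThree (Subgroup.normalizer (Z : Set G))) (hQc : Nat.card (Subgroup.center Q) = 3)
    (h : ∀ x ∈ J, x ≠ 1 → CoreCond (Subgroup.centralizer ({x} : Set G))) :
    CoreCond (Subgroup.centralizer (Z : Set G)) := by
  haveI : Fact (Nat.Prime 3) := ⟨Nat.prime_three⟩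
  have hSd : Nat.card (S : Subgroup G) ∣ 3 ^ 6 := by
    obtain ⟨n, hn⟩ := IsPGroup.iff_card.mp S.isPGroup'
    have h1 := Subgroup.card_dvd_of_le hSL
    rw [hLcard, show 29160 = 3 ^ 6 * 40 by norm_num, hn] at h1
    rw [hn]
    exact (Nat.Coprime.pow_left n (by norm_num : Nat.Coprime 3 40)).dvd_of_dvd_mul_right h1
  -- a Sylow subgroup of `M₀` containing `J`
  obtain ⟨P0, hP0⟩ := (hJp.of_equiv (Subgroup.subgroupOfEquivOfLe hJM).symm).exists_le_sylow
  set P : Subgroup G := (P0 : Subgroup M₀).map M₀.subtype with hP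
  have hPcard : 3 ^ 6 ∣ Nat.card P := by
    rw [Subgroup.card_map_of_injective M₀.subtype_injective]
    exact P0.pow_dvd_card_of_pow_dvd_card (by rw [hMcard]; norm_num)
  obtain ⟨S', hS'⟩ := (P0.2.map M₀.subtype).exists_le_sylow
  obtain ⟨g, hg⟩ := MulAction.exists_smul_eq G S' S
  have hgP : P.map (MulAut.conj g).toMonoidHom = (S : Subgroup G) := by
    refine Subgroup.eq_of_le_of_card_ge ?_ ?_
    · rintro _ ⟨p, hp, rfl⟩
      rw [← hg, Sylow.coe_subgroup_smul]
      exact ⟨p, hS' hp, rfl⟩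
    · rw [Subgroup.card_map_of_injective (MulAut.conj g).injective]
      exact (Nat.le_of_dvd (by norm_num) hSd).trans (Nat.le_of_dvd Nat.card_pos hPcard)
  -- a conjugate of `J` is normal in `S` and meets the centre
  set J' : Subgroup G := J.map (MulAut.conj g).toMonoidHom with hJ'
  have hJ'S : J' ≤ (S : Subgroup G) := hgP ▸ Subgroup.map_mono fun j hj => ⟨⟨j, hJM hj⟩, hP0 hj, rfl⟩
  haveI : (J'.subgroupOf (S : Subgroup G)).Normal := ⟨fun y hy s => by
    obtain ⟨j, hj, e⟩ := Subgroup.mem_subgroupOf.mp hy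
    obtain ⟨p, hp, e'⟩ := (hgP.symm ▸ s.2 : (s : G) ∈ P.map (MulAut.conj g).toMonoidHom)
    obtain ⟨p', -, rfl⟩ := hp
    refine Subgroup.mem_subgroupOf.mpr ⟨_, (Subgroup.mem_normalizer_iff.mp (hMJ p'.2) j).mp hj, ?_⟩
    simp only [Subgroup.coe_mul, InvMemClass.coe_inv, ← e, ← e']
    show g * ((p' : G) * j * (p' : G)⁻¹) * g⁻¹ = g * p' * g⁻¹ * (g * j * g⁻¹) * (g * p' * g⁻¹)⁻¹
    group⟩
  haveI := S.isPGroup'.isNilpotent
  have hne : J'.subgroupOf (S : Subgroup G) ≠ ⊥ := by
    intro e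
    refine hJne (eq_bot_iff.mpr fun j hj => ?_)
    have hmem : g * j * g⁻¹ ∈ J' := ⟨j, hj, rfl⟩
    have h1 : (⟨g * j * g⁻¹, hJ'S hmem⟩ : (S : Subgroup G)) ∈ J'.subgroupOf (S : Subgroup G) :=
      Subgroup.mem_subgroupOf.mpr hmem
    rw [e, Subgroup.mem_bot] at h1
    exact Subgroup.mem_bot.mpr (conj_eq_one_iff.mp (congrArg Subtype.val h1))
  obtain ⟨⟨z, hzS⟩, ⟨hzJ, hzc⟩, hz1⟩ :=
    (Subgroup.ne_bot_iff_exists_ne_one.mp (Critical.inf_center_ne_bot _ hne)) |>
      fun ⟨⟨z, hz⟩, hne⟩ => (⟨z, hz, fun e => hne (Subtype.ext e)⟩ :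
        ∃ z ∈ J'.subgroupOf (S : Subgroup G) ⊓ Subgroup.center (S : Subgroup G), z ≠ 1)
  have hzZ : z ∈ Z := by
    rw [hZ]
    exact ⟨hzS, Subgroup.mem_centralizer_iff.mpr fun s hs =>
      congrArg Subtype.val (Subgroup.mem_center_iff.mp hzc ⟨s, hs⟩)⟩
  -- `Z` has order three
  have hSN : (S : Subgroup G) ≤ Subgroup.normalizer (Z : Set G) := fun x hx =>
    Subgroup.mem_normalizer_iff.mpr fun m => by
      have key : ∀ m ∈ Z, x * m = m * x := fun m hm => by
        rw [hZ] at hm; exact Subgroup.mem_centralizer_iff.mp hm.2 x hx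
      constructor
      · intro hm; rw [key m hm, mul_inv_cancel_right]; exact hm
      · intro hm
        have e : m = x * m * x⁻¹ := by
          calc m = x⁻¹ * (x * m * x⁻¹ * x) := by group
            _ = x * m * x⁻¹ := by rw [← key _ hm]; group
        rwa [e]
  have hZN : Z ≤ Subgroup.normalizer (Z : Set G) := Subgroup.le_normalizer
  have hZS : Z ≤ (S : Subgroup G) := hZ.le.trans inf_le_left
  have hZQ : Z ≤ Q := fun m hm => by
    rw [hQ]
    refine ⟨⟨m, hZN hm⟩, Fitting.le_pCore (N := Z.subgroupOf _) inferInstance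
      ((S.isPGroup'.to_le hZS).of_equiv (Subgroup.subgroupOfEquivOfLe hZN).symm) hm, rfl⟩
  have hQS : Q ≤ (S : Subgroup G) := by
    have hsup : IsPGroup 3 ↥(Q ⊔ (S : Subgroup G)) :=
      IsPGroup.to_sup_of_normal_left' (hQ ▸ (Fitting.pCore_isPGroup 3).map _) S.isPGroup' fun x hx =>
        Subgroup.mem_normalizer_iff.mpr fun q => ⟨fun hq => hQ ▸ coreThree_conj_mem
            (Subgroup.le_normalizer (hSN hx)) (hQ ▸ hq), fun hq => by
          have := coreThree_conj_mem (Subgroup.le_normalizer (inv_mem (hSN hx))) (hQ ▸ hq :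
            x * q * x⁻¹ ∈ coreThree (Subgroup.normalizer (Z : Set G)))
          rw [show x⁻¹ * (x * q * x⁻¹) * x⁻¹⁻¹ = q by group] at this
          exact hQ ▸ this⟩
    exact le_sup_left.trans (S.is_maximal' hsup le_sup_right).le
  have hz3 : orderOf z ≠ 1 := fun e => hz1 (Subtype.ext (orderOf_eq_one_iff.mp e))
  have hZle : Nat.card Z ≤ 3 := by
    rw [← hQc, ← Subgroup.card_map_of_injective Q.subtype_injective]
    refine Nat.le_of_dvd Nat.card_pos (Subgroup.card_dvd_of_le fun m hm => ?_)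
    refine ⟨⟨m, hZQ hm⟩, Subgroup.mem_center_iff.mpr fun q => Subtype.ext ?_, rfl⟩
    have := (hZ ▸ hm : m ∈ (S : Subgroup G) ⊓ Subgroup.centralizer ((S : Subgroup G) : Set G)).2
    exact Subgroup.mem_centralizer_iff.mp this q (hQS q.2)
  have hZeq : Subgroup.zpowers z = Z := by
    refine Subgroup.eq_of_le_of_card_ge (Subgroup.zpowers_le.mpr hzZ) (hZle.trans ?_)
    rw [Nat.card_zpowers]
    obtain ⟨k, hk⟩ := IsPGroup.iff_orderOf.mp S.isPGroup' ⟨z, hzS⟩
    rw [Subgroup.orderOf_mk] at hk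
    rw [hk] at hz3 ⊢
    exact Nat.le_self_pow (fun e => hz3 (by rw [e, pow_zero])) 3
  obtain ⟨x, hx, hxz⟩ := hzJ
  change g * x * g⁻¹ = z at hxz
  have hcond := coreCond_map g (h x hx fun e => hz1 (Subtype.ext (by
    show z = 1; rw [← hxz, e, mul_one, mul_inv_cancel])))
  rw [map_centralizer_singleton, hxz] at hcond
  rwa [← hZeq, Subgroup.zpowers_eq_closure, Subgroup.centralizer_closure]

end CfsgLib.McLThree
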