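import Cfsg.Agent.Lib.McLThree.SLAut
import Cfsg.Agent.Lib.McLThree.Statement
import Cfsg.Agent.Lib.McLThree.McLFacts
import Cfsg.Agent.Lib.Layer.CommutatorSplit
import Cfsg.Agent.Lib.Extraspecial.Setting

/-!
# The data of a group of characteristic three type recognising the McLaughlin group
-/

set_option autoImplicit false
set_option linter.unusedSectionVars false

open scoped Pointwise

namespace CfsgLib.McLThree

open Cfsg

theorem gfs_map_le {A B : Type*} [Group A] [Finite A] [Group B] [Finite B] (e : A ≃* B) :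
    (generalizedFittingSubgroup A).map e.toMonoidHom ≤ generalizedFittingSubgroup B := by
  rw [generalizedFittingSubgroup, Subgroup.map_sup, generalizedFittingSubgroup]
  refine sup_le_sup ?_ (Layer.CommutatorSplit.fitting_map_le e)
  rw [Subgroup.map_le_iff_le_comap]
  exact sSup_le fun K hK => Subgroup.map_le_iff_le_comap.mp
    (Layer.isComponent_le_layer (Layer.isComponent_map_equiv e hK))

theorem gfs_map {A B : Type*} [Group A] [Finite A] [Group B] [Finite B] (e : A ≃* B) :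
    (generalizedFittingSubgroup A).map e.toMonoidHom = generalizedFittingSubgroup B :=
  le_antisymm (gfs_map_le e) fun x hx => ⟨e.symm x, gfs_map_le e.symm ⟨x, hx, rfl⟩, e.apply_symm_apply x⟩

/-- The conclusion about the generalized Fitting subgroup. -/
theorem fstar_isoMcL {G : Type*} [Group G] [Finite G]
    (h : Nonempty (G ≃* Cfsg.Spor.McL) ∨ Nonempty (G ≃* MulAut Cfsg.Spor.McL)) :
    Cfsg.Spor.IsoMcL ↥(Cfsg.generalizedFittingSubgroup G) := by
  haveI : Finite ↥Cfsg.Spor.McL := Nat.finite_of_card_ne_zero (by rw [mcl_isMcL.2]; norm_num)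
  rcases h with ⟨⟨e⟩⟩ | ⟨⟨e⟩⟩
  · exact ⟨((e.subgroupMap _).trans (MulEquiv.subgroupCongr ((gfs_map e).trans fstar_mcl))).trans
      Subgroup.topEquiv⟩
  · haveI := Finite.of_equiv G e.toEquiv
    have hinj : Function.Injective (MulAut.conj : ↥Cfsg.Spor.McL →* MulAut ↥Cfsg.Spor.McL) := by
      refine (injective_iff_map_eq_one _).mpr fun x hx => ?_
      have hc : x ∈ Subgroup.center ↥Cfsg.Spor.McL := Subgroup.mem_center_iff.mpr fun y => by
        have := DFunLike.congr_fun hx y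
        rw [MulAut.conj_apply, MulAut.one_apply, mul_inv_eq_iff_eq_mul] at this
        exact this.symm
      rwa [mcl_center, Subgroup.mem_bot] at hc
    let f : ↥Cfsg.Spor.McL ≃* (MulAut.conj : ↥Cfsg.Spor.McL →* MulAut ↥Cfsg.Spor.McL).range :=
      MonoidHom.ofInjective hinj
    have hcomp : Cfsg.IsComponent (MulAut.conj : ↥Cfsg.Spor.McL →* MulAut ↥Cfsg.Spor.McL).range :=
      ⟨(CfsgLib.NonQS.conj_range_normal).isSubnormal,
        CfsgLib.Layer.isQuasisimple_of_mulEquiv f mcl_quasisimple⟩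
    have hcent : Subgroup.centralizer
        ((MulAut.conj : ↥Cfsg.Spor.McL →* MulAut ↥Cfsg.Spor.McL).range : Set (MulAut ↥Cfsg.Spor.McL)) = ⊥ := by
      refine eq_bot_iff.mpr fun α hα => Subgroup.mem_bot.mpr (MulEquiv.ext fun y => ?_)
      have h1 := Subgroup.mem_centralizer_iff.mp hα _ ⟨y, rfl⟩
      have h2 : MulAut.conj (α y) = MulAut.conj y := MulEquiv.ext fun x => by
        obtain ⟨w, rfl⟩ := α.surjective x
        rw [MulAut.conj_apply, MulAut.conj_apply]
        have := DFunLike.congr_fun h1 w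
        simp only [MulAut.mul_apply, MulAut.conj_apply, map_mul, map_inv] at this
        exact this.symm
      exact hinj h2
    have hF := CfsgLib.NonQS.generalizedFitting_eq_of_simple hcomp hcent
    exact ⟨((e.subgroupMap _).trans (MulEquiv.subgroupCongr ((gfs_map e).trans hF))).trans f.symm⟩

/-- Elements of three-power order modulo a normal three-group. -/
theorem three_quot {X : Type*} [Group X] [Finite X] (N : Subgroup X) [N.Normal] (hN : IsPGroup 3 N) :
    ∃ f : ↥(Subgroup.closure {x : X | ∃ k : ℕ, orderOf x = 3 ^ k}) →*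
        ↥(Subgroup.closure {y : X ⧸ N | ∃ k : ℕ, orderOf y = 3 ^ k}),
      Function.Surjective f ∧ (∀ x, f x = 1 ↔ (x : X) ∈ N) ∧
      N ≤ Subgroup.closure {x : X | ∃ k : ℕ, orderOf x = 3 ^ k} := by
  haveI : Fact (Nat.Prime 3) := ⟨Nat.prime_three⟩
  have himg : (QuotientGroup.mk' N) '' {x : X | ∃ k : ℕ, orderOf x = 3 ^ k} =
      {y : X ⧸ N | ∃ k : ℕ, orderOf y = 3 ^ k} := by
    ext y
    constructor
    · rintro ⟨x, ⟨k, hk⟩, rfl⟩
      have hd := orderOf_map_dvd (QuotientGroup.mk' N) x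
      rw [hk] at hd
      obtain ⟨i, -, hi⟩ := (Nat.dvd_prime_pow Nat.prime_three).mp hd
      exact ⟨i, hi⟩
    · rintro ⟨k, hk⟩
      obtain ⟨x, rfl⟩ := QuotientGroup.mk'_surjective N y
      have hmem : x ^ (3 ^ k) ∈ N := by
        rw [← QuotientGroup.eq_one_iff, QuotientGroup.mk_pow, ← hk]
        exact pow_orderOf_eq_one _
      obtain ⟨m, hm⟩ := hN ⟨_, hmem⟩
      have h1 : x ^ (3 ^ (k + m)) = 1 := by
        rw [pow_add, pow_mul]; exact congrArg Subtype.val hm
      obtain ⟨i, -, hi⟩ := (Nat.dvd_prime_pow Nat.prime_three).mp (orderOf_dvd_of_pow_eq_one h1)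
      exact ⟨x, ⟨i, hi⟩, rfl⟩
  set K := Subgroup.closure {x : X | ∃ k : ℕ, orderOf x = 3 ^ k} with hK
  have hmap : K.map (QuotientGroup.mk' N) = Subgroup.closure {y : X ⧸ N | ∃ k : ℕ, orderOf y = 3 ^ k} := by
    rw [hK, MonoidHom.map_closure, himg]
  refine ⟨(MulEquiv.subgroupCongr hmap).toMonoidHom.comp ((QuotientGroup.mk' N).subgroupMap K),
    (MulEquiv.subgroupCongr hmap).surjective.comp ((QuotientGroup.mk' N).subgroupMap_surjective K),
    fun x => ?_, fun x hx => ?_⟩
  · rw [← QuotientGroup.eq_one_iff, Subtype.ext_iff]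
    rfl
  · obtain ⟨k, hk⟩ := hN ⟨x, hx⟩
    obtain ⟨i, -, hi⟩ := (Nat.dvd_prime_pow Nat.prime_three).mp
      (orderOf_dvd_of_pow_eq_one (show x ^ 3 ^ k = 1 from congrArg Subtype.val hk))
    exact Subgroup.subset_closure ⟨i, hi⟩

/-- The closure of the three-elements of a subgroup, inside the whole group. -/
theorem three_closure_map {G : Type*} [Group G] (X : Subgroup G) :
    (Subgroup.closure {x : X | ∃ k : ℕ, orderOf x = 3 ^ k}).map X.subtype =
      Subgroup.closure {g : G | g ∈ X ∧ ∃ k : ℕ, orderOf g = 3 ^ k} := by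
  rw [MonoidHom.map_closure]
  congr 1
  ext g
  constructor
  · rintro ⟨x, ⟨k, hk⟩, rfl⟩
    exact ⟨x.2, k, by rw [Subgroup.coe_subtype, Subgroup.orderOf_coe]; exact hk⟩
  · rintro ⟨hg, k, hk⟩
    exact ⟨⟨g, hg⟩, ⟨k, by rw [Subgroup.orderOf_mk]; exact hk⟩, rfl⟩

section Data

variable {G : Type*} [Group G] [Finite G] (Z : Subgroup G)

/-- The facts about `F*(C(Z))`. -/
structure LspFacts (Sm : Subgroup G) (Fm : Subgroup G) : Prop where
  sylow : IsPGroup 3 Sm ∧ ∀ P : Subgroup G, IsPGroup 3 P → Sm ≤ P → P = Sm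
  center : Z = Sm ⊓ Subgroup.centralizer (Sm : Set G)
  core : Fm = coreThree (Subgroup.normalizer (Z : Set G))
  cond : CoreCond (Subgroup.centralizer (Z : Set G))
  three_le : ∀ g ∈ Subgroup.normalizer (Z : Set G), (∃ k : ℕ, orderOf g = 3 ^ k) →
    g ∈ Subgroup.centralizer (Z : Set G)

theorem lsp_facts (hZ : Nat.card Z = 3) : ∀ (S : Sylow 3 (Subgroup.centralizer (Z : Set G)))
    (hQ : Cfsg.IsExtraspecial 3 ↥(Cfsg.generalizedFittingSubgroup ↥(Subgroup.centralizer (Z : Set G)))),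
    LspFacts Z ((S : Subgroup ↥(Subgroup.centralizer (Z : Set G))).map (Subgroup.centralizer (Z : Set G)).subtype)
      ((Cfsg.generalizedFittingSubgroup ↥(Subgroup.centralizer (Z : Set G))).map
        (Subgroup.centralizer (Z : Set G)).subtype) := by
  haveI : Fact (Nat.Prime 3) := ⟨Nat.prime_three⟩
  haveI : IsCyclic Z := isCyclic_of_prime_card hZ
  set C := Subgroup.centralizer (Z : Set G) with hC
  intro S hQ
  set F := Cfsg.generalizedFittingSubgroup ↥C with hF
  set Sm := (S : Subgroup C).map C.subtype with hSm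
  set Fm := F.map C.subtype with hFm
  have hFp : IsPGroup 3 F := hQ.1.1
  haveI hFn : F.Normal := CfsgLib.Layer.generalizedFitting_normal
  have hFS : F ≤ (S : Subgroup C) := IsPGroup.le_sylow_of_normal hFp S
  have hcommZ : ∀ a ∈ Z, ∀ b ∈ Z, a * b = b * a := by
    intro a ha b hb
    obtain ⟨g, hg⟩ := IsCyclic.exists_generator (α := Z)
    obtain ⟨i, hi⟩ := hg ⟨a, ha⟩
    obtain ⟨j, hj⟩ := hg ⟨b, hb⟩
    rw [show a = (g : G) ^ i from (congrArg Subtype.val hi).symm.trans (by simp),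
      show b = (g : G) ^ j from (congrArg Subtype.val hj).symm.trans (by simp)]
    exact (Commute.refl (g : G)).zpow_zpow i j
  have hZC : Z ≤ C := fun m hm => Subgroup.mem_centralizer_iff.mpr fun a ha => hcommZ a ha m hm
  set Zc : Subgroup C := Z.subgroupOf C with hZc
  haveI hZn : Zc.Normal := ⟨fun y hy c => by
    refine Subgroup.mem_subgroupOf.mpr ?_
    simp only [Subgroup.coe_mul, InvMemClass.coe_inv]
    rw [← Subgroup.mem_centralizer_iff.mp c.2 _ (Subgroup.mem_subgroupOf.mp hy), mul_inv_cancel_right]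
    exact Subgroup.mem_subgroupOf.mp hy⟩
  have hZcard : Nat.card Zc = 3 := by
    rw [hZc, Nat.card_congr (Subgroup.subgroupOfEquivOfLe hZC).toEquiv, hZ]
  have hZp : IsPGroup 3 Zc := IsPGroup.of_card (n := 1) (by rw [hZcard, pow_one])
  have hZF : Zc ≤ F := ((Fitting.le_pCore hZn hZp).trans (Fitting.pCore_le_fittingSubgroup 3)).trans
    CfsgLib.Layer.fittingSubgroup_le_generalizedFitting
  have hcenF : (Subgroup.center F).map F.subtype = Zc := by
    refine (Subgroup.eq_of_le_of_card_ge ?_ ?_).symm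
    · intro m hm
      refine ⟨⟨m, hZF hm⟩, Subgroup.mem_center_iff.mpr fun q => Subtype.ext (Subtype.ext ?_), rfl⟩
      exact (Subgroup.mem_centralizer_iff.mp q.1.2 _ (Subgroup.mem_subgroupOf.mp hm)).symm
    · rw [Subgroup.card_map_of_injective F.subtype_injective, hQ.2, hZcard]
  have hcentF : ∀ c : C, (∀ q ∈ F, q * c = c * q) → c ∈ Zc := by
    intro c hc
    have hcF : c ∈ F := CfsgLib.Layer.centralizer_generalizedFitting_le (G := C)
      (Subgroup.mem_centralizer_iff.mpr hc)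
    rw [← hcenF]
    exact ⟨⟨c, hcF⟩, Subgroup.mem_center_iff.mpr fun q => Subtype.ext (hc q q.2), rfl⟩
  have hcenter : Z = Sm ⊓ Subgroup.centralizer (Sm : Set G) := by
    refine le_antisymm ?_ ?_
    · intro m hm
      refine Subgroup.mem_inf.mpr
        ⟨⟨⟨m, hZC hm⟩, hFS (hZF (Subgroup.mem_subgroupOf.mpr hm)), rfl⟩, Subgroup.mem_centralizer_iff.mpr ?_⟩
      rintro _ ⟨s, -, rfl⟩
      exact (Subgroup.mem_centralizer_iff.mp s.2 m hm).symm
    · intro x hx
      obtain ⟨hxS, hcc⟩ := Subgroup.mem_inf.mp hx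
      obtain ⟨c, -, rfl⟩ := hxS
      refine Subgroup.mem_subgroupOf.mp (hcentF c fun q hq => Subtype.ext ?_)
      exact Subgroup.mem_centralizer_iff.mp hcc _ ⟨q, hFS hq, rfl⟩
  have three_le : ∀ g ∈ Subgroup.normalizer (Z : Set G), (∃ k : ℕ, orderOf g = 3 ^ k) → g ∈ C := by
    rintro g hg ⟨k, hk⟩
    refine Subgroup.mem_centralizer_iff.mpr fun m hm => ?_
    obtain ⟨z, hz⟩ := IsCyclic.exists_generator (α := Z)
    have hzo : orderOf (z : G) = 3 := by
      rw [Subgroup.orderOf_coe, orderOf_eq_card_of_forall_mem_zpowers hz, hZ]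
    have hZz : ∀ a ∈ Z, a ∈ Subgroup.zpowers (z : G) := fun a ha => by
      obtain ⟨i, hi⟩ := hz ⟨a, ha⟩
      exact ⟨i, by simpa using congrArg Subtype.val hi⟩
    have hgz := (Subgroup.mem_normalizer_iff.mp hg _).mp z.2
    have hz3 : (z : G) ^ 3 = 1 := by rw [← hzo, pow_orderOf_eq_one]
    obtain ⟨r, hr⟩ : Odd (3 ^ k) := Odd.pow (by decide)
    have hgk : g ^ (3 ^ k) = 1 := by rw [← hk, pow_orderOf_eq_one]
    have hcomm : Commute g (z : G) := by
      have h2 : Commute (g * g) (z : G) := by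
        refine mul_inv_eq_iff_eq_mul.mp ?_
        rw [show g * g * (z : G) * (g * g)⁻¹ = g * (g * z * g⁻¹) * g⁻¹ by group]
        rcases conj_three_cases hz3 (hZz _ hgz) with e | e | e
        · rw [conj_eq_one_iff.mp e]; group
        · rw [e, e]
        · rw [e, show g * (z : G)⁻¹ * g⁻¹ = (g * z * g⁻¹)⁻¹ by group, e, inv_inv]
      have := h2.pow_left (r + 1)
      rwa [← pow_two, ← pow_mul, show 2 * (r + 1) = 3 ^ k + 1 by omega, pow_succ, hgk, one_mul] at this
    obtain ⟨i, rfl⟩ := hZz m hm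
    exact ((hcomm.zpow_right i).eq).symm
  have hSp : IsPGroup 3 Sm := S.2.map _
  have hsylow : ∀ P : Subgroup G, IsPGroup 3 P → Sm ≤ P → P = Sm := by
    intro P hP hle
    by_contra hne
    haveI := hP.isNilpotent
    obtain ⟨⟨r, hrP⟩, hr, hrn⟩ := SetLike.exists_of_lt
      (Group.normalizerCondition_of_isNilpotent (Sm.subgroupOf P) (lt_top_iff_ne_top.mpr fun h =>
        hne (le_antisymm (Subgroup.subgroupOf_eq_top.mp h) hle)))
    rw [Subgroup.mem_subgroupOf] at hrn
    have hnorm : ∀ y, y ∈ P → (y ∈ Sm ↔ r * y * r⁻¹ ∈ Sm) := fun y hy =>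
      Subgroup.mem_normalizer_iff.mp hr ⟨y, hy⟩
    have hrN : r ∈ Subgroup.normalizer (Z : Set G) := by
      rw [Subgroup.mem_normalizer_iff_map_conj_eq]
      refine Subgroup.eq_of_le_of_card_ge ?_ (le_of_eq
        (Subgroup.card_map_of_injective (f := (MulAut.conj r).toMonoidHom) (MulAut.conj r).injective).symm)
      rintro _ ⟨m, hm, rfl⟩
      show r * m * r⁻¹ ∈ Z
      rw [hcenter] at hm ⊢
      refine ⟨(hnorm m (hle hm.1)).mp hm.1, Subgroup.mem_centralizer_iff.mpr fun s hs => ?_⟩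
      have hs' : r⁻¹ * s * r ∈ Sm := (hnorm _ (mul_mem (mul_mem (inv_mem hrP) (hle hs)) hrP)).mpr (by
        rwa [show r * (r⁻¹ * s * r) * r⁻¹ = s by group])
      have := Subgroup.mem_centralizer_iff.mp hm.2 _ hs'
      calc s * (r * m * r⁻¹) = r * (r⁻¹ * s * r * m) * r⁻¹ := by group
        _ = r * (m * (r⁻¹ * s * r)) * r⁻¹ := by rw [this]
        _ = _ := by group
    obtain ⟨n, hn⟩ := IsPGroup.iff_orderOf.mp hP ⟨r, hrP⟩
    have hrC : r ∈ C := three_le r hrN ⟨n, by rw [← hn, Subgroup.orderOf_mk]⟩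
    have hS0 : P.subgroupOf C = (S : Subgroup C) := S.is_maximal'
      (hP.comap_of_injective _ C.subtype_injective) fun p hp => hle ⟨p, hp, rfl⟩
    exact hrn ⟨⟨r, hrC⟩, hS0 ▸ Subgroup.mem_subgroupOf.mpr hrP, rfl⟩
  have hFle : Fm ≤ Subgroup.normalizer (Z : Set G) := by
    rintro _ ⟨c, -, rfl⟩
    refine Subgroup.mem_normalizer_iff_map_conj_eq.mpr ?_
    ext m
    constructor
    · rintro ⟨a, ha, rfl⟩
      show (c : G) * a * (c : G)⁻¹ ∈ Z
      rw [← Subgroup.mem_centralizer_iff.mp c.2 a ha, mul_inv_cancel_right]; exact ha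
    · intro hm
      refine ⟨m, hm, ?_⟩
      show (c : G) * m * (c : G)⁻¹ = m
      rw [← Subgroup.mem_centralizer_iff.mp c.2 m hm, mul_inv_cancel_right]
  have hcore : Fm = coreThree (Subgroup.normalizer (Z : Set G)) := by
    refine le_antisymm (fun x hx => ?_) ?_
    · haveI : (Fm.subgroupOf (Subgroup.normalizer (Z : Set G))).Normal := ⟨fun y hy n => by
        have hnC : C.map (MulAut.conj (n : G)).toMonoidHom = C := by
          refine Subgroup.eq_of_le_of_card_ge ?_ (le_of_eq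
            (Subgroup.card_map_of_injective (f := (MulAut.conj (n : G)).toMonoidHom)
              (MulAut.conj (n : G)).injective).symm)
          rintro _ ⟨c, hc, rfl⟩
          refine Subgroup.mem_centralizer_iff.mpr fun m hm => ?_
          have hm' := (Subgroup.mem_normalizer_iff.mp (inv_mem n.2) m).mp hm
          have := Subgroup.mem_centralizer_iff.mp hc _ hm'
          show m * ((n : G) * c * (n : G)⁻¹) = (n : G) * c * (n : G)⁻¹ * m
          calc m * ((n : G) * c * (n : G)⁻¹)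
              = (n : G) * ((n : G)⁻¹ * m * (n : G)⁻¹⁻¹ * c) * (n : G)⁻¹ := by group
            _ = (n : G) * (c * ((n : G)⁻¹ * m * (n : G)⁻¹⁻¹)) * (n : G)⁻¹ := by rw [this]
            _ = _ := by group
        let e : C ≃* C := ((MulAut.conj (n : G)).subgroupMap C).trans (MulEquiv.subgroupCongr hnC)
        obtain ⟨c, hc, e'⟩ := Subgroup.mem_subgroupOf.mp hy
        exact Subgroup.mem_subgroupOf.mpr ⟨e c, gfs_map_le e (Subgroup.mem_map_of_mem _ hc), by
          simp only [Subgroup.coe_mul, InvMemClass.coe_inv, ← e']; rfl⟩⟩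
      exact ⟨⟨x, hFle hx⟩, Fitting.le_pCore inferInstance
        ((hFp.map _).of_equiv (Subgroup.subgroupOfEquivOfLe hFle).symm) (Subgroup.mem_subgroupOf.mpr hx), rfl⟩
    · rintro _ ⟨⟨x, hxN⟩, hx, rfl⟩
      obtain ⟨k, hk⟩ := IsPGroup.iff_orderOf.mp (Fitting.pCore_isPGroup (G := ↥(Subgroup.normalizer (Z : Set G))) 3) ⟨⟨x, hxN⟩, hx⟩
      have hxC : x ∈ C := three_le x hxN ⟨k, by rw [← hk, Subgroup.orderOf_mk, Subgroup.orderOf_mk]⟩
      set K := (coreThree (Subgroup.normalizer (Z : Set G))).subgroupOf C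
      haveI : K.Normal := ⟨fun y hy c => Subgroup.mem_subgroupOf.mpr (by
        simp only [Subgroup.coe_mul, InvMemClass.coe_inv]
        refine coreThree_conj_mem (Subgroup.le_normalizer ?_) (Subgroup.mem_subgroupOf.mp hy)
        refine Subgroup.mem_normalizer_iff_map_conj_eq.mpr ?_
        ext m
        constructor
        · rintro ⟨a, ha, rfl⟩
          show (c : G) * a * (c : G)⁻¹ ∈ Z
          rw [← Subgroup.mem_centralizer_iff.mp c.2 a ha, mul_inv_cancel_right]; exact ha
        · intro hm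
          refine ⟨m, hm, ?_⟩
          show (c : G) * m * (c : G)⁻¹ = m
          rw [← Subgroup.mem_centralizer_iff.mp c.2 m hm, mul_inv_cancel_right])⟩
      have hKp : IsPGroup 3 K := ((Fitting.pCore_isPGroup 3).map _).comap_of_injective _ C.subtype_injective
      exact ⟨⟨x, hxC⟩, ((Fitting.le_pCore inferInstance hKp).trans (Fitting.pCore_le_fittingSubgroup 3)).trans
        CfsgLib.Layer.fittingSubgroup_le_generalizedFitting
        (Subgroup.mem_subgroupOf.mpr ⟨⟨x, hxN⟩, hx, rfl⟩), rfl⟩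
  refine ⟨⟨S.2.map _, hsylow⟩, hcenter, hcore, fun c hc => ?_, three_le⟩
  have hFcore : F ≤ Cfsg.pCore 3 C := Fitting.le_pCore hFn hFp
  have hcC : c ∈ C := Subgroup.mem_centralizer_iff.mpr fun m hm => Subgroup.mem_centralizer_iff.mp hc m
    ⟨⟨m, hZC hm⟩, hFcore (hZF (Subgroup.mem_subgroupOf.mpr hm)), rfl⟩
  refine ⟨⟨c, hcC⟩, hFcore (hZF (hcentF ⟨c, hcC⟩ fun q hq => Subtype.ext ?_)), rfl⟩
  exact Subgroup.mem_centralizer_iff.mp hc q ⟨q, hFcore hq, rfl⟩

end Data

end CfsgLib.McLThree
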