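import Cfsg.Agent.Lib.McLThree.Basic
import Cfsg.Agent.Lib.Extraspecial.Setting

/-!
# The three-local data inside a normal subgroup of index two
-/

set_option autoImplicit false
set_option linter.unusedSectionVars false

namespace CfsgLib.McLThree

variable {G : Type*} [Group G] [Finite G] {M : Subgroup G}

theorem mem_of_cube_order (h2 : M.index = 2) {x : G} {k : ℕ} (hx : x ^ (3 ^ k) = 1) : x ∈ M := by
  obtain ⟨m, hm⟩ : Odd (3 ^ k) := Odd.pow (by decide)
  have h : (x * x) ^ (m + 1) = x := by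
    rw [← pow_two, ← pow_mul, show 2 * (m + 1) = 3 ^ k + 1 by omega, pow_succ, hx, one_mul]
  rw [← h]
  exact pow_mem (Subgroup.mul_self_mem_of_index_two h2 x) _

theorem pgroup_le (h2 : M.index = 2) {P : Subgroup G} (hP : IsPGroup 3 P) : P ≤ M := fun x hx => by
  obtain ⟨k, hk⟩ := hP ⟨x, hx⟩
  exact mem_of_cube_order h2 (congrArg Subtype.val hk)

theorem normalizer_sub {X : Subgroup G} (hX : X ≤ M) (x : M) :
    x ∈ Subgroup.normalizer ((X.subgroupOf M : Subgroup M) : Set M) ↔ (x : G) ∈ Subgroup.normalizer (X : Set G) := by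
  constructor
  · intro h
    refine Subgroup.mem_normalizer_iff.mpr fun u => ?_
    constructor
    · exact fun hu => (Subgroup.mem_normalizer_iff.mp h ⟨u, hX hu⟩).mp hu
    · intro hu
      have huM : u ∈ M := by
        have := mul_mem (mul_mem (inv_mem x.2) (hX hu)) x.2
        rwa [show (x : G)⁻¹ * ((x : G) * u * (x : G)⁻¹) * x = u by group] at this
      exact (Subgroup.mem_normalizer_iff.mp h ⟨u, huM⟩).mpr hu
  · exact fun h => Subgroup.mem_normalizer_iff.mpr fun u => Subgroup.mem_normalizer_iff.mp h u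

theorem closure_sub (h2 : M.index = 2) {X : Subgroup G} (hX : X ≤ M) :
    Subgroup.closure {g : M | g ∈ Subgroup.normalizer ((X.subgroupOf M : Subgroup M) : Set M) ∧
      ∃ k : ℕ, orderOf g = 3 ^ k} =
    (Subgroup.closure {g : G | g ∈ Subgroup.normalizer (X : Set G) ∧ ∃ k : ℕ, orderOf g = 3 ^ k}).subgroupOf M := by
  have himg : M.subtype '' {g : M | g ∈ Subgroup.normalizer ((X.subgroupOf M : Subgroup M) : Set M) ∧
      ∃ k : ℕ, orderOf g = 3 ^ k} =
      {g : G | g ∈ Subgroup.normalizer (X : Set G) ∧ ∃ k : ℕ, orderOf g = 3 ^ k} := by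
    ext g
    constructor
    · rintro ⟨u, ⟨hu, k, hk⟩, rfl⟩
      exact ⟨(normalizer_sub hX u).mp hu, k, by rw [Subgroup.coe_subtype, Subgroup.orderOf_coe]; exact hk⟩
    · rintro ⟨hg, k, hk⟩
      have hgM : g ∈ M := mem_of_cube_order h2 (k := k) (by rw [← hk, pow_orderOf_eq_one])
      exact ⟨⟨g, hgM⟩, ⟨(normalizer_sub hX ⟨g, hgM⟩).mpr hg, k, by rw [Subgroup.orderOf_mk]; exact hk⟩, rfl⟩
  rw [← himg, ← MonoidHom.map_closure]
  exact (Subgroup.comap_map_eq_self_of_injective M.subtype_injective _).symm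

theorem pCore_sub (h2 : M.index = 2) (X : Subgroup G) (y : M) :
    y ∈ (Cfsg.pCore 3 ↥(X.subgroupOf M)).map (X.subgroupOf M).subtype ↔
      (y : G) ∈ (Cfsg.pCore 3 X).map X.subtype := by
  haveI hMn : M.Normal := Subgroup.normal_of_index_eq_two h2
  let X' : Subgroup M := X.subgroupOf M
  let ι : X' →* X :=
    { toFun := fun u => ⟨((u : M) : G), u.2⟩
      map_one' := rfl
      map_mul' := fun _ _ => rfl }
  have hι : Function.Injective ι := fun a b e => by
    have e' : ((a : M) : G) = ((b : M) : G) := congrArg (fun w : X => (w : G)) e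
    exact Subtype.ext (Subtype.ext e')
  constructor
  · rintro ⟨p, hp, rfl⟩
    refine ⟨ι p, ?_, rfl⟩
    let P : Subgroup X := (Cfsg.pCore 3 X').map ι
    have hPn : P.Normal := ⟨fun u hu x => by
      obtain ⟨q, hq, rfl⟩ := hu
      -- the conjugate of the core
      let cx : X' →* X' :=
        { toFun := fun w => ⟨⟨(x : G) * ((w : M) : G) * (x : G)⁻¹, hMn.conj_mem _ (w : M).2 _⟩,
            mul_mem (mul_mem x.2 w.2) (inv_mem x.2)⟩
          map_one' := Subtype.ext (Subtype.ext (by simp))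
          map_mul' := fun a b => Subtype.ext (Subtype.ext (by simp [mul_assoc])) }
      have hcs : Function.Surjective cx := fun w => by
        refine ⟨⟨⟨(x : G)⁻¹ * ((w : M) : G) * x, ?_⟩, mul_mem (mul_mem (inv_mem x.2) w.2) x.2⟩, ?_⟩
        · simpa using hMn.conj_mem _ (w : M).2 (x : G)⁻¹
        · exact Subtype.ext (Subtype.ext (by simp [cx, mul_assoc]))
      have hle : (Cfsg.pCore 3 X').map cx ≤ Cfsg.pCore 3 X' :=
        Fitting.le_pCore ((Fitting.pCore_normal 3).map cx hcs) ((Fitting.pCore_isPGroup 3).map cx)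
      exact ⟨cx q, hle ⟨q, hq, rfl⟩, Subtype.ext rfl⟩⟩
    exact Fitting.le_pCore hPn ((Fitting.pCore_isPGroup 3).map ι) ⟨p, hp, rfl⟩
  · rintro ⟨p, hp, hpy⟩
    change (p : G) = (y : G) at hpy
    refine ⟨⟨y, show (y : G) ∈ X from hpy ▸ p.2⟩, ?_, rfl⟩
    let P : Subgroup X' := (Cfsg.pCore 3 X).comap ι
    have hPn : P.Normal := (Fitting.pCore_normal 3).comap ι
    have hPp : IsPGroup 3 P := (Fitting.pCore_isPGroup 3).comap_of_injective ι hι
    refine Fitting.le_pCore hPn hPp ?_
    show ι ⟨y, (show (y : G) ∈ X from hpy ▸ p.2)⟩ ∈ Cfsg.pCore 3 X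
    have e : ι ⟨y, (show (y : G) ∈ X from hpy ▸ p.2)⟩ = p :=
      Subtype.ext (show ((y : M) : G) = (p : G) from hpy.symm)
    rw [e]; exact hp

namespace Hyp

variable (H : Hyp G)

/-- The data inside a subgroup of index two. -/
noncomputable def restrict (M : Subgroup G) (h2 : M.index = 2) : Hyp M :=
  have hS : (H.S : Subgroup G) ≤ M := pgroup_le h2 H.S.2
  have hJ : H.J ≤ M := H.hJS.trans hS
  have hZ : H.Z ≤ M := H.Z_le_S.trans hS
  have hQ : H.Q ≤ M := H.Q_le_S.trans hS
  have cl : ∀ X : Subgroup G, X ≤ M →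
      Subgroup.closure {g : G | g ∈ Subgroup.normalizer (X : Set G) ∧ ∃ k : ℕ, orderOf g = 3 ^ k} ≤ M :=
    fun X hX => (Subgroup.closure_le _).mpr fun g hg => by
      obtain ⟨-, k, hk⟩ := hg
      exact mem_of_cube_order h2 (k := k) (by rw [← hk, pow_orderOf_eq_one])
  have hM0 : H.M0 ≤ M := H.hM0.le.trans (cl H.J hJ)
  have hL0 : H.L0 ≤ M := H.hL0.le.trans (cl H.Z hZ)
  { S := H.S.subtype hS
    J := H.J.subgroupOf M
    hJS := fun x hx => H.hJS hx
    hJc := fun x hx y hy => Subtype.ext (H.hJc x hx y hy)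
    hJexp := fun x hx => Subtype.ext (H.hJexp x hx)
    hJcard := by rw [Nat.card_congr (Subgroup.subgroupOfEquivOfLe hJ).toEquiv, H.hJcard]
    Z := H.Z.subgroupOf M
    hZ := by
      ext x
      rw [Subgroup.mem_subgroupOf, H.hZ, Sylow.coe_subtype]
      simp only [Subgroup.mem_inf, Subgroup.mem_subgroupOf, Subgroup.mem_centralizer_iff, SetLike.mem_coe]
      refine and_congr_right fun _ => ⟨fun h u hu => Subtype.ext (h u hu), fun h u hu => ?_⟩
      exact congrArg Subtype.val (h ⟨u, hS hu⟩ hu)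
    M0 := H.M0.subgroupOf M
    hM0 := by
      rw [closure_sub h2 hJ]
      exact congrArg (fun K : Subgroup G => K.subgroupOf M) H.hM0
    hJM := fun x hx => H.hJM hx
    piM := H.piM.comp (Subgroup.subgroupOfEquivOfLe hM0).toMonoidHom
    piM_surj := H.piM_surj.comp (Subgroup.subgroupOfEquivOfLe hM0).surjective
    piM_ker := fun x => H.piM_ker _
    L0 := H.L0.subgroupOf M
    hL0 := by
      rw [closure_sub h2 hZ]
      exact congrArg (fun K : Subgroup G => K.subgroupOf M) H.hL0
    Q := H.Q.subgroupOf M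
    hQ := by
      have hN : Subgroup.normalizer ((H.Z.subgroupOf M : Subgroup M) : Set M) =
          (Subgroup.normalizer (H.Z : Set G)).subgroupOf M := by
        ext x; exact normalizer_sub hZ x
      rw [hN]
      ext x
      rw [pCore_sub h2, Subgroup.mem_subgroupOf, H.hQ]
    hQex := haveI : Fact (Nat.Prime 3) := ⟨Nat.prime_three⟩
      CfsgLib.Extraspecial.isExtraspecial_congr (Subgroup.subgroupOfEquivOfLe hQ).symm H.hQex
    hQcard := by rw [Nat.card_congr (Subgroup.subgroupOfEquivOfLe hQ).toEquiv, H.hQcard]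
    hQexp := fun x hx => Subtype.ext (H.hQexp x hx)
    hQL := fun x hx => H.hQL hx
    piL := H.piL.comp (Subgroup.subgroupOfEquivOfLe hL0).toMonoidHom
    piL_surj := H.piL_surj.comp (Subgroup.subgroupOfEquivOfLe hL0).surjective
    piL_ker := fun x => H.piL_ker _
    hCQ := fun y hy => by
      refine H.hCQ (Subgroup.mem_centralizer_iff.mpr fun q hq => ?_)
      exact congrArg Subtype.val (Subgroup.mem_centralizer_iff.mp hy ⟨q, hQ hq⟩ hq) }

end Hyp

end CfsgLib.McLThree
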