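import Cfsg.Agent.Lib.McLThree.Sym8Y
import Cfsg.Agent.S3330

/-!
# The group with the local data of `S₈` is `S₈`
-/

set_option autoImplicit false
set_option linter.unusedSectionVars false

open Equiv

namespace CfsgLib.McLThree.Sym8.Setup8

variable {G : Type*} [Group G] [Finite G] (S : Setup8 G)

include S in
theorem nonempty_mulEquiv : Nonempty (G ≃* Perm (Fin 8)) := by
  obtain ⟨P, hP⟩ := S.exists_sylow
  obtain ⟨eN⟩ := S.exists_eN
  haveI hcn : S.CN.Normal := S.CN_normal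
  obtain ⟨eNC⟩ := S.exists_eNC
  obtain ⟨eC⟩ := S.exists_eC
  haveI hyn := S.DN_Cy
  haveI hyNn := S.DN_Ny
  rcases Cfsg.Agent.S3330.result P S.D hP S.y S.z S.closure_yz
      ⟨⟨fun a b => Subtype.ext (S.D_comm _ a.2 _ b.2)⟩⟩ S.card_D (fun a ha => S.D_exp ha) S.card_CD eN
      (hcn := hcn) eNC hyn S.card_Cy S.Cy_sq S.Ny rfl hyNn S.card_Ny S.Ny_sq eC S.eL with
    h | ⟨N₀, hn, -, ⟨e⟩, -, -, hsq⟩
  · exact h
  · exact (S.not_product hn (fun x => hsq x) e).elim

end CfsgLib.McLThree.Sym8.Setup8
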