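import Cfsg.Agent.Lib.McLThree.Transfer
import Cfsg.Agent.Lib.McLThree.Restrict
import Cfsg.Agent.Lib.McLThree.Sym8Rec
import Cfsg.Agent.S2073

/-!
# The McLaughlin group or its automorphism group
-/

set_option autoImplicit false
set_option linter.unusedSectionVars false

open Equiv

namespace CfsgLib.McLThree

theorem eMap_fixed : ∀ s : ZMod 3, s ≠ 0 → ∀ v : V4, eMap 2 s v = v → v = 0 := by decide +kernel

namespace Hyp

variable {G : Type*} [Group G] [Finite G] (H : Hyp G)

include H in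
theorem center_eq_bot : Subgroup.center G = ⊥ := by
  obtain ⟨D⟩ := exists_data H
  rw [eq_bot_iff]
  intro c hc
  have hcm := Subgroup.mem_center_iff.mp hc
  have hcJ : c ∈ H.J := H.cent_J fun j _ => (hcm j).symm
  obtain ⟨v, hv⟩ := D.F.surj c hcJ
  have hfix : D.F.act (H.M0_le D.he) v = v := D.F.act_eq _ (by rw [hv, hcm D.e, mul_inv_cancel_right])
  rw [D.e_act] at hfix
  rw [Subgroup.mem_bot, ← hv, eMap_fixed _ D.es0 v hfix, D.F.map_zero']

include H in
/-- Without an odd element centralizing `Z` the group is the McLaughlin group; otherwise a subgroup of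
index two is, and the group is its automorphism group. -/
theorem mcl_or_aut : Nonempty (G ≃* Cfsg.Spor.McL) ∨ Nonempty (G ≃* MulAut Cfsg.Spor.McL) := by
  obtain ⟨D⟩ := exists_data H
  by_cases h1 : H.Case1
  · exact Or.inl (H.mcl_of_case1 D h1)
  obtain ⟨ν, hN, hJ, hsq, hact, hs⟩ := D.exists_nu h1
  let W : Twist D := ⟨ν, hN, hJ, hsq, hact, hs⟩
  obtain ⟨S, hz, ha, hg⟩ := W.nonempty_setup8
  obtain ⟨E⟩ := S.nonempty_mulEquiv
  obtain ⟨M, hMn, h2, hνM⟩ := W.exists_index_two E S hz ha hg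
  haveI := hMn
  let HM := H.restrict M h2
  obtain ⟨DM⟩ := exists_data HM
  have hM1 : HM.Case1 := by
    by_contra hne
    obtain ⟨ν', hN', hJ', hsq', hact', hs'⟩ := DM.exists_nu hne
    let W' : Twist DM := ⟨ν', hN', hJ', hsq', hact', hs'⟩
    have hSM : (H.S : Subgroup G) ≤ M := pgroup_le h2 H.S.2
    have hp : ν * (ν' : G) ∈ H.J := H.cent_J fun j hj => by
      have h1' : (ν' : G) * j * (ν' : G)⁻¹ = j⁻¹ :=
        congrArg Subtype.val (W'.ν_inv_J (show (⟨j, hSM (H.hJS hj)⟩ : M) ∈ HM.J from hj))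
      have h2' : ν * j⁻¹ * ν⁻¹ = j := by
        rw [show ν * j⁻¹ * ν⁻¹ = (ν * j * ν⁻¹)⁻¹ by group]
        rw [show ν * j * ν⁻¹ = j⁻¹ from W.ν_inv_J hj, inv_inv]
      calc ν * (ν' : G) * j = ν * ((ν' : G) * j * (ν' : G)⁻¹) * ν⁻¹ * (ν * ν') := by group
        _ = j * (ν * ν') := by rw [h1', h2']
    apply hνM
    have hpM : ν * (ν' : G) ∈ M := hSM (H.hJS hp)
    have := mul_mem hpM (inv_mem ν'.2)
    rwa [mul_inv_cancel_right] at this
  obtain ⟨f⟩ := HM.mcl_of_case1 DM hM1
  right
  have hinj : Function.Injective (MulAut.conjNormal : G →* MulAut M) := by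
    refine (injective_iff_map_eq_one _).mpr fun x hx => ?_
    have hc : ∀ m : M, x * m * x⁻¹ = m := fun m => by
      have := DFunLike.congr_fun hx m
      exact congrArg Subtype.val this
    have hxJ : x ∈ H.J := H.cent_J fun j hj =>
      mul_inv_eq_iff_eq_mul.mp (hc ⟨j, pgroup_le h2 H.S.2 (H.hJS hj)⟩)
    have hxM : x ∈ M := pgroup_le h2 H.S.2 (H.hJS hxJ)
    have hxc : (⟨x, hxM⟩ : M) ∈ Subgroup.center M := Subgroup.mem_center_iff.mpr fun m =>
      Subtype.ext (mul_inv_eq_iff_eq_mul.mp (hc m)).symm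
    rw [HM.center_eq_bot, Subgroup.mem_bot] at hxc
    exact congrArg Subtype.val hxc
  have hcardG : Nat.card G = 2 * Nat.card M := by
    rw [← M.card_mul_index, h2, mul_comm]
  haveI : Finite Cfsg.Spor.McL := Finite.of_equiv M f.toEquiv
  have hInn : Nat.card (Cfsg.Inn Cfsg.Spor.McL) = Nat.card M := by
    have hcj : Function.Injective (MulAut.conj : Cfsg.Spor.McL →* MulAut Cfsg.Spor.McL) := by
      refine (injective_iff_map_eq_one _).mpr fun x hx => ?_
      have hm : f.symm x ∈ Subgroup.center M := Subgroup.mem_center_iff.mpr fun m => by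
        refine f.injective ?_
        rw [map_mul, map_mul, MulEquiv.apply_symm_apply]
        have := DFunLike.congr_fun hx (f m)
        exact (mul_inv_eq_iff_eq_mul.mp this).symm
      rw [HM.center_eq_bot, Subgroup.mem_bot] at hm
      exact (map_eq_one_iff f.symm f.symm.injective).mp hm
    rw [← Nat.card_congr (MonoidHom.ofInjective hcj).toEquiv]
    exact (Nat.card_congr f.toEquiv).symm
  have hAut : Nat.card (MulAut Cfsg.Spor.McL) = 2 * Nat.card M := by
    rw [Subgroup.card_eq_card_quotient_mul_card_subgroup (Cfsg.Inn Cfsg.Spor.McL), hInn]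
    rw [show Nat.card (MulAut Cfsg.Spor.McL ⧸ Cfsg.Inn Cfsg.Spor.McL) = 2 from Cfsg.Agent.S2073.result]
  let g : G →* MulAut Cfsg.Spor.McL := (MulAut.congr f).toMonoidHom.comp MulAut.conjNormal
  have hg' : Function.Injective g := (MulAut.congr f).injective.comp hinj
  haveI : Finite (MulAut Cfsg.Spor.McL) :=
    Nat.finite_of_card_ne_zero (by rw [hAut, ← hcardG]; exact Nat.card_pos.ne')
  exact ⟨MulEquiv.ofBijective g ((Nat.bijective_iff_injective_and_card g).mpr ⟨hg', by rw [hAut, hcardG]⟩)⟩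

end Hyp

end CfsgLib.McLThree
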