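import Cfsg.Agent.Lib.NineSelfCent.Main
import Cfsg.Agent.Lib.Coprime.Generation

/-!
# A self-centralizing Sylow subgroup of order nine with an automizer of order at most two is normal
-/

set_option autoImplicit false
set_option linter.unusedSectionVars false

open scoped Pointwise

namespace CfsgLib.McLThree

open CfsgLib.NineSelfCent

universe u

variable {K : Type u} [Group K] [Finite K] {P : Sylow 3 K} {S : Subgroup K}

theorem zmod_five_cube : ∀ a : ZMod 5, a ^ 3 = 1 → a = 1 := by decide

theorem not_isCyclic_nine (h : NineSelfCent.Hyp P S) : ¬ IsCyclic S := by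
  intro hc
  obtain ⟨g, hg⟩ := IsCyclic.exists_generator (α := S)
  have h3 : orderOf g ∣ 3 := orderOf_dvd_of_pow_eq_one (Subtype.ext (by simpa using h.exp _ g.2))
  rw [orderOf_eq_card_of_forall_mem_zpowers hg, h.card] at h3
  norm_num at h3

/-- An invariant subgroup of order prime to three is trivial. -/
theorem invariant_eq_bot (h : NineSelfCent.Hyp P S) {W : Subgroup K}
    (hn : S ≤ Subgroup.normalizer (W : Set K)) (hcop : (Nat.card W).Coprime 3) : W = ⊥ := by
  haveI : IsMulCommutative S := ⟨⟨fun a b => Subtype.ext (h.comm _ a.2 _ b.2)⟩⟩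
  have hcop' : (Nat.card S).Coprime (Nat.card W) := by
    rw [h.card, show (9 : ℕ) = 3 ^ 2 by norm_num]
    exact Nat.Coprime.pow_left _ hcop.symm
  rw [eq_bot_iff]
  refine CfsgLib.Coprime.le_of_centralizer_le (not_isCyclic_nine h) hn hcop' fun g hg hg1 => ?_
  rw [h.cent g hg hg1, inf_comm, Subgroup.inf_eq_bot_of_coprime hcop']

theorem normal_of_eq (h : NineSelfCent.Hyp P S) (hN : Nat.card (Subgroup.normalizer (S : Set K)) = 9) :
    S = ⊤ := by
  haveI : Fact (Nat.Prime 3) := ⟨Nat.prime_three⟩
  have heq : S = Subgroup.normalizer (S : Set K) :=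
    Subgroup.eq_of_le_of_card_ge Subgroup.le_normalizer (by rw [hN, h.card])
  have hP : Subgroup.normalizer ((P : Subgroup K) : Set K) ≤
      Subgroup.centralizer ((P : Subgroup K) : Set K) := by
    rw [← h.eq, ← heq]
    exact fun a ha b hb => h.comm b hb a ha
  have hk := MonoidHom.ker_transferSylow_isComplement' P hP
  set W := (MonoidHom.transferSylow P hP).ker
  have hW : W = ⊥ := by
    refine invariant_eq_bot h (fun s _ => ?_) ?_
    · rw [Subgroup.normalizer_eq_top W]; exact Subgroup.mem_top s
    · exact ((Nat.prime_three.coprime_iff_not_dvd).mpr (MonoidHom.not_dvd_card_ker_transferSylow P hP)).symm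
  have hc := hk.card_mul
  rw [hW, Subgroup.card_bot, one_mul] at hc
  rw [h.eq]
  exact Subgroup.eq_top_of_card_eq _ hc

/-- The number of Sylow subgroups is congruent to one modulo nine. -/
theorem index_mod_nine (h : NineSelfCent.Hyp P S) :
    (Subgroup.normalizer (S : Set K)).index % 9 = 1 := by
  classical
  haveI : Fact (Nat.Prime 3) := ⟨Nat.prime_three⟩
  rw [h.eq, show (Subgroup.normalizer ((P : Subgroup K) : Set K)).index = Nat.card (Sylow 3 K) from
    P.card_eq_index_normalizer.symm]
  -- the subgroup acts semiregularly on the other Sylow subgroups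
  let σ : S →* Equiv.Perm (Sylow 3 K) := (MulAction.toPermHom K (Sylow 3 K)).comp S.subtype
  have hfix : ∀ s : S, s ≠ 1 → ∀ R : Sylow 3 K, (s : K) • R = R → R = P := by
    intro s hs R hR
    have hsN : (s : K) ∈ Subgroup.normalizer ((R : Subgroup K) : Set K) := Sylow.smul_eq_iff_mem_normalizer.mp hR
    have hsR : (s : K) ∈ (R : Subgroup K) := by
      have hp : IsPGroup 3 ↥(Subgroup.zpowers (s : K) ⊔ (R : Subgroup K)) :=
        IsPGroup.to_sup_of_normal_right' (h.isPGroup.to_le (Subgroup.zpowers_le.mpr s.2)) R.2
          (Subgroup.zpowers_le.mpr hsN)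
      rw [← R.3 hp le_sup_right]
      exact Subgroup.mem_sup_left (Subgroup.mem_zpowers _)
    refine Sylow.ext (Subgroup.eq_of_le_of_card_ge ?_ (le_of_eq (Nat.card_congr (P.equiv R).toEquiv)))
    intro r hr
    rw [← h.eq, ← h.cent s s.2 (coe_ne_one hs), Subgroup.mem_centralizer_singleton_iff]
    exact h.comm_of_isPGroup R.2 hr hsR
  letI : MulAction S (Sylow 3 K) := MulAction.compHom _ S.subtype
  have hmod := (IsPGroup.of_card (p := 3) (n := 2) (by rw [h.card]; norm_num) : IsPGroup 3 S)
  let X := {R : Sylow 3 K // R ≠ P}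
  haveI : Fintype X := Fintype.ofFinite X
  haveI : Fintype S := Fintype.ofFinite S
  have hPfix : ∀ s : S, (s : K) • P = P := fun s =>
    Sylow.smul_eq_iff_mem_normalizer.mpr (Subgroup.le_normalizer (h.eq ▸ s.2))
  letI : MulAction S X :=
    { smul := fun s R => ⟨(s : K) • R.1, fun e => R.2 (smul_left_cancel (s : K) (e.trans (hPfix s).symm))⟩
      one_smul := fun R => Subtype.ext (one_smul K R.1)
      mul_smul := fun a b R => Subtype.ext (mul_smul (a : K) (b : K) R.1) }
  have hfree : ∀ R : X, MulAction.stabilizer S R = ⊥ := fun R => (Subgroup.eq_bot_iff_forall _).mpr fun s hs => by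
    by_contra hs1
    exact R.2 (hfix s hs1 R.1 (congrArg Subtype.val hs))
  have h9 : 9 ∣ Fintype.card X := by
    rw [Fintype.card_congr (MulAction.selfEquivSigmaOrbits S X), Fintype.card_sigma]
    refine Finset.dvd_sum fun ω _ => ?_
    have := MulAction.card_orbit_mul_card_stabilizer_eq_card_group S (Quotient.out ω)
    rw [← Nat.card_eq_fintype_card (α := MulAction.stabilizer S (Quotient.out ω)), hfree, Subgroup.card_bot,
      mul_one, ← Nat.card_eq_fintype_card (α := S), h.card] at this
    rw [this]
  have e : Nat.card (Sylow 3 K) = Fintype.card X + 1 := by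
    rw [← Nat.card_eq_fintype_card, ← Finite.card_option (α := X)]
    exact (Nat.card_congr (Equiv.optionSubtypeNe P)).symm
  omega

theorem normal_of_eighteen (h : NineSelfCent.Hyp P S)
    (hN : Nat.card (Subgroup.normalizer (S : Set K)) = 18) : S.Normal := by
  haveI : Fact (Nat.Prime 3) := ⟨Nat.prime_three⟩
  have hle := h.order_two (by rw [hN])
  have hi := index_mod_nine h
  have hG := Subgroup.card_mul_index (Subgroup.normalizer (S : Set K))
  rw [hN] at hG
  set n := (Subgroup.normalizer (S : Set K)).index with hn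
  rcases (show n = 1 ∨ n = 10 ∨ n = 19 by omega) with e | e | e
  · exact Subgroup.normalizer_eq_top_iff.mp (Subgroup.index_eq_one.mp (hn ▸ e))
  · exfalso
    haveI : Fact (Nat.Prime 5) := ⟨by norm_num⟩
    obtain ⟨R⟩ := (inferInstance : Nonempty (Sylow 5 K))
    have hRc : Nat.card (R : Subgroup K) = 5 := by
      rw [R.card_eq_multiplicity, ← hG, e, show 18 * 10 = 5 ^ 1 * 36 by norm_num,
        Nat.factorization_mul (by norm_num) (by norm_num), Finsupp.add_apply,
        Nat.Prime.factorization_pow (by norm_num), Finsupp.single_eq_same,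
        Nat.factorization_eq_zero_of_not_dvd (by norm_num : ¬ 5 ∣ 36), add_zero, pow_one]
    have h5 := card_sylow_modEq_one 5 K
    have hRi := (R : Subgroup K).card_mul_index
    rw [hRc, ← hG, e] at hRi
    have hdvd : Nat.card (Sylow 5 K) ∣ 36 := by
      have := R.card_dvd_index
      rwa [show (R : Subgroup K).index = 36 by omega] at this
    have hNR := (Subgroup.normalizer ((R : Subgroup K) : Set K)).card_mul_index
    rw [show (Subgroup.normalizer ((R : Subgroup K) : Set K)).index = Nat.card (Sylow 5 K) from
      R.card_eq_index_normalizer.symm, ← hG, e] at hNR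
    have hcases : Nat.card (Sylow 5 K) = 1 ∨ Nat.card (Sylow 5 K) = 6 ∨ Nat.card (Sylow 5 K) = 36 := by
      have hle36 := Nat.le_of_dvd (by norm_num) hdvd
      have h1 : Nat.card (Sylow 5 K) % 5 = 1 := h5
      interval_cases Nat.card (Sylow 5 K) <;> omega
    rcases hcases with e5 | e5 | e5
    · rw [e5, mul_one] at hNR
      have htop : Subgroup.normalizer ((R : Subgroup K) : Set K) = ⊤ :=
        Subgroup.eq_top_of_card_eq _ (by rw [hNR, ← hG, e])
      have := invariant_eq_bot h (W := (R : Subgroup K)) (by rw [htop]; exact le_top) (by rw [hRc]; norm_num)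
      rw [this, Subgroup.card_bot] at hRc
      norm_num at hRc
    · rw [e5] at hNR
      obtain ⟨⟨y, hy⟩, hy3⟩ := exists_prime_orderOf_dvd_card'
        (G := Subgroup.normalizer ((R : Subgroup K) : Set K)) 3
        (by rw [show Nat.card (Subgroup.normalizer ((R : Subgroup K) : Set K)) = 30 by omega]; norm_num)
      rw [← Subgroup.orderOf_coe] at hy3
      change orderOf y = 3 at hy3
      have hy1 : y ≠ 1 := fun e => by rw [e, orderOf_one] at hy3; norm_num at hy3
      have hy' : y ^ 3 = 1 := hy3 ▸ pow_orderOf_eq_one y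
      haveI : IsCyclic (R : Subgroup K) := isCyclic_of_prime_card hRc
      obtain ⟨⟨r, hr⟩, hgen⟩ := IsCyclic.exists_generator (α := (R : Subgroup K))
      have hmem : y * r * y⁻¹ ∈ (R : Subgroup K) := (Subgroup.mem_normalizer_iff.mp hy r).mp hr
      obtain ⟨k, hk⟩ := hgen ⟨_, hmem⟩
      have hk' : r ^ k = y * r * y⁻¹ := congrArg Subtype.val hk
      have hr5 : r ^ (5 : ℤ) = 1 := by
        rw [show (5 : ℤ) = ((5 : ℕ) : ℤ) from rfl, zpow_natCast]
        have := congrArg Subtype.val (pow_card_eq_one' (x := (⟨r, hr⟩ : (R : Subgroup K))))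
        rwa [hRc] at this
      have hit : ∀ m : ℕ, y ^ m * r * (y ^ m)⁻¹ = r ^ (k ^ m) := by
        intro m
        induction m with
        | zero => simp
        | succ m ih =>
          rw [show y ^ (m + 1) * r * (y ^ (m + 1))⁻¹ = y * (y ^ m * r * (y ^ m)⁻¹) * y⁻¹ by
            rw [pow_succ']; group, ih, ← conj_zpow, ← hk', ← zpow_mul, pow_succ']
      have hc : y * r = r * y := by
        refine mul_inv_eq_iff_eq_mul.mp ?_
        have h3 := hit 3
        rw [hy', one_mul, inv_one, mul_one] at h3
        rw [← hk']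
        have hkey := zmod_five_cube
        have hr1 : r ≠ 1 := by
          intro e1
          have : Nat.card (R : Subgroup K) = 1 := by
            rw [← orderOf_eq_card_of_forall_mem_zpowers hgen, orderOf_eq_one_iff]; exact Subtype.ext e1
          omega
        have ho : orderOf r = 5 := orderOf_eq_prime (by exact_mod_cast hr5) hr1
        have e1 : ((k ^ 3 : ℤ) : ZMod 5) = ((1 : ℤ) : ZMod 5) := by
          rw [ZMod.intCast_eq_intCast_iff, ← ho]
          exact zpow_eq_zpow_iff_modEq.mp (by rw [← h3, zpow_one])
        push_cast at e1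
        have e2 : (k : ZMod 5) = ((1 : ℤ) : ZMod 5) := by push_cast; exact hkey _ e1
        rw [ZMod.intCast_eq_intCast_iff, ← ho] at e2
        rw [zpow_eq_zpow_iff_modEq.mpr e2, zpow_one]
      have hr3 := h.cube_of_comm hy' hy1 hc.symm
      have : (⟨r, hr⟩ : (R : Subgroup K)) ^ 3 = 1 := Subtype.ext hr3
      have hd := orderOf_dvd_of_pow_eq_one this
      rw [orderOf_eq_card_of_forall_mem_zpowers hgen, hRc] at hd
      norm_num at hd
    · rw [e5] at hNR
      have hNRle : Subgroup.normalizer ((R : Subgroup K) : Set K) = (R : Subgroup K) :=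
        (Subgroup.eq_of_le_of_card_ge Subgroup.le_normalizer (by rw [hRc]; omega)).symm
      haveI : IsCyclic (R : Subgroup K) := isCyclic_of_prime_card hRc
      have hP : Subgroup.normalizer ((R : Subgroup K) : Set K) ≤
          Subgroup.centralizer ((R : Subgroup K) : Set K) := by
        rw [hNRle]
        letI := IsCyclic.commGroup (α := (R : Subgroup K))
        exact fun a ha b hb => congrArg Subtype.val (mul_comm (⟨b, hb⟩ : (R : Subgroup K)) ⟨a, ha⟩)
      have hk := MonoidHom.ker_transferSylow_isComplement' R hP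
      set W := (MonoidHom.transferSylow R hP).ker
      haveI : W.Normal := MonoidHom.normal_ker _
      have hW : W.index = 5 := by rw [hk.symm.index_eq_card, hRc]
      have hSW : S ≤ W := fun s hs => by
        have h5' := W.pow_index_mem s
        rw [hW] at h5'
        have h3 := h.exp s hs
        have e1 : s = (s ^ 5)⁻¹ * (s ^ 3) ^ 2 := by group
        rw [e1, h3, one_pow, mul_one]; exact inv_mem h5'
      have hNW : Subgroup.normalizer (S : Set K) ≤ W := fun x hx => by
        have h18 : x ^ 18 = 1 := by
          have := congrArg Subtype.val (pow_card_eq_one' (x := (⟨x, hx⟩ : Subgroup.normalizer (S : Set K))))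
          rwa [hN] at this
        have h5' := W.pow_index_mem x
        rw [hW] at h5'
        have e1 : x = (x ^ 18) ^ 2 * ((x ^ 5) ^ 7)⁻¹ := by group
        rw [e1, h18, one_pow, one_mul]; exact inv_mem (pow_mem h5' _)
      have hfr := (P.subtype (h.eq ▸ hSW)).normalizer_sup_eq_top
      have hmap : ((P.subtype (h.eq ▸ hSW) : Sylow 3 W) : Subgroup W).map W.subtype = S := by
        show ((P : Subgroup K).subgroupOf W).map W.subtype = S
        rw [Subgroup.subgroupOf_map_subtype, h.eq, inf_eq_left.mpr (h.eq ▸ hSW)]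
      rw [hmap, sup_eq_right.mpr hNW] at hfr
      rw [hfr, Subgroup.index_top] at hW
      norm_num at hW
  · exfalso
    haveI : Fact (Nat.Prime 19) := ⟨by norm_num⟩
    obtain ⟨R⟩ := (inferInstance : Nonempty (Sylow 19 K))
    have hRc : Nat.card (R : Subgroup K) = 19 := by
      rw [R.card_eq_multiplicity, ← hG, e, show 18 * 19 = 19 ^ 1 * 18 by norm_num,
        Nat.factorization_mul (by norm_num) (by norm_num), Finsupp.add_apply,
        Nat.Prime.factorization_pow (by norm_num), Finsupp.single_eq_same,
        Nat.factorization_eq_zero_of_not_dvd (by norm_num : ¬ 19 ∣ 18), add_zero, pow_one]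
    have h19 : Nat.card (Sylow 19 K) % 19 = 1 := card_sylow_modEq_one 19 K
    have hRi := (R : Subgroup K).card_mul_index
    rw [hRc, ← hG, e] at hRi
    have hd := R.card_dvd_index
    rw [show (R : Subgroup K).index = 18 by omega] at hd
    have hle18 := Nat.le_of_dvd (by norm_num) hd
    have e1 : Nat.card (Sylow 19 K) = 1 := by omega
    have htop : Subgroup.normalizer ((R : Subgroup K) : Set K) = ⊤ := by
      rw [← Subgroup.index_eq_one]; exact R.card_eq_index_normalizer.symm.trans e1
    have := invariant_eq_bot h (W := (R : Subgroup K)) (by rw [htop]; exact le_top) (by rw [hRc]; norm_num)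
    rw [this, Subgroup.card_bot] at hRc
    norm_num at hRc

end CfsgLib.McLThree
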