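import Cfsg.Agent.Lib.McLThree.Kernel

/-!
# Finite facts about the maps fixing or interchanging two lines
-/

set_option autoImplicit false
set_option maxRecDepth 20000
set_option synthInstance.maxSize 4000
set_option synthInstance.maxHeartbeats 400000

namespace CfsgLib.McLThree

/-- Two anti-similitudes with square in `±1` multiply to `±1` or to a rotation. -/
theorem anti_prod : ∀ p q r s : ZMod 3, p * p + q * q = 2 → r * r + s * s = 2 →
    (p + r) * (p + r) + (q + s) * (q + s) = 1 →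
    ((∀ v, dMap 2 1 p q r s (dMap 2 1 p q r s v) = v) ∨ ∀ v, dMap 2 1 p q r s (dMap 2 1 p q r s v) = tauV v) →
    ∀ p' q' r' s' : ZMod 3, p' * p' + q' * q' = 2 → r' * r' + s' * s' = 2 →
    (p' + r') * (p' + r') + (q' + s') * (q' + s') = 1 →
    ((∀ v, dMap 1 2 p' q' r' s' (dMap 1 2 p' q' r' s' v) = v) ∨
      ∀ v, dMap 1 2 p' q' r' s' (dMap 1 2 p' q' r' s' v) = tauV v) →
    (∀ v, dMap 2 1 p q r s (dMap 1 2 p' q' r' s' v) = -v) ∨
      (∀ v, dMap 2 1 p q r s (dMap 1 2 p' q' r' s' v) = -tauV v) ∨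
      ∃ s0 : ZMod 3, s0 ≠ 0 ∧ ∀ v, dMap 2 1 p q r s (dMap 1 2 p' q' r' s' v) = eMap 2 s0 v := by
  decide +kernel

/-- The maps which fix both lines and come from the centralizer. -/
def fixMap (k s : ZMod 3) (v : V4) : V4 :=
  if k = 0 then v else if k = 1 then tauV v else eMap 1 s v

/-- An element interchanging the lines with an inverting square has order eight. -/
theorem no_four : ∀ p q r s : ZMod 3, p * p + q * q = 2 → r * r + s * s = 2 →
    (p + r) * (p + r) + (q + s) * (q + s) = 1 →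
    ((∀ v, dMap 1 2 p q r s (dMap 1 2 p q r s v) = v) ∨ ∀ v, dMap 1 2 p q r s (dMap 1 2 p q r s v) = tauV v) →
    ∀ a gp gq : ZMod 3, a ≠ 0 → gp * gp + gq * gq = 1 → ∀ k s0 : ZMod 3, s0 ≠ 0 → ∀ ε : ZMod 3, ε ≠ 0 →
    ¬ ((∀ v ∈ ([eA, eC] : List V4),
        ((fun u => ε.val • fixMap k s0 (dMap 1 2 p q r s (dMap 1 2 p q r s (dMap 1 2 p q r s (gMap a gp gq u)))))
          ((fun u => ε.val • fixMap k s0 (dMap 1 2 p q r s (dMap 1 2 p q r s (dMap 1 2 p q r s (gMap a gp gq u)))))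
            ((fun u => ε.val • fixMap k s0 (dMap 1 2 p q r s (dMap 1 2 p q r s (dMap 1 2 p q r s (gMap a gp gq u)))))
              ((fun u => ε.val • fixMap k s0 (dMap 1 2 p q r s (dMap 1 2 p q r s (dMap 1 2 p q r s (gMap a gp gq u)))))
                v)))) = v) ∧
      ((fun u => ε.val • fixMap k s0 (dMap 1 2 p q r s (dMap 1 2 p q r s (dMap 1 2 p q r s (gMap a gp gq u)))))
        ((fun u => ε.val • fixMap k s0 (dMap 1 2 p q r s (dMap 1 2 p q r s (dMap 1 2 p q r s (gMap a gp gq u)))))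
          eZ)) = -eZ) := by
  decide +kernel

end CfsgLib.McLThree
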