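import Cfsg.Agent.Lib.McLThree.Bar
import Cfsg.Agent.Lib.McLThree.TwoMaps

/-!
# An involution inverting `J`
-/

set_option autoImplicit false
set_option linter.unusedSectionVars false

open Equiv

namespace CfsgLib.McLThree

theorem exists_inverting : ∀ x : SL25, x ^ 3 = 1 → x ≠ 1 → ∃ y : SL25, y * x * y⁻¹ * x = 1 := by
  decide +kernel

theorem eMap_flip : ∀ s0 e0 : ZMod 3, s0 ≠ 0 → e0 ≠ 0 → ∀ v,
    (s0 = e0 → eMap 2 s0 (eMap 2 e0 (tauV v)) = v) ∧ (s0 ≠ e0 → eMap 2 s0 (eMap 2 e0 v) = v) := by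
  decide +kernel

theorem neg_eMap : ∀ e0 : ZMod 3, e0 ≠ 0 → ∀ v, -(eMap 2 e0 v) = eMap 1 (-e0) v := by decide +kernel

theorem eMap_one_cases : ∀ s0 : ZMod 3, s0 ≠ 0 → ∀ v, eMap 1 s0 (tauV v) = eMap 1 (-s0) v := by
  decide +kernel

theorem eMap_one_inv : ∀ s0 : ZMod 3, s0 ≠ 0 → ∀ v, eMap 1 s0 (eMap 1 (-s0) v) = v := by
  decide +kernel

theorem tauV_tauV : ∀ v : V4, tauV (tauV v) = v := by decide +kernel

theorem fixMap_lines : ∀ k s : ZMod 3, fixMap k s eZ = eZ ∧ fixMap k s eB = eB := by decide +kernel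

namespace Data

variable {G : Type*} [Group G] [Finite G] {H : Hyp G} (D : Data H)

theorem act_inv_cancel {h : G} (hh : h ∈ H.NJ) (v : V4) :
    D.F.act (inv_mem hh) (D.F.act hh v) = v ∧ D.F.act hh (D.F.act (inv_mem hh) v) = v := by
  constructor <;> refine D.F.act_eq _ ?_ <;> rw [D.F.act_spec] <;> group

/-- An element of `C` acting trivially on `J` has trivial or central image. -/
theorem θ_of_act_triv {f : G} (hf : f ∈ H.N1) (hfJ : f ∈ H.NJ) (hact : ∀ v, D.F.act hfJ v = v) :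
    Perm.sign (H.θ ⟨f, hf⟩) = 1 := by
  have hJ : f ∈ H.J := D.F.act_id_mem hfJ hact
  have hK : f ∈ H.K := ⟨hf.1, H.S_le_L0 (H.hJS hJ)⟩
  exact H.θ_K_even hK

theorem exists_b_inverter : ∃ x, ∃ hx : x ∈ H.K, ∃ hxJ : x ∈ H.NJ, D.F.act hxJ eZ = eZ ∧ D.F.act hxJ eB = -eB := by
  obtain ⟨h3, h1⟩ := D.piL_b_spec
  obtain ⟨y, hy⟩ := exists_inverting _ h3 h1
  obtain ⟨x, hx, hxy⟩ := H.exists_K_lift y
  have hmem : x * D.b * x⁻¹ * D.b ∈ H.Z := by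
    have hK : x * D.b * x⁻¹ * D.b ∈ H.K := mul_mem (mul_mem (mul_mem hx D.b_K) (inv_mem hx)) D.b_K
    refine H.Q_cent_t ((H.piL_ker ⟨_, hK.2⟩).mp ?_) hK.1
    rw [show (⟨x * D.b * x⁻¹ * D.b, hK.2⟩ : H.L0) = ⟨x, hx.2⟩ * ⟨D.b, D.b_K.2⟩ * ⟨x, hx.2⟩⁻¹ * ⟨D.b, D.b_K.2⟩
      from rfl, map_mul, map_mul, map_mul, map_inv, hxy, hy]
  have hxJ : x ∈ H.NJ := D.NJ_of_b (H.L0_le hx.2) (by
    have := mul_mem (H.Z_le_S hmem) (inv_mem (H.hJS D.b_J))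
    rwa [mul_inv_cancel_right] at this)
  exact ⟨x, hx, hxJ, (D.z_dir hxJ).1 (H.Z_conj_L0 hx.2), (D.b_dir hxJ hx.1).2 hmem⟩

theorem K_square {x : G} (hx : x ∈ H.K) (hxJ : x ∈ H.NJ) (hB : D.F.act hxJ eB = -eB) :
    (∀ v, D.F.act hxJ (D.F.act hxJ v) = v) ∨ ∀ v, D.F.act hxJ (D.F.act hxJ v) = tauV v := by
  have h := D.K_cent_act (mul_mem hx hx) (mul_mem hxJ hxJ) (by
    show x * x * D.F.φ eB * (x * x)⁻¹ = D.F.φ eB
    rw [← D.F.act_spec (mul_mem hxJ hxJ), D.F.act_mul hxJ hxJ, hB, map_neg, hB, neg_neg])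
  rcases h with h | h
  · exact Or.inl fun v => by rw [← D.F.act_mul hxJ hxJ]; exact h v
  · exact Or.inr fun v => by rw [← D.F.act_mul hxJ hxJ]; exact h v

/-- If some element centralizing `Z` is odd, an involution inverts `J`. -/
theorem exists_nu (h2 : ¬ H.Case1) : ∃ ν, ∃ hν : ν ∈ H.N1, ∃ hJ : ν ∈ H.NJ,
    ν * ν = 1 ∧ (∀ v, D.F.act hJ v = -v) ∧ Perm.sign (H.θ ⟨ν, hν⟩) = 1 := by
  simp only [Hyp.Case1, not_forall] at h2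
  obtain ⟨c, hc, hcz, hcs⟩ := h2
  obtain ⟨he, hez, -⟩ := D.e_N1
  have heJ := H.M0_le D.he
  have hce : Perm.sign (H.θ ⟨c * D.e, mul_mem hc he⟩) = 1 := by
    rw [show (⟨c * D.e, _⟩ : H.N1) = ⟨c, hc⟩ * ⟨D.e, he⟩ from rfl, map_mul, map_mul, D.sign_e,
      (Int.units_eq_one_or _).resolve_left hcs]
    rfl
  obtain ⟨x0, hx0, hx0θ⟩ := H.θ_alt hce
  set d := c * D.e * x0⁻¹ with hd
  have hdN : d ∈ H.N1 := mul_mem (mul_mem hc he) (inv_mem (H.K_le_N1 hx0))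
  have hdθ : H.θ ⟨d, hdN⟩ = 1 := by
    rw [show (⟨d, hdN⟩ : H.N1) = ⟨c * D.e, mul_mem hc he⟩ * ⟨x0, H.K_le_N1 hx0⟩⁻¹ from rfl, map_mul,
      map_inv, hx0θ, mul_inv_cancel]
  have hdz : d * H.z * d⁻¹ = H.z⁻¹ := by
    have h0 : x0⁻¹ * H.z * x0⁻¹⁻¹ = H.z := H.Z_conj_L0 (inv_mem hx0.2)
    rw [hd, show c * D.e * x0⁻¹ * H.z * (c * D.e * x0⁻¹)⁻¹ =
      c * (D.e * (x0⁻¹ * H.z * x0⁻¹⁻¹) * D.e⁻¹) * c⁻¹ by group, h0, hez,
      show c * H.z⁻¹ * c⁻¹ = (c * H.z * c⁻¹)⁻¹ by group, hcz]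
  obtain ⟨hdJ, hdB⟩ := D.ker_b hdN hdθ
  have h12 : (1 : ZMod 3) ≠ 0 ∧ (2 : ZMod 3) ≠ 0 := by decide
  obtain ⟨p, q, r, s, d1, d2, d3, hdact⟩ := D.diag hdJ h12.2 h12.1
    (by rw [(D.z_dir hdJ).2 hdz]; rfl) (by rw [hdB]; rfl)
  have hdd : (∀ v, D.F.act hdJ (D.F.act hdJ v) = v) ∨ ∀ v, D.F.act hdJ (D.F.act hdJ v) = tauV v := by
    have hθ : H.θ ⟨d * d, mul_mem hdN hdN⟩ = 1 := by
      rw [show (⟨d * d, _⟩ : H.N1) = ⟨d, hdN⟩ * ⟨d, hdN⟩ from rfl, map_mul, hdθ, one_mul]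
    have hz : d * d * H.z * (d * d)⁻¹ = H.z := by
      rw [show d * d * H.z * (d * d)⁻¹ = d * (d * H.z * d⁻¹) * d⁻¹ by group, hdz,
        show d * H.z⁻¹ * d⁻¹ = (d * H.z * d⁻¹)⁻¹ by group, hdz, inv_inv]
    rcases D.ker_cases (mul_mem hdN hdN) hθ hz with h | h
    · left; intro v
      rw [← D.F.act_mul hdJ hdJ, D.F.act_of_J (mul_mem hdJ hdJ) (H.Z_le_J h)]
    · right; intro v
      rw [← D.F.act_mul hdJ hdJ, Geo.act_congr D.toGeo (show d * d = H.t * (H.t * (d * d)) by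
          rw [← mul_assoc H.t H.t, H.t_sq, one_mul]) _ (mul_mem H.t_NJ (H.M0_le (H.hJM (H.Z_le_J h)))),
        D.F.act_mul H.t_NJ (H.M0_le (H.hJM (H.Z_le_J h))), D.F.act_of_J _ (H.Z_le_J h), D.toGeo.act_t]
  obtain ⟨x, hxK, hxJ, hxZ, hxB⟩ := D.exists_b_inverter
  obtain ⟨p', q', r', s', x1, x2, x3, hxact⟩ := D.diag hxJ h12.1 h12.2
    (by rw [hxZ]; rfl) (by rw [hxB]; rfl)
  have hxx := D.K_square hxK hxJ hxB
  simp only [hdact] at hdd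
  simp only [hxact] at hxx
  have huJ : d * x ∈ H.NJ := mul_mem hdJ hxJ
  have huN : d * x ∈ H.N1 := mul_mem hdN (H.K_le_N1 hxK)
  have hus : Perm.sign (H.θ ⟨d * x, huN⟩) = 1 := by
    rw [show (⟨d * x, huN⟩ : H.N1) = ⟨d, hdN⟩ * ⟨x, H.K_le_N1 hxK⟩ from rfl, map_mul, hdθ, one_mul]
    exact H.θ_K_even hxK
  have hu : ∀ v, D.F.act huJ v = dMap 2 1 p q r s (dMap 1 2 p' q' r' s' v) := fun v => by
    rw [D.F.act_mul hdJ hxJ, hdact, hxact]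
  have finish : ∀ ν, ∀ hν : ν ∈ H.N1, ∀ hJ : ν ∈ H.NJ, (∀ v, D.F.act hJ v = -v) →
      Perm.sign (H.θ ⟨ν, hν⟩) = 1 → ∃ ν, ∃ hν : ν ∈ H.N1, ∃ hJ : ν ∈ H.NJ,
      ν * ν = 1 ∧ (∀ v, D.F.act hJ v = -v) ∧ Perm.sign (H.θ ⟨ν, hν⟩) = 1 := by
    intro ν hν hJ hact hs
    refine ⟨ν, hν, hJ, ?_, hact, hs⟩
    have h2J : ν * ν ∈ H.J := D.F.act_id_mem (mul_mem hJ hJ) fun v => by
      rw [D.F.act_mul hJ hJ, hact, hact, neg_neg]
    obtain ⟨w, hw⟩ := D.F.surj _ h2J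
    have h := D.F.act_spec hJ w
    rw [hact, D.F.map_neg', hw, show ν * (ν * ν) * ν⁻¹ = ν * ν by group] at h
    have h2 := mul_eq_one_iff_inv_eq.mpr h
    have h3 := H.hJexp _ h2J
    rwa [pow_succ, pow_two, h2, one_mul] at h3
  rcases anti_prod p q r s d1 d2 (d3.trans (by decide)) hdd p' q' r' s' x1 x2 (x3.trans (by decide)) hxx with
    h | h | ⟨s0, hs0, h⟩
  · exact finish _ huN huJ (fun v => by rw [hu, h]) hus
  · refine finish (H.t * (d * x)) (mul_mem (H.K_le_N1 H.t_mem_K) huN) (mul_mem H.t_NJ huJ) (fun v => ?_) ?_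
    · rw [D.F.act_mul H.t_NJ huJ, hu, h, D.toGeo.act_t]; simp [tauV, Prod.ext_iff]
    · rw [show (⟨H.t * (d * x), _⟩ : H.N1) = ⟨H.t, H.K_le_N1 H.t_mem_K⟩ * ⟨d * x, huN⟩ from rfl, map_mul,
        H.θ_t, one_mul]
      exact hus
  · exfalso
    have het : D.e * H.t ∈ H.NJ := mul_mem heJ H.t_NJ
    by_cases hse : s0 = D.es
    · have := D.θ_of_act_triv (f := d * x * (D.e * H.t)) (mul_mem huN (mul_mem he (H.K_le_N1 H.t_mem_K)))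
        (mul_mem huJ het) fun v => by
          rw [D.F.act_mul huJ het, D.F.act_mul heJ H.t_NJ, hu, h, D.e_act, D.toGeo.act_t,
            (eMap_flip s0 D.es hs0 D.es0 v).1 hse]
      rw [show (⟨d * x * (D.e * H.t), _⟩ : H.N1) =
        ⟨d * x, huN⟩ * (⟨D.e, he⟩ * ⟨H.t, H.K_le_N1 H.t_mem_K⟩) from rfl, map_mul, map_mul, map_mul, map_mul,
        hus, D.sign_e, H.θ_t, map_one] at this
      exact absurd this (by decide)
    · have := D.θ_of_act_triv (f := d * x * D.e) (mul_mem huN he) (mul_mem huJ heJ) fun v => by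
        rw [D.F.act_mul huJ heJ, hu, h, D.e_act, (eMap_flip s0 D.es hs0 D.es0 v).2 hse]
      rw [show (⟨d * x * D.e, _⟩ : H.N1) = ⟨d * x, huN⟩ * ⟨D.e, he⟩ from rfl, map_mul, map_mul, hus,
        D.sign_e] at this
      exact absurd this (by decide)

end Data

/-- An involution of `C` inverting `J`. -/
structure Twist {G : Type*} [Group G] [Finite G] {H : Hyp G} (D : Data H) where
  ν : G
  hN : ν ∈ H.N1
  hJ : ν ∈ H.NJ
  sq : ν * ν = 1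
  act : ∀ v, D.F.act hJ v = -v
  sgn : Perm.sign (H.θ ⟨ν, hN⟩) = 1

namespace Twist

variable {G : Type*} [Group G] [Finite G] {H : Hyp G} {D : Data H} (W : Twist D)

theorem ν_z : W.ν * H.z * W.ν⁻¹ = H.z⁻¹ := by
  rw [← D.F.map_z, ← D.F.act_spec W.hJ, W.act, D.F.map_neg']

theorem ν_inv_J {j : G} (hj : j ∈ H.J) : W.ν * j * W.ν⁻¹ = j⁻¹ := by
  obtain ⟨v, rfl⟩ := D.F.surj j hj
  rw [← D.F.act_spec W.hJ, W.act, D.F.map_neg']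

/-- The odd element centralizing both lines. -/
def cc : G := W.ν * D.e

theorem cc_N1 : W.cc ∈ H.N1 := mul_mem W.hN D.e_N1.1

theorem cc_NJ : W.cc ∈ H.NJ := mul_mem W.hJ (H.M0_le D.he)

theorem cc_sign : Perm.sign (H.θ ⟨W.cc, W.cc_N1⟩) = -1 := by
  rw [show (⟨W.cc, W.cc_N1⟩ : H.N1) = ⟨W.ν, W.hN⟩ * ⟨D.e, D.e_N1.1⟩ from rfl, map_mul, map_mul, W.sgn,
    D.sign_e]
  rfl

theorem cc_act (v : V4) : D.F.act W.cc_NJ v = eMap 1 (-D.es) v :=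
  (D.F.act_mul W.hJ (H.M0_le D.he) v).trans (by rw [W.act, D.e_act, neg_eMap _ D.es0])

theorem cc_z : W.cc * H.z * W.cc⁻¹ = H.z := by
  rw [← D.F.map_z, ← D.F.act_spec W.cc_NJ, W.cc_act]
  congr 1

include W in
/-- Elements of `N1` centralizing `Z`, modulo the kernel. -/
theorem cases_centralizing {h : G} (hh : h ∈ H.N1) (hz : h * H.z * h⁻¹ = H.z) :
    h ∈ H.K ∨ h * W.cc⁻¹ ∈ H.K := by
  have key : ∀ u : G, ∀ hu : u ∈ H.N1, u * H.z * u⁻¹ = H.z → Perm.sign (H.θ ⟨u, hu⟩) = 1 → u ∈ H.K := by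
    intro u hu huz hs
    obtain ⟨x, hx, e⟩ := H.θ_alt hs
    have hθ : H.θ ⟨u * x⁻¹, mul_mem hu (inv_mem (H.K_le_N1 hx))⟩ = 1 := by
      rw [show (⟨u * x⁻¹, _⟩ : H.N1) = ⟨u, hu⟩ * ⟨x, H.K_le_N1 hx⟩⁻¹ from rfl, map_mul, map_inv, e,
        mul_inv_cancel]
    have hxz : x⁻¹ * H.z * x⁻¹⁻¹ = H.z := H.Z_conj_L0 (inv_mem hx.2)
    rcases D.ker_cases _ hθ (by
      rw [show u * x⁻¹ * H.z * (u * x⁻¹)⁻¹ = u * (x⁻¹ * H.z * x⁻¹⁻¹) * u⁻¹ by group, hxz, huz]) with h | h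
    · have := mul_mem (H.Z_le_K h) hx
      rwa [inv_mul_cancel_right] at this
    · have := mul_mem (mul_mem H.t_mem_K (H.Z_le_K h)) hx
      rwa [← mul_assoc H.t, H.t_sq, one_mul, inv_mul_cancel_right] at this
  rcases Int.units_eq_one_or (Perm.sign (H.θ ⟨h, hh⟩)) with hs | hs
  · exact Or.inl (key h hh hz hs)
  · refine Or.inr (key _ (mul_mem hh (inv_mem W.cc_N1)) ?_ ?_)
    · have : W.cc⁻¹ * H.z * W.cc⁻¹⁻¹ = H.z := by
        conv_lhs => rw [← W.cc_z]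
        group
      rw [show h * W.cc⁻¹ * H.z * (h * W.cc⁻¹)⁻¹ = h * (W.cc⁻¹ * H.z * W.cc⁻¹⁻¹) * h⁻¹ by group, this, hz]
    · rw [show (⟨h * W.cc⁻¹, _⟩ : H.N1) = ⟨h, hh⟩ * ⟨W.cc, W.cc_N1⟩⁻¹ from rfl, map_mul, map_inv, map_mul,
        map_inv, hs, W.cc_sign]
      rfl

include W in
/-- The action of the elements fixing both lines. -/
theorem fix_lines {h : G} (hC : h ∈ H.C) (hJ : h ∈ H.NJ) (hZ : D.F.act hJ eZ = eZ) (hB : D.F.act hJ eB = eB) :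
    ∃ k s0 : ZMod 3, s0 ≠ 0 ∧ ∀ v, D.F.act hJ v = fixMap k s0 v := by
  have hz : h * H.z * h⁻¹ = H.z := by rw [← D.F.map_z, ← D.F.act_spec hJ, hZ]
  have hb : h * D.b * h⁻¹ = D.b := by rw [Data.b, ← D.F.act_spec hJ, hB]
  have h10 : (1 : ZMod 3) ≠ 0 := by decide
  rcases W.cases_centralizing (H.mem_N1_of_conj hC (Or.inl hz)) hz with h' | h'
  · rcases D.K_cent_act h' hJ hb with e | e
    · exact ⟨0, 1, h10, fun v => by rw [e]; rfl⟩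
    · exact ⟨1, 1, h10, fun v => by rw [e]; rfl⟩
  · have hJ' : h * W.cc⁻¹ ∈ H.NJ := mul_mem hJ (inv_mem W.cc_NJ)
    have hcb : W.cc * D.b * W.cc⁻¹ = D.b := by
      rw [Data.b, ← D.F.act_spec W.cc_NJ, W.cc_act]
      congr 1
    have hb' : h * W.cc⁻¹ * D.b * (h * W.cc⁻¹)⁻¹ = D.b := by
      have : W.cc⁻¹ * D.b * W.cc⁻¹⁻¹ = D.b := by
        conv_lhs => rw [← hcb]
        group
      rw [show h * W.cc⁻¹ * D.b * (h * W.cc⁻¹)⁻¹ = h * (W.cc⁻¹ * D.b * W.cc⁻¹⁻¹) * h⁻¹ by group, this, hb]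
    have hsplit : ∀ v, D.F.act hJ v = D.F.act hJ' (eMap 1 (-D.es) v) := fun v => by
      rw [← W.cc_act, ← D.F.act_mul hJ' W.cc_NJ]
      exact Geo.act_congr D.toGeo (inv_mul_cancel_right h W.cc).symm _ _ v
    have hes : -D.es ≠ 0 := neg_ne_zero.mpr D.es0
    rcases D.K_cent_act h' hJ' hb' with e | e
    · exact ⟨2, -D.es, hes, fun v => by rw [hsplit, e]; rfl⟩
    · refine ⟨2, D.es, D.es0, fun v => ?_⟩
      have h1 : ∀ s0 : ZMod 3, ∀ u, tauV (eMap 1 (-s0) u) = eMap 1 s0 u := by decide +kernel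
      rw [hsplit, e, h1]; rfl

end Twist

end CfsgLib.McLThree
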