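import Cfsg.Agent.Lib.McLThree.Two

/-!
# The inverting involution is not conjugate to `t`
-/

set_option autoImplicit false
set_option linter.unusedSectionVars false

open Equiv

namespace CfsgLib.McLThree

theorem tr_group : ∀ w w' : ZMod 3 × ZMod 3, ∀ v : V4, tr 1 w (tr 1 w' v) = tr 1 (w + w') v ∧
    tr 1 w (tr 1 w (tr 1 w v)) = v ∧ tauV (tr 1 w (tauV v)) = tr 1 (-w) v := by decide +kernel

namespace Data

variable {G : Type*} [Group G] [Finite G] {H : Hyp G} (D : Data H)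

theorem Dg_le_J : D.Dg ≤ H.J := by
  rintro x ⟨i, j, rfl⟩
  exact D.F.mem _

theorem b_Dg : D.b ∈ D.Dg := by rw [D.b_pow]; exact pow_mem D.a_Dg _

/-- An element of `C` normalizing the two lines lies in the normalizer of `J`. -/
theorem NJ_of_norm_Dg {s : G} (hs : s ∈ H.C) (hn : ∀ d ∈ D.Dg, s * d * s⁻¹ ∈ D.Dg) : s ∈ H.NJ := by
  have key : ∀ u : G, u ∈ H.C → u * H.z * u⁻¹ ∈ H.Z → (u * D.b * u⁻¹ ∈ H.J) → u ∈ H.NJ := by
    intro u hu hz hb
    have hN : u ∈ H.N1 := H.mem_N1_of_conj hu (by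
      rcases H.mem_Z_cases hz with e | e | e
      · exact absurd (conj_eq_one_iff.mp e) H.z_spec.2.2.1
      · exact Or.inl e
      · exact Or.inr e)
    exact D.NJ_of_b hN.2 (H.hJS hb)
  obtain ⟨i, j, e⟩ := hn _ D.z_Dg
  by_cases hj : j = 0
  · refine key s hs ?_ (D.Dg_le_J (hn _ D.b_Dg))
    rw [← e, hj, ((line_facts 1 0 one_ne_zero).2 i).2]
    exact D.F.z_mem_pow _
  · by_cases hi : i = 0
    · have hg : D.g3 * s ∈ H.NJ := by
        refine key _ (mul_mem D.g3_C hs) ?_ ?_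
        · rw [show D.g3 * s * H.z * (D.g3 * s)⁻¹ = D.g3 * (s * H.z * s⁻¹) * D.g3⁻¹ by group, ← e, hi,
            ← (line_facts D.ga j D.ga0).1, D.F.map_nsmul']
          show D.g3 * D.a ^ (j * D.ga).val * D.g3⁻¹ ∈ H.Z
          rw [← conj_pow, D.g3_a]
          exact pow_mem H.z_spec.1 _
        · rw [show D.g3 * s * D.b * (D.g3 * s)⁻¹ = D.g3 * (s * D.b * s⁻¹) * D.g3⁻¹ by group]
          exact (Subgroup.mem_normalizer_iff.mp D.g3_NJ _).mp (D.Dg_le_J (hn _ D.b_Dg))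
      have := mul_mem D.g3_NJ hg
      rwa [← mul_assoc, D.g3_sq, one_mul] at this
    · exact absurd e.symm (D.not_mixed hi hj)

/-- A three-subgroup of `C` of order at least nine is conjugate in `C` to `⟨z, b⟩`. -/
theorem exists_conj_Dg {P : Subgroup G} (hP : IsPGroup 3 P) (hPC : P ≤ H.C) (hcard : 9 ≤ Nat.card P) :
    ∃ c ∈ H.C, P.map (MulAut.conj c).toMonoidHom = D.Dg := by
  haveI : Fact (Nat.Prime 3) := ⟨Nat.prime_three⟩
  let DC : Subgroup H.C := D.Dg.subgroupOf H.C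
  have hDC : IsPGroup 3 DC :=
    D.Dg_pgroup.of_injective (Subgroup.subgroupOfEquivOfLe D.Dg_le_C).toMonoidHom (MulEquiv.injective _)
  obtain ⟨R, hR⟩ := hDC.exists_le_sylow
  have hRD : (R : Subgroup H.C) ≤ DC := fun x hx =>
    D.Dg_max (P := (R : Subgroup H.C).map H.C.subtype) (R.2.map _) (Subgroup.map_subtype_le _)
      (fun d hd => ⟨⟨d, D.Dg_le_C hd⟩, hR hd, rfl⟩) ⟨x, hx, rfl⟩
  let PC : Subgroup H.C := P.subgroupOf H.C
  have hPC' : IsPGroup 3 PC :=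
    hP.of_injective (Subgroup.subgroupOfEquivOfLe hPC).toMonoidHom (MulEquiv.injective _)
  obtain ⟨R', hR'⟩ := hPC'.exists_le_sylow
  obtain ⟨c, hc⟩ := MulAction.exists_smul_eq H.C R' R
  refine ⟨c, c.2, ?_⟩
  refine Subgroup.eq_of_le_of_card_ge ?_ ?_
  · rintro _ ⟨x, hx, rfl⟩
    have hm : c * ⟨x, hPC hx⟩ * c⁻¹ ∈ (R : Subgroup H.C) := by
      rw [← hc, Sylow.coe_subgroup_smul]
      exact ⟨⟨x, hPC hx⟩, hR' hx, rfl⟩
    exact hRD hm
  · rw [Subgroup.card_map_of_injective (MulEquiv.injective _)]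
    exact le_trans D.card_Dg hcard

end Data

namespace Twist

variable {G : Type*} [Group G] [Finite G] {H : Hyp G} {D : Data H} (W : Twist D)

/-- Elements of `M0` have translates by `J` centralizing the inverting involution. -/
theorem exists_fix {x : G} (hx : x ∈ H.M0) : ∃ j ∈ H.J, W.ν * (j * x) * W.ν⁻¹ = j * x := by
  have hxJ := H.M0_le hx
  have hinv : W.ν⁻¹ = W.ν := inv_eq_of_mul_eq_one_left W.sq
  set j0 := W.ν * x * W.ν * x⁻¹ with hj0
  have hj0J : j0 ∈ H.J := D.F.act_id_mem (mul_mem (mul_mem (mul_mem W.hJ hxJ) W.hJ) (inv_mem hxJ)) fun v => by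
    rw [D.F.act_mul (mul_mem (mul_mem W.hJ hxJ) W.hJ) (inv_mem hxJ), D.F.act_mul (mul_mem W.hJ hxJ) W.hJ,
      D.F.act_mul W.hJ hxJ, W.act, W.act, map_neg, neg_neg, (D.act_inv_cancel hxJ v).2]
  refine ⟨j0 * j0, mul_mem hj0J hj0J, ?_⟩
  have h3 : j0 * j0 * j0 = 1 := by
    have := H.hJexp _ hj0J
    rwa [pow_succ, pow_two] at this
  rw [show W.ν * (j0 * j0 * x) * W.ν⁻¹ = (W.ν * (j0 * j0) * W.ν⁻¹) * (W.ν * x * W.ν⁻¹) by group,
    W.ν_inv_J (mul_mem hj0J hj0J), show W.ν * x * W.ν⁻¹ = j0 * x by rw [hj0, hinv]; group,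
    show (j0 * j0)⁻¹ = j0 from inv_eq_of_mul_eq_one_right h3, ← mul_assoc]

theorem eq_one_of_J {j : G} (hj : j ∈ H.J) (hc : W.ν * j * W.ν⁻¹ = j) : j = 1 := by
  have h := W.ν_inv_J hj
  rw [hc] at h
  have h2 := mul_eq_one_iff_eq_inv.mpr h
  have h3 := H.hJexp _ hj
  rwa [pow_succ, pow_two, h2, one_mul] at h3

/-- The part of `S` centralizing the inverting involution. -/
def P : Subgroup G := (H.S : Subgroup G) ⊓ Subgroup.centralizer ({W.ν} : Set G)

theorem mem_P {x : G} : x ∈ W.P ↔ x ∈ (H.S : Subgroup G) ∧ W.ν * x * W.ν⁻¹ = x := by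
  rw [P, Subgroup.mem_inf, Subgroup.mem_centralizer_singleton_iff]
  exact and_congr_right fun _ => ⟨fun h => by rw [← h, mul_inv_cancel_right],
    fun h => (mul_inv_eq_iff_eq_mul.mp h).symm⟩

theorem P_card : 9 ≤ Nat.card W.P := by
  choose q hqS hq hqv using D.F.act_tr
  choose j hj hfix using fun w => W.exists_fix (H.S_le_M0 (hqS w))
  let f : ZMod 3 × ZMod 3 → W.P := fun w =>
    ⟨j w * q w, W.mem_P.mpr ⟨mul_mem (H.hJS (hj w)) (hqS w), hfix w⟩⟩
  have hf : Function.Injective f := by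
    intro w w' e
    refine lift_unique w w' (Or.inl ?_)
    have hact : ∀ w, D.F.act (mul_mem (H.M0_le (H.hJM (hj w))) (hq w)) eB = tr 1 w eB := fun w => by
      rw [D.F.act_mul (H.M0_le (H.hJM (hj w))) (hq w), D.F.act_of_J _ (hj w), hqv]
    rw [← hact w, ← hact w']
    exact Geo.act_congr D.toGeo (congrArg Subtype.val e) _ _ _
  have := Nat.card_le_card_of_injective f hf
  simpa using this

include W in
theorem ν_not_conj (g : G) : g * W.ν * g⁻¹ ≠ H.t := by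
  intro hg
  obtain ⟨he, hez, heb⟩ := D.e_N1
  have heJ := H.M0_le D.he
  obtain ⟨j, hj, hfix⟩ := W.exists_fix D.he
  set e' := j * D.e with he'
  have he'J : e' ∈ H.NJ := mul_mem (H.M0_le (H.hJM hj)) heJ
  have he'act : ∀ v, D.F.act he'J v = eMap 2 D.es v := fun v => by
    rw [D.F.act_mul (H.M0_le (H.hJM hj)) heJ, D.F.act_of_J _ hj, D.e_act]
  have hcomm : Commute W.ν e' := mul_inv_eq_iff_eq_mul.mp hfix
  have he'S : ∀ p ∈ (H.S : Subgroup G), e' * p * e'⁻¹ ∈ (H.S : Subgroup G) := by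
    intro p hp
    obtain ⟨q, hq, i, hi, rfl⟩ := H.S_decomp hp
    have h1 : D.e * (q * i) * D.e⁻¹ ∈ (H.S : Subgroup G) := by
      rw [show D.e * (q * i) * D.e⁻¹ = (D.e * q * D.e⁻¹) * (D.e * i * D.e⁻¹) by group]
      exact mul_mem (H.Q_le_S (H.Q_conj he.2 hq)) (H.hJS ((Subgroup.mem_normalizer_iff.mp heJ i).mp hi))
    rw [he', show j * D.e * (q * i) * (j * D.e)⁻¹ = j * (D.e * (q * i) * D.e⁻¹) * j⁻¹ by group]
    exact mul_mem (mul_mem (H.hJS hj) h1) (inv_mem (H.hJS hj))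
  have h4 : e' * e' * (e' * e') = 1 := by
    refine W.eq_one_of_J (D.F.act_id_mem (mul_mem (mul_mem he'J he'J) (mul_mem he'J he'J)) fun v => ?_) ?_
    · rw [D.F.act_mul (mul_mem he'J he'J) (mul_mem he'J he'J), D.F.act_mul he'J he'J, D.F.act_mul he'J he'J,
        he'act, he'act, he'act, he'act, (eMap_facts 2 D.es (by decide) D.es0 v).1,
        (eMap_facts 2 D.es (by decide) D.es0 _).1]
      simp
    · exact mul_inv_eq_iff_eq_mul.mpr
        (((hcomm.mul_right hcomm).mul_right (hcomm.mul_right hcomm))).eq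
  have hinv : ∀ p ∈ W.P, e' * e' * p * (e' * e')⁻¹ = p⁻¹ := by
    intro p hp
    obtain ⟨hpS, hpc⟩ := W.mem_P.mp hp
    obtain ⟨w, hw⟩ := D.S_act hpS
    have hmem : e' * e' * p * (e' * e')⁻¹ * p ∈ H.NJ :=
      mul_mem (mul_mem (mul_mem (mul_mem he'J he'J) (H.S_le_NJ hpS)) (inv_mem (mul_mem he'J he'J))) (H.S_le_NJ hpS)
    have hcp : Commute W.ν p := mul_inv_eq_iff_eq_mul.mp hpc
    have h2 : Commute W.ν (e' * e') := hcomm.mul_right hcomm
    refine eq_inv_of_mul_eq_one_left (W.eq_one_of_J (D.F.act_id_mem hmem fun v => ?_) ?_)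
    · have hee : ∀ u, D.F.act (mul_mem he'J he'J) u = tauV u := fun u => by
        rw [D.F.act_mul he'J he'J, he'act, he'act, (eMap_facts 2 D.es (by decide) D.es0 u).1]; rfl
      have heei : ∀ u, D.F.act (inv_mem (mul_mem he'J he'J)) u = tauV u := fun u => by
        refine D.F.act_injective (mul_mem he'J he'J) ?_
        rw [(D.act_inv_cancel (mul_mem he'J he'J) u).2, hee, tauV_tauV]
      rw [D.F.act_mul (mul_mem (mul_mem (mul_mem he'J he'J) (H.S_le_NJ hpS)) (inv_mem (mul_mem he'J he'J)))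
          (H.S_le_NJ hpS),
        D.F.act_mul (mul_mem (mul_mem he'J he'J) (H.S_le_NJ hpS)) (inv_mem (mul_mem he'J he'J)),
        D.F.act_mul (mul_mem he'J he'J) (H.S_le_NJ hpS), hee, hw, heei, hw, (tr_group w w _).2.2,
        (tr_facts w v).2.1]
    · exact mul_inv_eq_iff_eq_mul.mpr (((h2.mul_right hcp).mul_right h2.inv_right).mul_right hcp).eq
  -- transport to the centralizer of `t`
  have hPp : IsPGroup 3 W.P := H.S.2.to_le inf_le_left
  let P' : Subgroup G := W.P.map (MulAut.conj g).toMonoidHom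
  have hconjC : ∀ p, W.ν * p * W.ν⁻¹ = p → g * p * g⁻¹ ∈ H.C := by
    intro p hp
    have hc := (show Commute W.ν p from mul_inv_eq_iff_eq_mul.mp hp).map (MulAut.conj g).toMonoidHom
    simp only [MulEquiv.coe_toMonoidHom, MulAut.conj_apply, hg] at hc
    exact Subgroup.mem_centralizer_singleton_iff.mpr hc.symm.eq
  have hP'C : P' ≤ H.C := by
    rintro _ ⟨p, hp, rfl⟩
    exact hconjC p (W.mem_P.mp hp).2
  obtain ⟨c, hc, hPD⟩ := D.exists_conj_Dg (P := P') (hPp.map _) hP'C (by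
    rw [Subgroup.card_map_of_injective (MulEquiv.injective _)]; exact W.P_card)
  have himg : ∀ d ∈ D.Dg, ∃ p ∈ W.P, d = c * g * p * (c * g)⁻¹ := by
    intro d hd
    rw [← hPD] at hd
    obtain ⟨_, ⟨p, hp, rfl⟩, rfl⟩ := hd
    exact ⟨p, hp, by simp [mul_assoc]⟩
  have himg' : ∀ p ∈ W.P, c * g * p * (c * g)⁻¹ ∈ D.Dg := by
    intro p hp
    rw [← hPD]
    exact ⟨_, ⟨p, hp, rfl⟩, by simp [mul_assoc]⟩
  set s := c * g * e' * (c * g)⁻¹ with hs
  have hsC : s ∈ H.C := by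
    rw [hs, show c * g * e' * (c * g)⁻¹ = c * (g * e' * g⁻¹) * c⁻¹ by group]
    exact mul_mem (mul_mem hc (hconjC e' hfix)) (inv_mem hc)
  have hsD : ∀ d ∈ D.Dg, s * d * s⁻¹ ∈ D.Dg := by
    intro d hd
    obtain ⟨p, hp, rfl⟩ := himg d hd
    obtain ⟨hpS, hpc⟩ := W.mem_P.mp hp
    rw [hs, show c * g * e' * (c * g)⁻¹ * (c * g * p * (c * g)⁻¹) * (c * g * e' * (c * g)⁻¹)⁻¹ =
      c * g * (e' * p * e'⁻¹) * (c * g)⁻¹ by group]
    refine himg' _ (W.mem_P.mpr ⟨he'S p hpS, ?_⟩)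
    exact mul_inv_eq_iff_eq_mul.mpr
      ((hcomm.mul_right (show Commute W.ν p from mul_inv_eq_iff_eq_mul.mp hpc)).mul_right hcomm.inv_right).eq
  refine W.no_four_inverting hsC (D.NJ_of_norm_Dg hsC hsD) ?_ ?_
  · rw [hs, show c * g * e' * (c * g)⁻¹ * (c * g * e' * (c * g)⁻¹) *
        (c * g * e' * (c * g)⁻¹ * (c * g * e' * (c * g)⁻¹)) = c * g * (e' * e' * (e' * e')) * (c * g)⁻¹ by group,
      h4, mul_one, mul_inv_cancel]
  · obtain ⟨p, hp, hzp⟩ := himg _ D.z_Dg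
    rw [hzp, hs, show c * g * e' * (c * g)⁻¹ * (c * g * e' * (c * g)⁻¹) * (c * g * p * (c * g)⁻¹) *
        (c * g * e' * (c * g)⁻¹ * (c * g * e' * (c * g)⁻¹))⁻¹ = c * g * (e' * e' * p * (e' * e')⁻¹) * (c * g)⁻¹
      by group, hinv p hp]
    group

end Twist

end CfsgLib.McLThree
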