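import Cfsg.Agent.Lib.McLThree.Setup
import Cfsg.Agent.Lib.Transfer.Basic
import Cfsg.Agent.S3334

/-!
# No element centralizing `Z` induces an odd permutation: the McLaughlin group
-/

set_option autoImplicit false
set_option linter.unusedSectionVars false

open Equiv
open scoped Pointwise

namespace CfsgLib.McLThree

theorem center_A8 : Subgroup.center (alternatingGroup (Fin 8)) = ⊥ := by
  haveI : IsSimpleGroup (alternatingGroup (Fin 8)) := alternatingGroup.isSimpleGroup (by simp)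
  rcases (inferInstance : (Subgroup.center (alternatingGroup (Fin 8))).Normal).eq_bot_or_eq_top with h | h
  · exact h
  · exfalso
    let x : alternatingGroup (Fin 8) :=
      ⟨swap 0 1 * swap 1 2, Perm.mem_alternatingGroup.mpr (by decide)⟩
    let y : alternatingGroup (Fin 8) :=
      ⟨swap 1 2 * swap 2 3, Perm.mem_alternatingGroup.mpr (by decide)⟩
    have := Subgroup.mem_center_iff.mp (h.symm ▸ Subgroup.mem_top x : x ∈ Subgroup.center _) y
    exact absurd (congrArg Subtype.val this) (by decide +kernel)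

namespace Data

variable {G : Type*} [Group G] [Finite G] {H : Hyp G} (D : Data H)

include D

theorem double_cover (h1 : H.Case1) :
    Cfsg.IsNonsplitDoubleCover H.C (alternatingGroup (Fin 8)) := by
  obtain ⟨φ⟩ := D.nonempty_A8 h1
  have hcen : Subgroup.center H.C = H.T := by
    refine le_antisymm (fun x hx => ?_) ?_
    · have hq : H.bar x ∈ Subgroup.center (H.C ⧸ H.T) := Subgroup.mem_center_iff.mpr fun w => by
        induction w using QuotientGroup.induction_on with | _ w => ?_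
        change H.bar w * H.bar x = H.bar x * H.bar w
        rw [← map_mul, ← map_mul, Subgroup.mem_center_iff.mp hx w]
      have : φ (H.bar x) ∈ Subgroup.center (alternatingGroup (Fin 8)) := Subgroup.mem_center_iff.mpr fun w => by
        obtain ⟨w, rfl⟩ := φ.surjective w
        rw [← map_mul, ← map_mul, Subgroup.mem_center_iff.mp hq w]
      rw [center_A8, Subgroup.mem_bot, map_eq_one_iff φ φ.injective] at this
      exact (QuotientGroup.eq_one_iff x).mp this
    · rw [Hyp.T, Subgroup.zpowers_le, Subgroup.mem_center_iff]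
      exact fun w => Subtype.ext (Subgroup.mem_centralizer_singleton_iff.mp w.2)
  have hT : Nat.card H.T = 2 := by
    haveI : Fact (Nat.Prime 2) := ⟨Nat.prime_two⟩
    rw [Hyp.T, Nat.card_zpowers]
    refine orderOf_eq_prime (Subtype.ext (by rw [pow_two]; exact H.t_sq)) fun e => H.t_not_Q ?_
    rw [show H.t = 1 from congrArg Subtype.val e]; exact one_mem _
  refine ⟨by rw [hcen, hT], ⟨(QuotientGroup.quotientMulEquivOfEq hcen).trans φ⟩, fun L hL => ?_⟩
  rw [hcen] at hL
  have hidx : L.index = 2 := by rw [hL.index_eq_card]; exact hT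
  -- the involution is a square
  set j := D.e * D.e * H.t with hj
  have heN := H.M0_le D.he
  have hjJ : j ∈ H.J := D.F.act_id_mem (mul_mem (mul_mem heN heN) H.t_NJ) fun v => by
    rw [D.F.act_mul (mul_mem heN heN) H.t_NJ, D.F.act_mul heN heN, D.e_act, D.e_act, D.toGeo.act_t,
      (eMap_facts 2 D.es (by decide) D.es0 (tauV v)).1]
    simp [tauV]
  have hct : Commute H.t D.e := (Subgroup.mem_centralizer_singleton_iff.mp (H.mem_C.mpr D.e_t)).symm
  have hee : D.e ^ 3 * D.e ^ 3 = H.t := by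
    have hc : Commute j H.t := by
      rw [hj]
      exact ((hct.symm.mul_left hct.symm).mul_left (Commute.refl _))
    have e1 : D.e * D.e = j * H.t := by rw [hj, mul_assoc, mul_assoc, H.t_sq, mul_one]
    rw [← (Commute.refl D.e).mul_pow 3, e1, hc.mul_pow, H.hJexp _ hjJ, one_mul, pow_succ, pow_two, H.t_sq,
      one_mul]
  have htL : H.tC ∈ L := by
    have := Subgroup.mul_self_mem_of_index_two hidx (⟨D.e ^ 3, pow_mem (H.mem_C.mpr D.e_t) 3⟩ : H.C)
    rwa [show (⟨D.e ^ 3, pow_mem (H.mem_C.mpr D.e_t) 3⟩ : H.C) * ⟨D.e ^ 3, _⟩ = H.tC from Subtype.ext hee] at this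
  have := hL.disjoint.le_bot (⟨Subgroup.mem_zpowers _, htL⟩ : H.tC ∈ H.T ⊓ L)
  rw [Subgroup.mem_bot] at this
  exact H.t_not_Q (by rw [show H.t = 1 from congrArg Subtype.val this]; exact one_mem _)

end Data

namespace Hyp

variable {G : Type*} [Group G] [Finite G] (H : Hyp G)

theorem orderOf_t : orderOf H.t = 2 := by
  haveI : Fact (Nat.Prime 2) := ⟨Nat.prime_two⟩
  exact orderOf_eq_prime (by rw [pow_two]; exact H.t_sq) fun e => H.t_not_Q (by rw [e]; exact one_mem _)

variable (D : Data H)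

include D in
theorem not_sup_core : H.C ⊔ Cfsg.oddCore G ≠ ⊤ := by
  intro htop
  haveI : Fact (Nat.Prime 2) := ⟨Nat.prime_two⟩
  haveI : Fact (Nat.Prime 3) := ⟨Nat.prime_three⟩
  set O := Cfsg.oddCore G with hO
  haveI hOn : O.Normal := Cfsg.pPrimeCore_normal 2 G
  have hconj : ∀ (x : G) {o : G}, o ∈ O → x * o * x⁻¹ ∈ O := fun x o ho => hOn.conj_mem o ho x
  have hcomm : ∀ g : G, H.t * g * H.t * g⁻¹ ∈ O := by
    intro g
    have hg : g ∈ H.C ⊔ O := htop ▸ Subgroup.mem_top g
    rw [Subgroup.mem_sup_of_normal_right] at hg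
    obtain ⟨c, hc, o, ho, rfl⟩ := hg
    have hct : Commute c H.t := Subgroup.mem_centralizer_singleton_iff.mp hc
    rw [show H.t * (c * o) * H.t * (c * o)⁻¹ = (H.t * c) * (o * H.t * o⁻¹) * c⁻¹ by group, ← hct.eq,
      show c * H.t * (o * H.t * o⁻¹) * c⁻¹ = c * ((H.t * o * H.t) * o⁻¹) * c⁻¹ by group]
    refine hconj c (mul_mem ?_ (inv_mem ho))
    have := hconj H.t ho
    rwa [H.t_inv] at this
  -- the part of `Q` in the core
  let W : Subgroup G := (O ⊓ H.Q) ⊔ H.Z
  have hW : W = H.Z ∨ W = H.Q := by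
    refine H.irr le_sup_right (sup_le inf_le_right H.Z_le_Q) fun w hw => ?_
    have hfN := H.L0_le H.five_spec.1
    have hle : W ≤ W.comap (MulAut.conj H.five).toMonoidHom := by
      refine sup_le (fun u hu => ?_) (fun u hu => ?_)
      · exact Subgroup.mem_sup_left ⟨hconj _ hu.1, H.Q_conj hfN hu.2⟩
      · exact Subgroup.mem_sup_right ((Subgroup.mem_normalizer_iff.mp hfN u).mp hu)
    exact hle hw
  have hmem : ∀ q ∈ H.Q, H.t * q * H.t * q⁻¹ ∈ O ⊓ H.Q := fun q hq => ⟨hcomm q,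
    H.Q.mul_mem (by have := H.Q_conj (H.L0_le H.t_mem) hq; rwa [H.t_inv] at this) (H.Q.inv_mem hq)⟩
  have hQW : W = H.Q := by
    refine hW.resolve_left fun hWZ => ?_
    have : H.Q ≤ H.Z := fun q hq => by
      have h1 : H.t * q * H.t * q⁻¹ ∈ H.Z := hWZ ▸ Subgroup.mem_sup_left (hmem q hq)
      have h2 := H.t_Q_inv hq
      have h3 : q * q ∈ H.Z := by
        have := mul_mem (inv_mem h1) h2
        rwa [show (H.t * q * H.t * q⁻¹)⁻¹ * (H.t * q * H.t * q) = q * q by group] at this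
      have hq3 := H.hQexp q hq
      rw [show q = (q * q) ^ 2 by
        rw [← pow_two, ← pow_mul, show 2 * 2 = 3 + 1 from rfl, pow_succ, hq3, one_mul]]
      exact pow_mem h3 2
    have := Subgroup.card_le_of_le this
    rw [H.hQcard, H.card_Z] at this
    omega
  have hsplit : ∀ q ∈ H.Q, ∃ u ∈ O ⊓ H.Q, ∃ m ∈ H.Z, q = u * m := by
    intro q hq
    have hZn : H.Z ≤ Subgroup.centralizer ((O ⊓ H.Q : Subgroup G) : Set G) := fun m hm =>
      Subgroup.mem_centralizer_iff.mpr fun u hu => H.Z_comm hm (H.Q_le_S hu.2)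
    rw [← hQW] at hq
    have hle : H.Z ≤ Subgroup.normalizer ((O ⊓ H.Q : Subgroup G) : Set G) := fun m hm => by
      refine Subgroup.mem_normalizer_iff.mpr fun u => ?_
      have key : ∀ k : G, k ∈ H.Z → ∀ w ∈ O ⊓ H.Q, k * w * k⁻¹ ∈ O ⊓ H.Q := fun k hk w hw => by
        rw [← Subgroup.mem_centralizer_iff.mp (hZn hk) w hw, mul_inv_cancel_right]; exact hw
      refine ⟨key m hm u, fun h => ?_⟩
      have := key m⁻¹ (inv_mem hm) _ h
      rwa [show m⁻¹ * (m * u * m⁻¹) * m⁻¹⁻¹ = u by group] at this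
    have h' : q ∈ ((O ⊓ H.Q : Subgroup G) : Set G) * (H.Z : Set G) := by
      rw [← Subgroup.coe_mul_of_right_le_normalizer_left _ _ hle]; exact hq
    obtain ⟨u, hu, m, hm, rfl⟩ := Set.mem_mul.mp h'
    exact ⟨u, hu, m, hm, rfl⟩
  have hZO : H.Z ≤ O := by
    obtain ⟨x, hx, y, hy, hne⟩ : ∃ x ∈ H.Q, ∃ y ∈ H.Q, x * y * x⁻¹ * y⁻¹ ≠ 1 := by
      by_contra hall
      push Not at hall
      have := H.Q_abelian_card (B := H.Q) le_rfl fun x hx y hy =>
        mul_inv_eq_iff_eq_mul.mp (mul_inv_eq_one.mp (hall x hx y hy))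
      rw [H.hQcard] at this
      omega
    obtain ⟨u, hu, m, hm, rfl⟩ := hsplit x hx
    obtain ⟨v, hv, n, hn, rfl⟩ := hsplit y hy
    have hum : Commute u m := H.Z_comm hm (H.Q_le_S hu.2)
    have hvn : Commute v n := H.Z_comm hn (H.Q_le_S hv.2)
    have hvm : Commute v m := H.Z_comm hm (H.Q_le_S hv.2)
    have hun : Commute u n := H.Z_comm hn (H.Q_le_S hu.2)
    have hmn : Commute m n := H.Z_comm hn (H.Z_le_S hm)
    have he : u * m * (v * n) * (u * m)⁻¹ * (v * n)⁻¹ = u * v * u⁻¹ * v⁻¹ := by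
      calc u * m * (v * n) * (u * m)⁻¹ * (v * n)⁻¹
          = u * (m * (v * n) * m⁻¹) * u⁻¹ * n⁻¹ * v⁻¹ := by group
        _ = u * (v * n) * u⁻¹ * n⁻¹ * v⁻¹ := by rw [((hvm.symm).mul_right hmn).eq, mul_inv_cancel_right]
        _ = u * v * (n * u⁻¹ * n⁻¹) * v⁻¹ := by group
        _ = _ := by rw [(hun.inv_left).symm.eq, mul_inv_cancel_right]
    rw [he] at hne
    have hO' : u * v * u⁻¹ * v⁻¹ ∈ O := mul_mem (hconj u hv.1) (inv_mem hv.1)
    have hz : H.z ∈ O := by
      rcases H.mem_Z_cases (H.comm_mem_Z hu.2 hv.2) with e | e | e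
      · exact absurd e hne
      · exact e ▸ hO'
      · have := inv_mem hO'
        rwa [e, inv_inv] at this
    rw [← H.z_spec.2.2.2, Subgroup.zpowers_le]; exact hz
  have hQO : H.Q ≤ O := fun q hq => by
    obtain ⟨u, hu, m, hm, rfl⟩ := hsplit q hq
    exact mul_mem hu.1 (hZO hm)
  have haO : D.a ∈ O := by rw [← D.g3_z]; exact hconj _ (hZO H.z_spec.1)
  have hbO : D.b ∈ O := by rw [D.b_pow]; exact pow_mem haO _
  have hSO : (H.S : Subgroup G) ≤ O := by
    intro x hx
    obtain ⟨q, hq, j, hj, rfl⟩ := H.S_decomp hx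
    refine mul_mem (hQO hq) ?_
    obtain ⟨v, rfl⟩ := D.F.surj j hj
    have e : v = flat v + v.2.2.2.val • eB := by
      conv_lhs => rw [show v = (v.1, v.2.1, v.2.2.1, v.2.2.2) from rfl]
      simp [flat, smul_eval, eB]
    rw [e, D.F.map_add, D.F.map_nsmul']
    exact mul_mem (hQO ((D.F.mem_Q (flat v)).mpr rfl)) (pow_mem hbO _)
  have htO : H.t ∈ O := by
    have hle : H.L0 ≤ O := by
      rw [H.hL0, Subgroup.closure_le]
      rintro x ⟨-, k, hk⟩
      have hp : IsPGroup 3 (Subgroup.zpowers x) := IsPGroup.of_card (n := k) (by rw [Nat.card_zpowers, hk])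
      obtain ⟨R, hR⟩ := hp.exists_le_sylow
      obtain ⟨g, rfl⟩ := MulAction.exists_smul_eq G H.S R
      have hxR := hR (Subgroup.mem_zpowers x)
      rw [Sylow.coe_subgroup_smul] at hxR
      obtain ⟨s, hs, rfl⟩ := hxR
      exact hconj g (hSO hs)
    exact hle H.t_mem
  have h2 : (2 : ℕ) ∣ Nat.card O := by
    rw [← H.orderOf_t]
    exact Subgroup.orderOf_dvd_natCard _ htO
  exact CfsgLib.Transfer.not_dvd_card_pPrimeCore (p := 2) h2

include D in
theorem mcl_of_case1 (h1 : H.Case1) : Nonempty (G ≃* Cfsg.Spor.McL) :=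
  (Cfsg.Agent.S3334.result H.t H.orderOf_t (D.double_cover h1)).resolve_left (H.not_sup_core D)

end Hyp

end CfsgLib.McLThree
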