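import Cfsg.Agent.Lib.McLThree.Coords

/-!
# The action of the normalizer of `J` on the conjugates of `Z`
-/

set_option autoImplicit false
set_option linter.unusedSectionVars false
set_option maxRecDepth 20000
set_option synthInstance.maxSize 4000
set_option synthInstance.maxHeartbeats 400000

open scoped Pointwise

namespace CfsgLib.McLThree

attribute [local instance 2000] List.decidableBAll List.decidableBEx

namespace Hyp

variable {G : Type*} [Group G] [Finite G] (H : Hyp G)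

theorem conj_z_NJ {h : G} (hh : h ∈ H.NJ) :
    ∃ m ∈ H.M0, h * H.z * h⁻¹ = m * H.z * m⁻¹ ∨ h * H.z * h⁻¹ = m * H.z⁻¹ * m⁻¹ := by
  haveI : Fact (Nat.Prime 3) := ⟨Nat.prime_three⟩
  have hSh : ((h • H.S : Sylow 3 G) : Subgroup G) ≤ H.M0 := by
    intro x hx
    rw [Sylow.coe_subgroup_smul] at hx
    obtain ⟨s, hs, rfl⟩ := hx
    have hho : ∃ k : ℕ, orderOf (h * s * h⁻¹) = 3 ^ k := by
      rw [← MulAut.conj_apply, MulEquiv.orderOf_eq]; exact H.three_order hs
    exact H.three_mem_M0 (mul_mem (mul_mem hh (H.S_le_NJ hs)) (inv_mem hh)) hho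
  obtain ⟨⟨m, hm⟩, hmS⟩ := MulAction.exists_smul_eq H.M0 (H.S.subtype H.S_le_M0) ((h • H.S).subtype hSh)
  have key : ∀ x : G, x ∈ (H.S : Subgroup G) → m⁻¹ * (h * x * h⁻¹) * m ∈ (H.S : Subgroup G) := by
    intro x hx
    have hx' : h * x * h⁻¹ ∈ ((h • H.S : Sylow 3 G) : Subgroup G) := by
      rw [Sylow.coe_subgroup_smul]; exact ⟨x, hx, rfl⟩
    have hx'' : (⟨h * x * h⁻¹, hSh hx'⟩ : H.M0) ∈
        ((h • H.S).subtype hSh : Sylow 3 H.M0).toSubgroup := hx'
    rw [← hmS, Sylow.coe_subgroup_smul] at hx''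
    obtain ⟨⟨y, hy⟩, hyS, e⟩ := hx''
    have e' : m * y * m⁻¹ = h * x * h⁻¹ := congrArg Subtype.val e
    rw [← e', show m⁻¹ * (m * y * m⁻¹) * m = y by group]
    exact hyS
  set c := m⁻¹ * h with hc
  have hkey : ∀ x ∈ (H.S : Subgroup G), c * x * c⁻¹ ∈ (H.S : Subgroup G) := fun x hx => by
    rw [show c * x * c⁻¹ = m⁻¹ * (h * x * h⁻¹) * m by rw [hc]; group]; exact key x hx
  have hsurj : ∀ y ∈ (H.S : Subgroup G), ∃ x ∈ (H.S : Subgroup G), c * x * c⁻¹ = y := by
    intro y hy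
    let f : ↥(H.S : Subgroup G) → ↥(H.S : Subgroup G) := fun x => ⟨c * x * c⁻¹, hkey x x.2⟩
    have hf : Function.Injective f := fun a b e => Subtype.ext (by simpa [f] using congrArg Subtype.val e)
    obtain ⟨x, hx⟩ := (Finite.injective_iff_surjective.mp hf) ⟨y, hy⟩
    exact ⟨x, x.2, congrArg Subtype.val hx⟩
  have hcz : c * H.z * c⁻¹ ∈ H.Z := by
    have hzZ := H.z_spec.1
    rw [H.hZ]
    refine ⟨hkey _ (H.Z_le_S hzZ), Subgroup.mem_centralizer_iff.mpr fun y hy => ?_⟩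
    obtain ⟨x, hx, rfl⟩ := hsurj y hy
    calc c * x * c⁻¹ * (c * H.z * c⁻¹) = c * (x * H.z) * c⁻¹ := by group
      _ = c * (H.z * x) * c⁻¹ := by rw [H.Z_comm hzZ hx]
      _ = _ := by group
  refine ⟨m, hm, ?_⟩
  rcases H.mem_Z_cases hcz with e | e | e
  · exact absurd (conj_eq_one_iff.mp e) H.z_spec.2.2.1
  · left; rw [show h * H.z * h⁻¹ = m * (c * H.z * c⁻¹) * m⁻¹ by rw [hc]; group, e]
  · right; rw [show h * H.z * h⁻¹ = m * (c * H.z * c⁻¹) * m⁻¹ by rw [hc]; group, e]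

/-- The stabilizer of `Z` in `M0`. -/
def stab : Subgroup G := H.M0 ⊓ H.NZ

theorem exists_four_stab : ∃ y ∈ H.stab, (∀ x ∈ (H.S : Subgroup G), y * x * y⁻¹ ∈ (H.S : Subgroup G)) ∧
    y ^ 4 = 1 ∧ ∃ hy : y ∈ H.M0, H.piM ⟨y, hy⟩ * H.piM ⟨y, hy⟩ ≠ 1 := by
  classical
  haveI : Fact (Nat.Prime 3) := ⟨Nat.prime_three⟩
  let S' : Subgroup H.M0 := (H.S : Subgroup G).subgroupOf H.M0
  let P : Subgroup A6 := S'.map H.piM
  have hker : H.piM.ker ≤ S' := fun x hx =>
    Subgroup.mem_subgroupOf.mpr (H.hJS ((H.piM_ker x).mp (MonoidHom.mem_ker.mp hx)))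
  have hP : Nat.card P = 9 := by
    have h1 := Subgroup.index_map_eq (H := S') H.piM_surj hker
    have h2 := S'.card_mul_index
    have h3 := P.card_mul_index
    rw [Nat.card_congr (Subgroup.subgroupOfEquivOfLe H.S_le_M0).toEquiv, H.card_S, H.card_M0] at h2
    rw [show P.index = S'.index from h1, card_A6] at h3
    have : S'.index = 40 := by omega
    rw [this] at h3; omega
  let N9 : Subgroup A6 :=
    { carrier := {x | x ∈ nineList}
      mul_mem' := fun ha hb => nine_facts.2.1 _ ha _ hb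
      one_mem' := nine_facts.1
      inv_mem' := fun {a} ha => by
        have key : ∀ n : ℕ, a ^ n ∈ nineList := fun n => by
          induction n with
          | zero => rw [pow_zero]; exact nine_facts.1
          | succ n ih => rw [pow_succ]; exact nine_facts.2.1 _ ih _ ha
        show a⁻¹ ∈ nineList
        have e : a⁻¹ = a ^ (orderOf a - 1) := inv_eq_of_mul_eq_one_left (by
          rw [← pow_succ, Nat.sub_add_cancel (orderOf_pos a), pow_orderOf_eq_one])
        rw [e]; exact key _ }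
  have hN : Nat.card N9 = 9 := by
    show Nat.card {x : A6 // x ∈ nineList} = 9
    rw [Nat.card_eq_fintype_card, Fintype.card_of_subtype nineList.toFinset (fun x => List.mem_toFinset)]
    exact nine_facts.2.2.1
  have hfac : 3 ^ (Nat.card A6).factorization 3 = 9 := by
    rw [card_A6, show (360 : ℕ) = 3 ^ 2 * 40 by norm_num,
      Nat.factorization_mul (by norm_num) (by norm_num), Finsupp.add_apply,
      Nat.Prime.factorization_pow Nat.prime_three, Finsupp.single_eq_same,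
      Nat.factorization_eq_zero_of_not_dvd (by norm_num : ¬ 3 ∣ 40)]
    norm_num
  let P1 : Sylow 3 A6 := Sylow.ofCard P (by rw [hP, hfac])
  let P2 : Sylow 3 A6 := Sylow.ofCard N9 (by rw [hN, hfac])
  obtain ⟨g, hg⟩ := MulAction.exists_smul_eq A6 P2 P1
  have hmem : ∀ a, a ∈ P ↔ ∃ n ∈ nineList, g * n * g⁻¹ = a := by
    intro a
    have e : P = MulAut.conj g • N9 := congrArg Sylow.toSubgroup hg.symm
    rw [e]; exact Iff.rfl
  obtain ⟨⟨x, hx⟩, hxk⟩ := H.piM_surj (g * fourSix * g⁻¹)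
  have hk4 : (g * fourSix * g⁻¹) ^ 4 = 1 := by rw [conj_pow, nine_facts.2.2.2.2.1, mul_one, mul_inv_cancel]
  have hk2 : (g * fourSix * g⁻¹) * (g * fourSix * g⁻¹) ≠ 1 := fun e => nine_facts.2.2.2.2.2 (by
    rw [← pow_two, conj_pow, conj_eq_one_iff] at e; exact e)
  set k := g * fourSix * g⁻¹ with hk
  have hx4J : x ^ 4 ∈ H.J := (H.piM_ker (⟨x, hx⟩ ^ 4)).mp (by rw [map_pow, hxk, hk4])
  have hy : x ^ 3 ∈ H.M0 := pow_mem hx 3
  have hyk : H.piM ⟨x ^ 3, hy⟩ = k ^ 3 := by rw [← hxk, ← map_pow]; rfl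
  have hnorm : ∀ s ∈ (H.S : Subgroup G), x * s * x⁻¹ ∈ (H.S : Subgroup G) := by
    intro s hs
    have hP1 : H.piM ⟨s, H.S_le_M0 hs⟩ ∈ P := ⟨_, hs, rfl⟩
    obtain ⟨n, hn, e⟩ := (hmem _).mp hP1
    have hP2 : k * H.piM ⟨s, H.S_le_M0 hs⟩ * k⁻¹ ∈ P := by
      rw [hmem]; exact ⟨fourSix * n * fourSix⁻¹, nine_facts.2.2.2.1 n hn, by rw [← e, hk]; group⟩
    obtain ⟨⟨s', hs'⟩, hs'S, e2⟩ := hP2
    have : (⟨s', hs'⟩⁻¹ * (⟨x, hx⟩ * ⟨s, H.S_le_M0 hs⟩ * ⟨x, hx⟩⁻¹) : H.M0) ∈ H.piM.ker := by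
      rw [MonoidHom.mem_ker, map_mul, map_mul, map_mul, map_inv, map_inv, hxk, e2]; group
    have h3 := mul_mem (Subgroup.mem_subgroupOf.mp hs'S) (Subgroup.mem_subgroupOf.mp (hker this))
    simpa using h3
  have hnorm3 : ∀ s ∈ (H.S : Subgroup G), x ^ 3 * s * (x ^ 3)⁻¹ ∈ (H.S : Subgroup G) := by
    intro s hs
    have := hnorm _ (hnorm _ (hnorm s hs))
    rwa [show x ^ 3 * s * (x ^ 3)⁻¹ = x * (x * (x * s * x⁻¹) * x⁻¹) * x⁻¹ by
      simp only [pow_succ, pow_zero, one_mul]; group]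
  refine ⟨x ^ 3, ⟨hy, Subgroup.mem_normalizer_iff_map_conj_eq.mpr ?_⟩, hnorm3, ?_, hy, ?_⟩
  · refine Subgroup.eq_of_le_of_card_ge ?_ (le_of_eq
      (Subgroup.card_map_of_injective (f := (MulAut.conj (x ^ 3)).toMonoidHom) (MulAut.conj (x ^ 3)).injective).symm)
    rintro _ ⟨n, hn, rfl⟩
    show x ^ 3 * n * (x ^ 3)⁻¹ ∈ H.Z
    rw [H.hZ] at hn ⊢
    refine ⟨hnorm3 n hn.1, Subgroup.mem_centralizer_iff.mpr fun s hs => ?_⟩
    let f : ↥(H.S : Subgroup G) → ↥(H.S : Subgroup G) := fun u => ⟨x ^ 3 * u * (x ^ 3)⁻¹, hnorm3 u u.2⟩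
    have hf : Function.Injective f := fun a b e => Subtype.ext (by simpa [f] using congrArg Subtype.val e)
    obtain ⟨u, hu⟩ := (Finite.injective_iff_surjective.mp hf) ⟨s, hs⟩
    have hu' : x ^ 3 * u * (x ^ 3)⁻¹ = s := congrArg Subtype.val hu
    rw [← hu']
    calc _ = x ^ 3 * ((u : G) * n) * (x ^ 3)⁻¹ := by group
      _ = x ^ 3 * (n * u) * (x ^ 3)⁻¹ := by rw [Subgroup.mem_centralizer_iff.mp hn.2 u u.2]
      _ = _ := by group
  · rw [← pow_mul, show 3 * 4 = 4 * 3 from rfl, pow_mul, H.hJexp _ hx4J]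
  · rw [hyk]
    intro e
    refine hk2 ?_
    calc k * k = (k ^ 4) * (k ^ 3 * k ^ 3)⁻¹ * k ^ 4 := by rw [← pow_two]; group
      _ = 1 := by rw [hk4, e]; group

theorem index_le_ten (l : List G) (hl : ∀ x ∈ l, ∃ m ∈ H.M0, m * H.z * m⁻¹ = x ∨ m * H.z * m⁻¹ = x⁻¹)
    (hne : l.Pairwise fun x y => x ≠ y ∧ x ≠ y⁻¹) : l.length ≤ 10 := by
  classical
  obtain ⟨y, hyst, hyS, hy4, hyM, hy2⟩ := H.exists_four_stab
  have hst : Nat.card H.stab * 10 ≥ Nat.card H.M0 := by
    have h1 : 729 ∣ Nat.card H.stab := H.card_S ▸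
      Subgroup.card_dvd_of_le (le_inf H.S_le_M0 H.S_le_NZ)
    have h2 : 4 ∣ Nat.card H.stab := by
      have ho : orderOf y = 4 := orderOf_eq_prime_pow (p := 2) (n := 1)
        (fun e => hy2 (by rw [← map_mul]; exact (congrArg H.piM (Subtype.ext (by simpa [pow_two] using e))).trans (map_one _)))
        hy4
      rw [← ho, ← Subgroup.orderOf_mk y hyst]; exact orderOf_dvd_natCard _
    have := Nat.le_of_dvd Nat.card_pos ((by norm_num : Nat.Coprime 729 4).mul_dvd_of_dvd_of_dvd h1 h2)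
    rw [H.card_M0]; omega
  have hidx : (H.stab.subgroupOf H.M0).index ≤ 10 := by
    have h := (H.stab.subgroupOf H.M0).card_mul_index
    rw [Nat.card_congr (Subgroup.subgroupOfEquivOfLe (show H.stab ≤ H.M0 from inf_le_left)).toEquiv] at h
    nlinarith [Nat.card_pos (α := H.stab)]
  choose m hm he using hl
  let f : {x // x ∈ l} → H.M0 ⧸ H.stab.subgroupOf H.M0 := fun x => QuotientGroup.mk ⟨m x x.2, hm x x.2⟩
  have hf : Function.Injective f := by
    rintro ⟨a, ha⟩ ⟨b, hb⟩ e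
    have h := Subgroup.mem_subgroupOf.mp (QuotientGroup.eq.mp e)
    have hN := (Subgroup.mem_normalizer_iff.mp h.2 _).mp H.z_spec.1
    have hab : a = b ∨ a = b⁻¹ := by
      simp only [InvMemClass.coe_inv, Subgroup.coe_mul] at hN
      rcases H.mem_Z_cases hN with e1 | e1 | e1
      · exact absurd (conj_eq_one_iff.mp e1) H.z_spec.2.2.1
      · have e2 : m b hb * H.z * (m b hb)⁻¹ = m a ha * H.z * (m a ha)⁻¹ := by
          nth_rewrite 2 [← e1]; group
        rcases he a ha with ea | ea <;> rcases he b hb with eb | eb <;> rw [ea, eb] at e2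
        · exact Or.inl e2.symm
        · exact Or.inr e2.symm
        · exact Or.inr (by rw [e2, inv_inv])
        · exact Or.inl (inv_injective e2).symm
      · have e2 : (m b hb * H.z * (m b hb)⁻¹)⁻¹ = m a ha * H.z * (m a ha)⁻¹ := by
          have e3 := congrArg (·⁻¹) e1
          simp only [inv_inv] at e3
          nth_rewrite 2 [← e3]; group
        rcases he a ha with ea | ea <;> rcases he b hb with eb | eb <;> rw [ea, eb] at e2
        · exact Or.inr e2.symm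
        · exact Or.inl (by rw [← e2, inv_inv])
        · exact Or.inl (inv_injective e2).symm
        · exact Or.inr (by rw [← inv_inv a, ← e2, inv_inv])
    by_contra hne'
    have hab' : a ≠ b := fun e => hne' (Subtype.ext e)
    have hsym : ∀ x ∈ l, ∀ y ∈ l, x ≠ y → x ≠ y⁻¹ := by
      intro x hx y hy hxy e
      obtain ⟨i, hi, rfl⟩ := List.mem_iff_getElem.mp hx
      obtain ⟨j, hj, rfl⟩ := List.mem_iff_getElem.mp hy
      have hp := List.pairwise_iff_getElem.mp hne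
      rcases lt_trichotomy i j with h | h | h
      · exact (hp i j hi hj h).2 e
      · subst h; exact hxy rfl
      · exact (hp j i hj hi h).2 (by rw [e, inv_inv])
    exact hsym a ha b hb hab' (hab.resolve_left hab')
  have hnd : l.Nodup := hne.imp fun h => h.1
  have hcard := Nat.card_le_card_of_injective f hf
  rw [Nat.card_eq_fintype_card, Fintype.card_of_subtype l.toFinset (fun x => List.mem_toFinset),
    List.toFinset_card_of_nodup hnd] at hcard
  exact hcard.trans hidx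

theorem exists_not_A : ∃ m ∈ H.M0, m * H.z * m⁻¹ ∉ H.Q := by
  classical
  by_contra hall
  push Not at hall
  have hJ : ∀ m ∈ H.M0, m * H.z * m⁻¹ ∈ H.J := fun m hm =>
    (Subgroup.mem_normalizer_iff.mp (H.M0_le hm) _).mp (H.Z_le_J H.z_spec.1)
  set W := Subgroup.closure {x : G | ∃ m ∈ H.M0, x = m * H.z * m⁻¹} with hW
  have hWA : W ≤ H.A := (Subgroup.closure_le _).mpr (by
    rintro x ⟨m, hm, rfl⟩; exact ⟨hJ m hm, hall m hm⟩)
  have hWn : ∀ m ∈ H.M0, ∀ w ∈ W, m * w * m⁻¹ ∈ W := by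
    intro m hm w hw
    rw [hW] at hw
    induction hw using Subgroup.closure_induction with
    | mem w hw =>
      obtain ⟨m', hm', rfl⟩ := hw
      exact Subgroup.subset_closure ⟨m * m', mul_mem hm hm', by group⟩
    | one => simp
    | mul a b _ _ ha hb => rw [show m * (a * b) * m⁻¹ = m * a * m⁻¹ * (m * b * m⁻¹) by group]; exact mul_mem ha hb
    | inv a _ ha => rw [show m * a⁻¹ * m⁻¹ = (m * a * m⁻¹)⁻¹ by group]; exact inv_mem ha
  obtain ⟨⟨u, hu⟩, huk⟩ := H.piM_surj ⟨Equiv.swap 0 1 * Equiv.swap 1 2 * Equiv.swap 2 3 * Equiv.swap 3 4,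
    Equiv.Perm.mem_alternatingGroup.mpr (by decide)⟩
  have h5 : u ^ 5 ∈ H.J := (H.piM_ker (⟨u, hu⟩ ^ 5)).mp (by rw [map_pow, huk]; decide +kernel)
  set g := u ^ 3 with hg
  have hgM : g ∈ H.M0 := pow_mem hu 3
  have hg5 : g ^ 5 = 1 := by rw [hg, ← pow_mul, mul_comm, pow_mul]; exact H.hJexp _ h5
  have hg1 : g ≠ 1 := fun e => by
    have h := congrArg H.piM (show (⟨u, hu⟩ : H.M0) ^ 3 = 1 from Subtype.ext e)
    rw [map_pow, huk, map_one] at h
    revert h; decide +kernel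
  have hfix := fixed_modEq hg5 (hWn g hgM)
  haveI : Fact (Nat.Prime 3) := ⟨Nat.prime_three⟩
  obtain ⟨a, ha⟩ := IsPGroup.iff_card.mp (H.Q_pgroup.to_le (hWA.trans H.A_le_Q))
  obtain ⟨b, hb⟩ := IsPGroup.iff_card.mp
    (H.Q_pgroup.to_le ((inf_le_left (a := W) (b := Subgroup.centralizer {g})).trans (hWA.trans H.A_le_Q)))
  have hda := Subgroup.card_dvd_of_le hWA
  have hdb := Subgroup.card_dvd_of_le (inf_le_left : W ⊓ Subgroup.centralizer {g} ≤ W)
  rw [H.card_A, ha, show (27 : ℕ) = 3 ^ 3 by norm_num, Nat.pow_dvd_pow_iff_le_right (by norm_num)] at hda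
  rw [ha, hb, Nat.pow_dvd_pow_iff_le_right (by norm_num)] at hdb
  rw [ha, hb] at hfix
  have hab : a = b := by
    rcases (show a = 0 ∨ a = 1 ∨ a = 2 ∨ a = 3 by omega) with rfl | rfl | rfl | rfl <;>
      rcases (show b = 0 ∨ b = 1 ∨ b = 2 ∨ b = 3 by omega) with rfl | rfl | rfl | rfl <;>
      first | rfl | omega | (norm_num [Nat.ModEq] at hfix; done)
  have hWC : W ≤ Subgroup.centralizer {g} := by
    have := Subgroup.eq_of_le_of_card_ge (inf_le_left : W ⊓ Subgroup.centralizer {g} ≤ W) (by rw [ha, hb, hab])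
    exact this ▸ inf_le_right
  have hzW : H.z ∈ W := Subgroup.subset_closure ⟨1, one_mem _, by group⟩
  -- the stabilizer has order at least `5 · 2916`
  have hgst : g ∈ H.stab := ⟨hgM, show g ∈ H.NZ by
    rw [NZ, ← H.z_spec.2.2.2, Subgroup.mem_normalizer_iff_map_conj_eq, MonoidHom.map_zpowers]
    show Subgroup.zpowers (g * H.z * g⁻¹) = _
    rw [← Subgroup.mem_centralizer_singleton_iff.mp (hWC hzW), mul_inv_cancel_right]⟩
  obtain ⟨y, hyst, -, hy4, hyM, hy2⟩ := H.exists_four_stab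
  have ho4 : orderOf y = 4 := orderOf_eq_prime_pow (p := 2) (n := 1)
    (fun e => hy2 (by rw [← map_mul]; exact (congrArg H.piM (Subtype.ext (by simpa [pow_two] using e))).trans (map_one _)))
    hy4
  haveI : Fact (Nat.Prime 5) := ⟨by norm_num⟩
  have h5d : 5 ∣ Nat.card H.stab := by
    rw [← orderOf_eq_prime hg5 hg1, ← Subgroup.orderOf_mk g hgst]; exact orderOf_dvd_natCard _
  have h4d : 4 ∣ Nat.card H.stab := by
    rw [← ho4, ← Subgroup.orderOf_mk y hyst]; exact orderOf_dvd_natCard _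
  have h9d : 729 ∣ Nat.card H.stab := H.card_S ▸ Subgroup.card_dvd_of_le (le_inf H.S_le_M0 H.S_le_NZ)
  have hall' : H.stab = H.M0 := by
    have hle : H.stab ≤ H.M0 := inf_le_left
    have hd : 14580 ∣ Nat.card H.stab :=
      (by norm_num : Nat.Coprime (729 * 4) 5).mul_dvd_of_dvd_of_dvd
        ((by norm_num : Nat.Coprime 729 4).mul_dvd_of_dvd_of_dvd h9d h4d) h5d
    have := Nat.le_of_dvd Nat.card_pos hd
    -- index at most two, and a subgroup of index two would give a quotient of order two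
    by_contra hne
    have hi := (H.stab.subgroupOf H.M0).card_mul_index
    rw [Nat.card_congr (Subgroup.subgroupOfEquivOfLe hle).toEquiv, H.card_M0] at hi
    have hi2 : (H.stab.subgroupOf H.M0).index = 2 := by
      have h1 : (H.stab.subgroupOf H.M0).index ≠ 1 := fun e => hne (le_antisymm hle
        (Subgroup.relIndex_eq_one.mp e))
      have h0 : (H.stab.subgroupOf H.M0).index ≠ 0 := Subgroup.index_ne_zero_of_finite
      have h2 : (H.stab.subgroupOf H.M0).index ≤ 2 := by nlinarith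
      omega
    haveI := Subgroup.normal_of_index_eq_two hi2
    refine hne (le_antisymm hle ?_)
    rw [H.hM0, Subgroup.closure_le]
    rintro x ⟨hxN, k, hk⟩
    have hxM := H.three_mem_M0 hxN ⟨k, hk⟩
    obtain ⟨r, hr⟩ : Odd (orderOf x) := by rw [hk]; exact Odd.pow (by decide)
    have e : x = (x * x) ^ (r + 1) := by
      rw [← pow_two, ← pow_mul, show 2 * (r + 1) = orderOf x + 1 by omega, pow_succ, pow_orderOf_eq_one, one_mul]
    have h2 := (Subgroup.mul_mem_iff_of_index_two hi2 (a := (⟨x, hxM⟩ : H.M0)) (b := ⟨x, hxM⟩)).mpr Iff.rfl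
    rw [e]
    exact pow_mem (show x * x ∈ H.stab from Subgroup.mem_subgroupOf.mp h2) _
  have hML : H.M0 ≤ H.L0 := by
    rw [H.hM0, Subgroup.closure_le]
    rintro x ⟨hxN, hk⟩
    have : x ∈ H.stab := hall'.symm ▸ H.three_mem_M0 hxN hk
    exact H.three_mem_L0 this.2 hk
  have heq : H.M0 = H.L0 := Subgroup.eq_of_le_of_card_ge hML (by rw [H.card_L0, H.card_M0])
  obtain ⟨j, hj, hjQ⟩ := SetLike.not_le_iff_exists.mp H.J_not_le
  have hjL : j ∈ H.L0 := H.S_le_L0 (H.hJS hj)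
  set x := H.piL ⟨j, hjL⟩ with hx
  have hx3 : x ^ 3 = 1 := by
    rw [hx, ← map_pow, show (⟨j, hjL⟩ : H.L0) ^ 3 = 1 from Subtype.ext (H.hJexp j hj), map_one]
  have hx1 : x ≠ 1 := fun e => hjQ ((H.piL_ker _).mp e)
  obtain ⟨-, -, gg, g1, g2, g3⟩ := three_gen x hx3 hx1
  obtain ⟨⟨v, hv⟩, hvk⟩ := H.piL_surj gg
  have hvj : v * j * v⁻¹ ∈ H.J := (Subgroup.mem_normalizer_iff.mp (H.M0_le (heq ▸ hv)) j).mp hj
  obtain ⟨q, hq, c, hc, e⟩ : ∃ q ∈ H.Q, ∃ c : Fin 3, True ∧ v * j * v⁻¹ = q * j ^ (c : ℕ) := by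
    have hi := (H.Q.subgroupOf (H.S : Subgroup G)).card_mul_index
    rw [Nat.card_congr (Subgroup.subgroupOfEquivOfLe H.Q_le_S).toEquiv, H.hQcard, H.card_S] at hi
    haveI : (H.Q.subgroupOf (H.S : Subgroup G)).Normal :=
      ⟨fun y hy x => H.Q_conj (H.S_le_NZ x.2) hy⟩
    let qm := QuotientGroup.mk' (H.Q.subgroupOf (H.S : Subgroup G))
    have hc3 : Nat.card ((H.S : Subgroup G) ⧸ H.Q.subgroupOf (H.S : Subgroup G)) = 3 := by
      rw [← Subgroup.index_eq_card]; omega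
    have hgen : Subgroup.zpowers (qm ⟨j, H.hJS hj⟩) = ⊤ := by
      refine zpowers_eq_top_of_prime_card hc3 fun e => hjQ ?_
      exact Subgroup.mem_subgroupOf.mp ((QuotientGroup.eq_one_iff _).mp e)
    have hmem : qm ⟨_, H.hJS hvj⟩ ∈ Subgroup.zpowers (qm ⟨j, H.hJS hj⟩) := hgen ▸ Subgroup.mem_top _
    have hj3 : qm ⟨j, H.hJS hj⟩ ^ 3 = 1 := by
      rw [← map_pow, show (⟨j, H.hJS hj⟩ : (H.S : Subgroup G)) ^ 3 = 1 from Subtype.ext (H.hJexp j hj), map_one]
    obtain ⟨c, hc⟩ : ∃ c : Fin 3, qm ⟨_, H.hJS hvj⟩ = qm ⟨j, H.hJS hj⟩ ^ (c : ℕ) := by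
      rcases conj_three_cases hj3 hmem with e | e | e
      · exact ⟨0, by rw [e]; exact (pow_zero _).symm⟩
      · exact ⟨1, by rw [e]; exact (pow_one _).symm⟩
      · refine ⟨2, e.trans (inv_eq_of_mul_eq_one_left ?_)⟩
        show qm _ ^ 2 * qm _ = 1
        rw [← pow_succ, hj3]
    refine ⟨v * j * v⁻¹ * (j ^ (c : ℕ))⁻¹, ?_, c, trivial, by group⟩
    have : qm (⟨_, H.hJS hvj⟩ * (⟨j, H.hJS hj⟩ ^ (c : ℕ))⁻¹) = 1 := by
      rw [map_mul, map_inv, map_pow, hc, mul_inv_cancel]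
    exact Subgroup.mem_subgroupOf.mp ((QuotientGroup.eq_one_iff _).mp this)
  have himg : gg * x * gg⁻¹ = x ^ (c : ℕ) := by
    have : (⟨v, hv⟩ : H.L0) * ⟨j, hjL⟩ * ⟨v, hv⟩⁻¹ = ⟨q, H.hQL hq⟩ * ⟨j, hjL⟩ ^ (c : ℕ) := Subtype.ext e
    have := congrArg H.piL this
    rwa [map_mul, map_mul, map_inv, map_mul, map_pow, hvk, (H.piL_ker ⟨q, H.hQL hq⟩).mpr hq, one_mul, ← hx] at this
  fin_cases c
  · exact g1 (by simpa using himg)
  · exact g2 (by simpa using himg)
  · refine g3 (himg.trans (eq_inv_of_mul_eq_one_left ?_))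
    show x ^ 2 * x = 1
    rw [← pow_succ, hx3]

end Hyp

/-- The test lines. -/
def tenList (δ : ZMod 3) : List V4 :=
  eZ :: ([(0, 0), (0, 1), (0, 2), (1, 0), (1, 1), (1, 2), (2, 0), (2, 1), (2, 2)] : List (ZMod 3 × ZMod 3)).map
    fun w => tr δ w eB

theorem tenList_facts : ∀ δ : ZMod 3, (tenList δ).Pairwise (fun x y => x ≠ y ∧ x ≠ -y) := by decide +kernel

theorem mem_tenList : ∀ δ : ZMod 3, ∀ v ∈ tenList δ, v = eZ ∨ ∃ w, v = tr δ w eB := by decide +kernel

theorem tr_mem_tenList : ∀ δ : ZMod 3, ∀ w, tr δ w eB ∈ tenList δ := by decide +kernel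

theorem tr_normal : ∀ δ : ZMod 3, ∀ v : V4, v.2.2.2 ≠ 0 →
    (tr δ (-v.2.1 * v.2.2.2, -v.2.2.1 * v.2.2.2) v).2 = (0, 0, v.2.2.2) := by decide +kernel

namespace Frame

variable {G : Type*} [Group G] [Finite G] {H : Hyp G} {δ : ZMod 3} (F : Frame H δ)

theorem map_zero' : F.φ 0 = 1 := by
  have := F.map_add 0 0
  rw [add_zero] at this
  exact mul_eq_left.mp this.symm

theorem map_neg' (v : V4) : F.φ (-v) = (F.φ v)⁻¹ :=
  eq_inv_of_mul_eq_one_left (by rw [← F.map_add, neg_add_cancel, F.map_zero'])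

theorem conj_mem {h : G} (hh : h ∈ H.NJ) (v : V4) : ∃ v', F.φ v' = h * F.φ v * h⁻¹ :=
  F.surj _ ((Subgroup.mem_normalizer_iff.mp hh _).mp (F.mem v))

/-- The action of an element of the normalizer of `J`. -/
noncomputable def act {h : G} (hh : h ∈ H.NJ) : V4 →+ V4 :=
  AddMonoidHom.mk' (fun v => (F.conj_mem hh v).choose) fun v v' => F.inj (by
    rw [(F.conj_mem hh (v + v')).choose_spec, F.map_add v v', F.map_add, (F.conj_mem hh v).choose_spec,
      (F.conj_mem hh v').choose_spec]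
    group)

theorem act_spec {h : G} (hh : h ∈ H.NJ) (v : V4) : F.φ (F.act hh v) = h * F.φ v * h⁻¹ :=
  (F.conj_mem hh v).choose_spec

theorem act_injective {h : G} (hh : h ∈ H.NJ) : Function.Injective (F.act hh) := fun v v' e => F.inj (by
  have := congrArg F.φ e
  rw [F.act_spec, F.act_spec] at this
  exact mul_left_cancel (mul_right_cancel this))

theorem act_eq {h : G} (hh : h ∈ H.NJ) {v v' : V4} (e : h * F.φ v * h⁻¹ = F.φ v') : F.act hh v = v' :=
  F.inj (by rw [F.act_spec, e])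

theorem act_mul {h k : G} (hh : h ∈ H.NJ) (hk : k ∈ H.NJ) (v : V4) :
    F.act (mul_mem hh hk) v = F.act hh (F.act hk v) :=
  F.act_eq _ (by rw [F.act_spec, F.act_spec]; group)

theorem act_id_mem {h : G} (hh : h ∈ H.NJ) (e : ∀ v, F.act hh v = v) : h ∈ H.J :=
  H.cent_J fun j hj => by
    obtain ⟨v, rfl⟩ := F.surj j hj
    exact mul_inv_eq_iff_eq_mul.mp (by rw [← F.act_spec hh, e])

theorem act_of_J {h : G} (hh : h ∈ H.NJ) (hj : h ∈ H.J) (v : V4) : F.act hh v = v :=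
  F.act_eq hh (by rw [H.hJc h hj _ (F.mem v), mul_inv_cancel_right])

theorem act_z {h : G} (hh : h ∈ H.NJ) : F.φ (F.act hh eZ) = h * H.z * h⁻¹ := by rw [F.act_spec, F.map_z]

/-- The conjugates of `Z`. -/
def Sing (v : V4) : Prop := ∃ m ∈ H.M0, m * H.z * m⁻¹ = F.φ v ∨ m * H.z * m⁻¹ = (F.φ v)⁻¹

theorem sing_neg {v : V4} (h : F.Sing v) : F.Sing (-v) := by
  obtain ⟨m, hm, e⟩ := h
  refine ⟨m, hm, ?_⟩
  rw [F.map_neg', inv_inv]; exact e.symm

theorem sing_eZ : F.Sing eZ := ⟨1, one_mem _, Or.inl (by rw [F.map_z]; group)⟩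

theorem sing_act {h : G} (hh : h ∈ H.NJ) {v : V4} (hv : F.Sing v) : F.Sing (F.act hh v) := by
  obtain ⟨m, hm, e⟩ := hv
  obtain ⟨m', hm', e'⟩ := H.conj_z_NJ (mul_mem hh (H.M0_le hm))
  rw [show h * m * H.z * (h * m)⁻¹ = h * (m * H.z * m⁻¹) * h⁻¹ by group] at e'
  refine ⟨m', hm', ?_⟩
  rw [F.act_spec]
  rcases e with e | e <;> rcases e' with e1 | e1 <;> rw [e] at e1
  · exact Or.inl e1.symm
  · right; rw [e1]; group
  · right
    rw [show (h * F.φ v * h⁻¹)⁻¹ = h * (F.φ v)⁻¹ * h⁻¹ by group]; exact e1.symm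
  · left
    rw [show h * F.φ v * h⁻¹ = (h * (F.φ v)⁻¹ * h⁻¹)⁻¹ by group, e1]; group

theorem act_tr (w : ZMod 3 × ZMod 3) :
    ∃ q ∈ (H.S : Subgroup G), ∃ hq : q ∈ H.NJ, ∀ v, F.act hq v = tr δ w v := by
  obtain ⟨q, hq, e⟩ := F.trans w
  exact ⟨q, hq, H.S_le_NJ hq, fun v => F.act_eq _ (e v)⟩

theorem sing_tr (w : ZMod 3 × ZMod 3) {v : V4} (h : F.Sing v) : F.Sing (tr δ w v) := by
  obtain ⟨q, -, hq, e⟩ := F.act_tr w
  rw [← e v]; exact F.sing_act hq h

/-- Shift of the last basis vector. -/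
def shiftV (c : ZMod 3) : V4 →+ V4 where
  toFun v := (v.1 + c * v.2.2.2, v.2.1, v.2.2.1, v.2.2.2)
  map_zero' := by simp
  map_add' v v' := by
    simp only [Prod.fst_add, Prod.snd_add, Prod.mk_add_mk]
    exact Prod.ext (by ring) rfl

end Frame

theorem shift_facts : ∀ δ c : ZMod 3, ∀ v : V4, Frame.shiftV c (tauV v) = tauV (Frame.shiftV c v) ∧
    Frame.shiftV (-c) (Frame.shiftV c v) = v ∧ (Frame.shiftV c v).2.2.2 = v.2.2.2 ∧
    ∀ w, Frame.shiftV c (tr δ w v) = tr δ w (Frame.shiftV c v) := by decide +kernel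

theorem tr_ne_zero : ∀ w, tr 2 w eB ≠ 0 := by decide +kernel

theorem shift_eZ : ∀ c : ZMod 3, Frame.shiftV c eZ = eZ := by decide +kernel

theorem shift_eB : ∀ c : ZMod 3, Frame.shiftV c eB = (c, 0, 0, 1) := by decide +kernel

/-- A frame adapted to the conjugates of `Z`. -/
structure Geo {G : Type*} [Group G] [Finite G] (H : Hyp G) where
  F : Frame H 1
  sing_iff : ∀ v : V4, v ≠ 0 → (qf v = 0 ↔ F.Sing v)

theorem exists_geo {G : Type*} [Group G] [Finite G] (H : Hyp G) : Nonempty (Geo H) := by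
  obtain ⟨δ, hδ, ⟨F0⟩⟩ := exists_frame H
  obtain ⟨m, hm, hmQ⟩ := H.exists_not_A
  obtain ⟨v, hv⟩ := F0.surj _ ((Subgroup.mem_normalizer_iff.mp (H.M0_le hm) _).mp (H.Z_le_J H.z_spec.1))
  have hvS : F0.Sing v := ⟨m, hm, Or.inl hv.symm⟩
  have hk : v.2.2.2 ≠ 0 := fun e => hmQ (hv ▸ (F0.mem_Q v).mpr e)
  set v1 := tr δ (-v.2.1 * v.2.2.2, -v.2.2.1 * v.2.2.2) v with hv1
  have hv1S : F0.Sing v1 := F0.sing_tr _ hvS
  have e1 : v1.2 = (0, 0, v.2.2.2) := tr_normal δ v hk
  obtain ⟨c, hc⟩ : ∃ c, F0.Sing (c, 0, 0, 1) := by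
    rcases three_vals v.2.2.2 with e | e | e
    · exact absurd e hk
    · exact ⟨v1.1, by rw [show ((v1.1, 0, 0, 1) : V4) = v1 from Prod.ext rfl (by rw [e1, e])]; exact hv1S⟩
    · exact ⟨-v1.1, by
        rw [show ((-v1.1, 0, 0, 1) : V4) = -v1 from Prod.ext rfl (by
          rw [Prod.snd_neg, e1, e]; rfl)]
        exact F0.sing_neg hv1S⟩
  let F : Frame H δ :=
    { φ := fun u => F0.φ (Frame.shiftV c u)
      map_add := fun u u' => by simp only [map_add, F0.map_add]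
      inj := fun u u' e => by
        have := congrArg (Frame.shiftV (-c)) (F0.inj e)
        rwa [(shift_facts 0 c u).2.1, (shift_facts 0 c u').2.1] at this
      mem := fun u => F0.mem _
      surj := fun j hj => by
        obtain ⟨u, hu⟩ := F0.surj j hj
        refine ⟨Frame.shiftV (-c) u, ?_⟩
        have := (shift_facts 0 (-c) u).2.1
        rw [neg_neg] at this
        rw [this, hu]
      map_z := by simp only [shift_eZ, F0.map_z]
      t_act := fun u => by rw [F0.t_act, (shift_facts 0 c u).1]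
      trans := fun w => by
        obtain ⟨q, hq, e⟩ := F0.trans w
        exact ⟨q, hq, fun u => by rw [e, (shift_facts δ c u).2.2.2 w]⟩
      mem_Q := fun u => by rw [F0.mem_Q, (shift_facts 0 c u).2.2.1] }
  have hB : F.Sing eB := by
    show ∃ m ∈ H.M0, _
    show ∃ m ∈ H.M0, m * H.z * m⁻¹ = F0.φ (Frame.shiftV c eB) ∨ m * H.z * m⁻¹ = (F0.φ (Frame.shiftV c eB))⁻¹
    rw [shift_eB]; exact hc
  have hten : ∀ u ∈ tenList δ, F.Sing u := by
    intro u hu
    rcases mem_tenList δ u hu with rfl | ⟨w, rfl⟩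
    · exact F.sing_eZ
    · exact F.sing_tr w hB
  have hsing : ∀ u, F.Sing u → u = 0 ∨ ∃ x ∈ tenList δ, u = x ∨ u = -x := by
    intro u hu
    by_contra hnot
    push Not at hnot
    have h := H.index_le_ten ((u :: tenList δ).map F.φ) (by
      intro x hx
      obtain ⟨w, hw, rfl⟩ := List.mem_map.mp hx
      rcases List.mem_cons.mp hw with rfl | hw'
      · exact hu
      · exact hten w hw') (by
      rw [List.pairwise_map, List.pairwise_cons]
      refine ⟨fun x hx => ⟨fun e => (hnot.2 x hx).1 (F.inj e), fun e => (hnot.2 x hx).2 (F.inj ?_)⟩,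
        (tenList_facts δ).imp fun {a b} h => ⟨fun e => h.1 (F.inj e), fun e => h.2 (F.inj ?_)⟩⟩
      · rw [F.map_neg', e]
      · rw [F.map_neg', e])
    simp [tenList] at h
  by_cases hd : δ = 1
  · subst hd
    refine ⟨⟨F, fun u hu => ?_⟩⟩
    rw [zeros_iff u hu]
    constructor
    · rintro (rfl | rfl | ⟨w, rfl | rfl⟩)
      · exact F.sing_eZ
      · exact F.sing_neg F.sing_eZ
      · exact F.sing_tr w hB
      · exact F.sing_neg (F.sing_tr w hB)
    · intro h
      obtain ⟨x, hx, e⟩ := (hsing u h).resolve_left hu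
      rcases mem_tenList 1 x hx with rfl | ⟨w, rfl⟩
      · exact e.imp_right fun e => Or.inl e
      · exact Or.inr (Or.inr ⟨w, e⟩)
  · exfalso
    have hd2 : δ = 2 := by rcases three_vals δ with e | e | e <;> [exact absurd e hδ; exact absurd e hd; exact e]
    subst hd2
    obtain ⟨k, hk', e⟩ := hB
    have hki : k⁻¹ ∈ H.NJ := inv_mem (H.M0_le hk')
    set L := F.act hki with hL
    have hLB : L eB = eZ ∨ L eB = -eZ := by
      rcases e with e | e
      · left; refine F.act_eq _ ?_; rw [← e, F.map_z]; group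
      · right; refine F.act_eq _ ?_
        rw [F.map_neg', F.map_z, ← inv_inv (F.φ eB), ← e]; group
    have hcases : ∀ w, tr 2 w eB ≠ eB → tr 2 w eB ≠ -eB → L (tr 2 w eB) ∈ signedB := by
      intro w h1 h2
      have hs := hsing _ (F.sing_act hki (F.sing_tr w ⟨k, hk', e⟩))
      have hinj := F.act_injective hki
      rcases hs with h0 | ⟨x, hx, hxe⟩
      · have : tr 2 w eB = 0 := hinj (h0.trans (map_zero L).symm)
        exact absurd this (tr_ne_zero w)
      · rcases mem_tenList 2 x hx with rfl | ⟨w', rfl⟩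
        · exfalso
          have : L (tr 2 w eB) = L eB ∨ L (tr 2 w eB) = L (-eB) := by
            rw [map_neg]
            rcases hLB with a | a <;> rcases hxe with b | b <;> rw [a] <;> simp [hL, b]
          rcases this with a | a
          · exact h1 (hinj a)
          · exact h2 (hinj a)
        · rcases hxe with b | b <;> rw [hL, b]
          · exact (mem_signedB w').1
          · exact (mem_signedB w').2
    obtain ⟨d1, d2, d3, d4, d5⟩ := delta_two
    have h := delta_two_pairs _ (hcases _ d2 d4) _ (hcases _ d3 d5)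
    rw [← map_add, d1, map_add] at h
    rcases hLB with a | a <;> rw [a] at h
    · exact h.1 rfl
    · exact h.2 (by rw [neg_add])

end CfsgLib.McLThree
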