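import Cfsg.Agent.Lib.McLThree.Plane

/-!
# The centralizer of `q0 = (1,0,0,2)` and of a further element of `J` normalizes `J`
-/

set_option autoImplicit false
set_option linter.unusedSectionVars false
set_option maxRecDepth 20000
set_option synthInstance.maxSize 4000
set_option synthInstance.maxHeartbeats 400000

namespace CfsgLib.McLThree

/-- The chosen nonsingular vector. -/
def q0 : V4 := (1, 0, 0, 2)

/-- The orthogonal complement of `q0`. -/
def perp (v : V4) : Prop := v.2.2.2 + 2 * v.1 = 0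

instance : DecidablePred perp := fun v => inferInstanceAs (Decidable (v.2.2.2 + 2 * v.1 = 0))

theorem perp_iff : ∀ v : V4, perp v ↔ qf (v + q0) = qf v + qf q0 := by decide +kernel

theorem perp_split : ∀ v : V4, ∃ k : ZMod 3, perp (v + k.val • q0) := by decide +kernel

theorem multiple_q0 : ∀ c : ZMod 3, ∀ k : ZMod 3, perp (c.val • q0 + k.val • q0) → c.val • q0 + k.val • q0 = 0 := by
  decide +kernel

/-- A plane through `q0` contains a singular vector or is orthogonal to one. -/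
theorem plane_split : ∀ v : V4, perp v → v ≠ 0 →
    (∃ k : ZMod 3, qf (v + k.val • q0) = 0 ∧ v + k.val • q0 ≠ 0 ∧ q0 ≠ v + k.val • q0 ∧ q0 ≠ -(v + k.val • q0)) ∨
    ((∀ a b : ZMod 3, (a, b) ≠ (0, 0) → qf (a.val • q0 + b.val • v) ≠ 0) ∧
      ∃ s : V4, s ≠ 0 ∧ qf s = 0 ∧ qf (q0 + s) = qf q0 ∧ qf (v + s) = qf v) := by decide +kernel

theorem perp_eZ : ∀ v : V4, qf (v + eZ) = qf v → v.2.2.2 = 0 := by decide +kernel

theorem perp_eZ_neg : ∀ v : V4, qf (v + -eZ) = qf v → v.2.2.2 = 0 := by decide +kernel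

theorem plane_clear : ∀ i u1 u2 i' u1' u2' : ZMod 3,
    (∀ a b : ZMod 3, (a, b) ≠ (0, 0) → qf (a.val • ((i, u1, u2, 0) : V4) + b.val • (i', u1', u2', 0)) ≠ 0) →
    ∃ w : ZMod 3 × ZMod 3, (∃ a b : ZMod 3,
        eA = a.val • tr 1 w (i, u1, u2, 0) + b.val • tr 1 w (i', u1', u2', 0)) ∧
      ∃ a b : ZMod 3, eC = a.val • tr 1 w (i, u1, u2, 0) + b.val • tr 1 w (i', u1', u2', 0) := by decide +kernel

namespace Data

variable {G : Type*} [Group G] [Finite G] {H : Hyp G} (D : Data H)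

theorem commute_comb {x : G} {v w : V4} (hv : x * D.F.φ v = D.F.φ v * x) (hw : x * D.F.φ w = D.F.φ w * x)
    (a b : ℕ) : x * D.F.φ (a • v + b • w) = D.F.φ (a • v + b • w) * x := by
  rw [D.F.map_add, D.F.map_nsmul', D.F.map_nsmul']
  exact (((show Commute x (D.F.φ v) from hv).pow_right _).mul_right
    ((show Commute x (D.F.φ w) from hw).pow_right _)).eq

theorem conj_commute {x n : G} (hn : n ∈ H.NJ) {v : V4} (hv : x * D.F.φ v = D.F.φ v * x) :
    n * x * n⁻¹ * D.F.φ (D.F.act hn v) = D.F.φ (D.F.act hn v) * (n * x * n⁻¹) := by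
  rw [D.F.act_spec]
  calc n * x * n⁻¹ * (n * D.F.φ v * n⁻¹) = n * (x * D.F.φ v) * n⁻¹ := by group
    _ = n * (D.F.φ v * x) * n⁻¹ := by rw [hv]
    _ = _ := by group

/-- The centralizer of `q0` and of an orthogonal element normalizes `J`. -/
theorem cent_perp {v : V4} (hv : perp v) (hv0 : v ≠ 0) {x : G} (hxq : x * D.F.φ q0 = D.F.φ q0 * x)
    (hxv : x * D.F.φ v = D.F.φ v * x) : x ∈ H.NJ := by
  rcases plane_split v hv hv0 with ⟨k, hq, h0, h1, h2⟩ | ⟨hell, s, hs0, hs, hsq, hsv⟩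
  · refine D.cent_sing h0 hq (by decide) h1 h2 ?_ hxq
    have := D.commute_comb hxv hxq 1 k.val
    rwa [one_smul] at this
  · obtain ⟨m, hm, e⟩ := (D.toGeo.sing_iff s hs0).mp hs
    have hm' : m⁻¹ ∈ H.M0 := inv_mem hm
    have hmN := H.M0_le hm'
    have hsimg : D.F.act hmN s = eZ ∨ D.F.act hmN s = -eZ := by
      rcases e with e | e
      · left; refine D.F.act_eq _ ?_; rw [← e, D.F.map_z]; group
      · right; refine D.F.act_eq _ ?_
        rw [D.F.map_neg', D.F.map_z, show D.F.φ s = (m * H.z * m⁻¹)⁻¹ by rw [e, inv_inv]]; group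
    have hflat : ∀ u, qf (u + s) = qf u → (D.F.act hmN u).2.2.2 = 0 := fun u hu => by
      have h := D.toGeo.qf_M0 hm' (u + s)
      rw [map_add, hu, ← D.toGeo.qf_M0 hm' u] at h
      rcases hsimg with e' | e' <;> rw [e'] at h
      · exact perp_eZ _ h
      · exact perp_eZ_neg _ h
    obtain ⟨p, hp⟩ : ∃ p : ZMod 3 × ZMod 3 × ZMod 3, D.F.act hmN q0 = (p.1, p.2.1, p.2.2, 0) :=
      ⟨((D.F.act hmN q0).1, (D.F.act hmN q0).2.1, (D.F.act hmN q0).2.2.1),
        Prod.ext rfl (Prod.ext rfl (Prod.ext rfl (hflat q0 hsq)))⟩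
    obtain ⟨r, hr⟩ : ∃ r : ZMod 3 × ZMod 3 × ZMod 3, D.F.act hmN v = (r.1, r.2.1, r.2.2, 0) :=
      ⟨((D.F.act hmN v).1, (D.F.act hmN v).2.1, (D.F.act hmN v).2.2.1),
        Prod.ext rfl (Prod.ext rfl (Prod.ext rfl (hflat v hsv)))⟩
    obtain ⟨w, ⟨a, b, hA⟩, a', b', hC⟩ := plane_clear p.1 p.2.1 p.2.2 r.1 r.2.1 r.2.2 fun a b hab => by
      rw [← hp, ← hr, ← map_nsmul, ← map_nsmul, ← map_add, D.toGeo.qf_M0 hm']
      exact hell a b hab
    obtain ⟨g, -, hg, hgv⟩ := D.F.act_tr w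
    have hn : g * m⁻¹ ∈ H.NJ := mul_mem hg hmN
    have hi : ∀ u, D.F.act hn u = tr 1 w (D.F.act hmN u) := fun u => by rw [D.F.act_mul hg hmN, hgv]
    have hq' := D.conj_commute hn hxq
    have hv' := D.conj_commute hn hxv
    rw [hi, hp] at hq'
    rw [hi, hr] at hv'
    have hMC : g * m⁻¹ * x * (g * m⁻¹)⁻¹ ∈ D.MC := by
      refine D.mem_MC.mpr ⟨?_, ?_⟩
      · rw [hA]; exact D.commute_comb hq' hv' _ _
      · rw [hC]; exact D.commute_comb hq' hv' _ _
    have := mul_mem (mul_mem (inv_mem hn) (D.MC_le_NJ hMC)) hn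
    rwa [show (g * m⁻¹)⁻¹ * (g * m⁻¹ * x * (g * m⁻¹)⁻¹) * (g * m⁻¹) = x by group] at this

/-- The centralizer of `q0` and of a further element normalizes `J`. -/
theorem cent_pair {v : V4} (hv : ∀ c : ZMod 3, v ≠ c.val • q0) {x : G} (hxq : x * D.F.φ q0 = D.F.φ q0 * x)
    (hxv : x * D.F.φ v = D.F.φ v * x) : x ∈ H.NJ := by
  obtain ⟨k, hk⟩ := perp_split v
  refine D.cent_perp hk (fun e => hv (-k) ?_) hxq ?_
  · have h3 : ∀ k : ZMod 3, ∀ u : V4, u + k.val • q0 = 0 → u = (-k).val • q0 := by decide +kernel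
    exact h3 k v e
  · have := D.commute_comb hxv hxq 1 k.val
    rwa [one_smul] at this

end Data

end CfsgLib.McLThree
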