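import Cfsg.Agent.Lib.McLThree.Iso
import Cfsg.Agent.Lib.McLThree.NineSmall

/-!
# The centralizer of the middle plane normalizes `J`
-/

set_option autoImplicit false
set_option linter.unusedSectionVars false
set_option maxRecDepth 20000
set_option synthInstance.maxSize 4000
set_option synthInstance.maxHeartbeats 400000

open Equiv

namespace CfsgLib.McLThree

/-- The map negating the two lines. -/
def negH (v : V4) : V4 := (-v.1, v.2.1, v.2.2.1, -v.2.2.2)

theorem mid_images : ∀ X : V4, X ≠ 0 → qf X = 0 → qf (X + eA) = 1 → qf (X + eC) = 1 →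
    qf (X + eA + eC) = 2 → X = eZ ∨ X = -eZ ∨ X = eB ∨ X = -eB := by decide +kernel

theorem mid_pairs : ∀ X Y : V4, (X = eZ ∨ X = -eZ ∨ X = eB ∨ X = -eB) → (Y = eZ ∨ Y = -eZ ∨ Y = eB ∨ Y = -eB) →
    qf (X + Y) = 1 → (X = eZ ∧ Y = eB) ∨ (X = -eZ ∧ Y = -eB) ∨ ∃ σ : ZMod 3, σ ≠ 0 ∧ X = σ.val • eB ∧ Y = σ.val • eZ := by
  intro X Y hX hY h
  rcases hX with rfl | rfl | rfl | rfl <;> rcases hY with rfl | rfl | rfl | rfl <;>
    first
    | exact Or.inl ⟨rfl, rfl⟩
    | exact Or.inr (Or.inl ⟨rfl, rfl⟩)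
    | exact Or.inr (Or.inr ⟨1, by decide, by decide, by decide⟩)
    | exact Or.inr (Or.inr ⟨2, by decide, by decide, by decide⟩)
    | exact absurd h (by decide)

/-- The map interchanging the lines. -/
def swapH (σ : ZMod 3) (v : V4) : V4 := (σ * v.2.2.2, v.2.1, v.2.2.1, σ * v.1)

theorem swap_fix : ∀ a p q σ : ZMod 3, a ≠ 0 → σ ≠ 0 → p * p + q * q = 1 → a * σ = 1 →
    gMap a p q (swapH σ eZ) = eZ ∧ gMap a p q (swapH σ eB) = eB ∧
    (gMap a p q (swapH σ eA) ≠ eA ∨ gMap a p q (swapH σ eC) ≠ eC) ∧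
    (gMap a p q (swapH σ eA) ≠ tauV eA ∨ gMap a p q (swapH σ eC) ≠ tauV eC) ∧
    ∀ s : ZMod 3, s ≠ 0 → (gMap a p q (swapH σ eA) ≠ eMap 1 s eA ∨ gMap a p q (swapH σ eC) ≠ eMap 1 s eC) := by
  decide +kernel

theorem swap_fix' : ∀ a p q σ e : ZMod 3, a ≠ 0 → σ ≠ 0 → e ≠ 0 → p * p + q * q = 1 → a * σ ≠ 1 →
    eMap 2 e (gMap a p q (swapH σ eZ)) = eZ ∧ eMap 2 e (gMap a p q (swapH σ eB)) = eB ∧
    (eMap 2 e (gMap a p q (swapH σ eA)) ≠ eA ∨ eMap 2 e (gMap a p q (swapH σ eC)) ≠ eC) ∧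
    (eMap 2 e (gMap a p q (swapH σ eA)) ≠ tauV eA ∨ eMap 2 e (gMap a p q (swapH σ eC)) ≠ tauV eC) ∧
    ∀ s : ZMod 3, s ≠ 0 → (eMap 2 e (gMap a p q (swapH σ eA)) ≠ eMap 1 s eA ∨
      eMap 2 e (gMap a p q (swapH σ eC)) ≠ eMap 1 s eC) := by
  decide +kernel

theorem negH_facts : ∀ v : V4, negH (negH v) = v ∧
    ∀ a b : ZMod 3, (v.1, v.2.2.2) ≠ (0, 0) → negH v ≠ v + (0, a, b, 0) := by decide +kernel

theorem line_part : ∀ v : V4, (v.1, v.2.2.2) ≠ (0, 0) → ∃ u1 u2 : ZMod 3,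
    qf (v.1, u1, u2, v.2.2.2) = 0 ∧ ((v.1, u1, u2, v.2.2.2) : V4) ≠ 0 ∧
      eA ≠ (v.1, u1, u2, v.2.2.2) ∧ eA ≠ -((v.1, u1, u2, v.2.2.2) : V4) := by decide +kernel

theorem mid_decomp : ∀ v : V4, ∀ u1 u2 : ZMod 3,
    ((v.1, u1, u2, v.2.2.2) : V4) = v + (u1 - v.2.1).val • eA + (u2 - v.2.2.1).val • eC := by decide +kernel

theorem mid_val : ∀ a b : ZMod 3, ((0, a, b, 0) : V4) = a.val • eA + b.val • eC := by decide +kernel

theorem split_line : ∀ v : V4, v = (v.1, 0, 0, v.2.2.2) + ((0, v.2.1, v.2.2.1, 0) : V4) := by decide +kernel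

theorem mult_cube : ∀ p : Multiplicative (ZMod 3 × ZMod 3), p ^ 3 = 1 := by decide +kernel

namespace Data

variable {G : Type*} [Group G] [Finite G] {H : Hyp G} (D : Data H)

/-- The centralizer of the middle plane. -/
def MC : Subgroup G := Subgroup.centralizer {D.F.φ eA, D.F.φ eC}

theorem mem_MC {x : G} : x ∈ D.MC ↔ x * D.F.φ eA = D.F.φ eA * x ∧ x * D.F.φ eC = D.F.φ eC * x := by
  rw [MC, Subgroup.mem_centralizer_iff]
  refine ⟨fun h => ⟨(h _ (Or.inl rfl)).symm, (h _ (Or.inr rfl)).symm⟩, fun h y hy => ?_⟩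
  rcases hy with rfl | rfl
  · exact h.1.symm
  · exact h.2.symm

theorem comm_mid {x : G} (hx : x ∈ D.MC) (a b : ZMod 3) :
    x * D.F.φ (0, a, b, 0) = D.F.φ (0, a, b, 0) * x := by
  obtain ⟨h1, h2⟩ := D.mem_MC.mp hx
  rw [mid_val, D.F.map_add, D.F.map_nsmul', D.F.map_nsmul']
  exact (((show Commute x (D.F.φ eA) from h1).pow_right _).mul_right
    ((show Commute x (D.F.φ eC) from h2).pow_right _)).eq

theorem act_mid {x : G} (hx : x ∈ D.MC) (hxJ : x ∈ H.NJ) :
    D.F.act hxJ eA = eA ∧ D.F.act hxJ eC = eC := by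
  obtain ⟨h1, h2⟩ := D.mem_MC.mp hx
  exact ⟨D.F.act_eq _ (mul_inv_eq_iff_eq_mul.mpr h1), D.F.act_eq _ (mul_inv_eq_iff_eq_mul.mpr h2)⟩

/-- An element fixing the middle plane fixes or negates both lines. -/
theorem MC_act {x : G} (hx : x ∈ D.MC) (hxJ : x ∈ H.NJ) :
    (∀ v, D.F.act hxJ v = v) ∨ ∀ v, D.F.act hxJ v = negH v := by
  obtain ⟨hA, hC⟩ := D.act_mid hx hxJ
  obtain ⟨μ, hμ, hsim⟩ := sim (D.F.act_injective hxJ) (D.toGeo.zero_act hxJ)
  have hμ1 : μ = 1 := by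
    have := hsim eA
    rw [hA, show qf eA = 1 from rfl, mul_one] at this
    exact this.symm
  subst hμ1
  have hq : ∀ v, qf (D.F.act hxJ v) = qf v := fun v => by rw [hsim, one_mul]
  have himg : ∀ u, u ≠ 0 → qf u = 0 → qf (u + eA) = 1 → qf (u + eC) = 1 → qf (u + eA + eC) = 2 →
      D.F.act hxJ u = eZ ∨ D.F.act hxJ u = -eZ ∨ D.F.act hxJ u = eB ∨ D.F.act hxJ u = -eB := by
    intro u h0 h1 h2 h3 h4
    refine mid_images _ (fun e => h0 (D.F.act_injective hxJ (e.trans (map_zero _).symm))) ((hq u).trans h1)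
      ?_ ?_ ?_
    · rw [← hA, ← map_add, hq, h2]
    · rw [← hC, ← map_add, hq, h3]
    · rw [← hA, ← hC, ← map_add, ← map_add, hq, h4]
  have hsum : qf (D.F.act hxJ eZ + D.F.act hxJ eB) = 1 := by rw [← map_add, hq]; rfl
  have hdec : ∀ v, D.F.act hxJ v = v.1.val • D.F.act hxJ eZ + v.2.1.val • eA + v.2.2.1.val • eC +
      v.2.2.2.val • D.F.act hxJ eB := fun v => by
    conv_lhs => rw [vec_decomp v]
    rw [map_add, map_add, map_add, map_nsmul, map_nsmul, map_nsmul, map_nsmul, hA, hC]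
  rcases mid_pairs _ _ (himg eZ (by decide) (by decide) (by decide) (by decide) (by decide))
      (himg eB (by decide) (by decide) (by decide) (by decide) (by decide)) hsum with
    ⟨ez, eb⟩ | ⟨ez, eb⟩ | ⟨σ, hσ, ez, eb⟩
  · left; intro v; rw [hdec, ez, eb, ← vec_decomp]
  · right; intro v
    rw [hdec, ez, eb]
    simp only [smul_neg, smul_eval]
    simp [negH, eZ, eA, eC, eB]
  · exfalso
    have hsw : ∀ v, D.F.act hxJ v = swapH σ v := fun v => by
      rw [hdec, ez, eb]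
      simp only [smul_eval]
      simp [swapH, eZ, eA, eC, eB, mul_comm]
    have hgN := H.M0_le D.hg
    have hgx : D.g * x ∈ H.NJ := mul_mem hgN hxJ
    have hg' : ∀ v, D.F.act hgx v = gMap D.ga D.gp D.gq (swapH σ v) := fun v => by
      rw [D.F.act_mul hgN hxJ, hsw, D.g_act]
    by_cases hone : D.ga * σ = 1
    · obtain ⟨f1, f2, n1, n2, n3⟩ := swap_fix D.ga D.gp D.gq σ D.ga0 hσ D.gpq hone
      rcases D.fix_both hgx (by rw [hg', f1]) (by rw [hg', f2]) with c | c | ⟨-, s, hs, c⟩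
      · rcases n1 with n | n <;> exact n (by rw [← hg', c])
      · rcases n2 with n | n <;> exact n (by rw [← hg', c])
      · rcases n3 s hs with n | n <;> exact n (by rw [← hg', c])
    · have heN := H.M0_le D.he
      have hegx : D.e * (D.g * x) ∈ H.NJ := mul_mem heN hgx
      have he' : ∀ v, D.F.act hegx v = eMap 2 D.es (gMap D.ga D.gp D.gq (swapH σ v)) := fun v => by
        rw [D.F.act_mul heN hgx, hg', D.e_act]
      obtain ⟨f1, f2, n1, n2, n3⟩ := swap_fix' D.ga D.gp D.gq σ D.es D.ga0 hσ D.es0 D.gpq hone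
      rcases D.fix_both hegx (by rw [he', f1]) (by rw [he', f2]) with c | c | ⟨-, s, hs, c⟩
      · rcases n1 with n | n <;> exact n (by rw [← he', c])
      · rcases n2 with n | n <;> exact n (by rw [← he', c])
      · rcases n3 s hs with n | n <;> exact n (by rw [← he', c])

/-- An element centralizing the middle plane and a further element of `J` normalizes `J`. -/
theorem MC_cent {x : G} (hx : x ∈ D.MC) {v : V4} (hv : (v.1, v.2.2.2) ≠ (0, 0))
    (hxv : x * D.F.φ v = D.F.φ v * x) : x ∈ H.NJ := by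
  obtain ⟨u1, u2, hq, h0, hA1, hA2⟩ := line_part v hv
  refine D.cent_sing h0 hq (by decide) hA1 hA2 ?_ (D.mem_MC.mp hx).1
  rw [mid_decomp, D.F.map_add, D.F.map_add, D.F.map_nsmul', D.F.map_nsmul']
  exact (((show Commute x (D.F.φ v) from hxv).mul_right
    ((show Commute x (D.F.φ eA) from (D.mem_MC.mp hx).1).pow_right _)).mul_right
    ((show Commute x (D.F.φ eC) from (D.mem_MC.mp hx).2).pow_right _)).eq

theorem mem_MC_J {j : G} (hj : j ∈ H.J) : j ∈ D.MC :=
  D.mem_MC.mpr ⟨H.hJc j hj _ (D.F.mem _), H.hJc j hj _ (D.F.mem _)⟩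

/-- The middle plane as a subgroup of its centralizer. -/
def Mid : Subgroup D.MC where
  carrier := {x | ∃ a b : ZMod 3, D.F.φ (0, a, b, 0) = (x : G)}
  one_mem' := ⟨0, 0, D.F.map_zero'⟩
  mul_mem' := by
    rintro x y ⟨a, b, e⟩ ⟨a', b', e'⟩
    exact ⟨a + a', b + b', by rw [Subgroup.coe_mul, ← e, ← e', ← D.F.map_add]; simp⟩
  inv_mem' := by
    rintro x ⟨a, b, e⟩
    exact ⟨-a, -b, by rw [InvMemClass.coe_inv, ← e, ← D.F.map_neg']; simp⟩

instance Mid_normal : D.Mid.Normal := ⟨fun y hy x => by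
  obtain ⟨a, b, e⟩ := hy
  refine ⟨a, b, ?_⟩
  simp only [Subgroup.coe_mul, InvMemClass.coe_inv, ← e]
  rw [D.comm_mid x.2, mul_inv_cancel_right]⟩

theorem MC_le_NJ {x : G} (hx : x ∈ D.MC) : x ∈ H.NJ := by
  classical
  haveI : Fact (Nat.Prime 3) := ⟨Nat.prime_three⟩
  let π := QuotientGroup.mk' D.Mid
  let ι : ZMod 3 × ZMod 3 → D.MC := fun p => ⟨D.F.φ (p.1, 0, 0, p.2), D.mem_MC_J (D.F.mem _)⟩
  have hιadd : ∀ p p', ι (p + p') = ι p * ι p' := fun p p' => Subtype.ext (by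
    show D.F.φ _ = D.F.φ _ * D.F.φ _
    rw [← D.F.map_add]; simp)
  let f : Multiplicative (ZMod 3 × ZMod 3) →* D.MC ⧸ D.Mid :=
    π.comp (MonoidHom.mk' (fun p => ι p.toAdd) fun p p' => hιadd _ _)
  let S := f.range
  have hker : ∀ p : ZMod 3 × ZMod 3, π (ι p) = 1 → p = 0 := fun p hp => by
    obtain ⟨a, b, e⟩ := (QuotientGroup.eq_one_iff _).mp hp
    have h := D.F.inj e
    have h1 : p.1 = 0 := (congrArg Prod.fst h).symm
    have h2 : p.2 = 0 := (congrArg (fun v : V4 => v.2.2.2) h).symm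
    exact Prod.ext h1 h2
  have hinj : Function.Injective f := (injective_iff_map_eq_one f).mpr fun p hp =>
    Multiplicative.toAdd.injective (hker _ hp)
  have hcard : Nat.card S = 9 := by
    rw [← Nat.card_congr (MonoidHom.ofInjective hinj).toEquiv, Nat.card_eq_fintype_card]
    rfl
  have hmemJ : ∀ y : D.MC, (y : G) ∈ H.J → π y ∈ S := fun y hy => by
    obtain ⟨v, hv⟩ := D.F.surj _ hy
    refine ⟨Multiplicative.ofAdd (v.1, v.2.2.2), ?_⟩
    refine (QuotientGroup.eq.mpr ?_)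
    refine ⟨v.2.1, v.2.2.1, ?_⟩
    show _ = (D.F.φ (v.1, 0, 0, v.2.2.2))⁻¹ * (y : G)
    rw [← hv]
    have e2 : D.F.φ v = D.F.φ (v.1, 0, 0, v.2.2.2) * D.F.φ (0, v.2.1, v.2.2.1, 0) := by
      rw [← D.F.map_add, ← split_line v]
    rw [e2, inv_mul_cancel_left]
  have hS : ∀ s ∈ S, ∃ p : ZMod 3 × ZMod 3, π (ι p) = s := fun s ⟨p, hp⟩ => ⟨p.toAdd, hp⟩
  have hpre : ∀ y : D.MC, π y ∈ S → (y : G) ∈ H.J := fun y hy => by
    obtain ⟨p, hp⟩ := hS _ hy
    obtain ⟨a, b, e⟩ := QuotientGroup.eq.mp hp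
    have : (y : G) = D.F.φ (p.1, 0, 0, p.2) * D.F.φ (0, a, b, 0) := by
      rw [e]; show _ = _ * ((D.F.φ (p.1, 0, 0, p.2))⁻¹ * (y : G)); group
    rw [this]; exact mul_mem (D.F.mem _) (D.F.mem _)
  -- normalizer
  have hnorm : ∀ y : D.MC, π y ∈ Subgroup.normalizer (S : Set (D.MC ⧸ D.Mid)) → (y : G) ∈ H.NJ := fun y hy =>
    H.weakly_closed fun j hj => by
      have h := (Subgroup.mem_normalizer_iff.mp hy _).mp (hmemJ ⟨j, D.mem_MC_J hj⟩ hj)
      rw [← map_mul, ← map_inv, ← map_mul] at h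
      exact H.hJS (hpre _ h)
  have hcent : ∀ s ∈ S, s ≠ 1 → Subgroup.centralizer ({s} : Set (D.MC ⧸ D.Mid)) = S := by
    intro s hs hs1
    refine le_antisymm (fun c hc => ?_) (fun c hc => Subgroup.mem_centralizer_singleton_iff.mpr ?_)
    · induction c using QuotientGroup.induction_on with | _ y => ?_
      obtain ⟨p, hp⟩ := hS s hs
      have hp0 : p ≠ 0 := fun e => hs1 (by
        rw [← hp, e, show ι 0 = 1 from Subtype.ext D.F.map_zero', map_one])
      have hc' : π y * π (ι p) = π (ι p) * π y := by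
        rw [hp]; exact Subgroup.mem_centralizer_singleton_iff.mp hc
      rw [← map_mul, ← map_mul] at hc'
      obtain ⟨a, b, e⟩ := QuotientGroup.eq.mp hc'.symm
      set h : V4 := (p.1, 0, 0, p.2) with hh
      have hyh : (y : G) * D.F.φ h * (y : G)⁻¹ = D.F.φ (h + (0, a, b, 0)) := by
        rw [D.F.map_add]
        calc (y : G) * D.F.φ h * (y : G)⁻¹ = D.F.φ h * (y : G) * D.F.φ (0, a, b, 0) * (y : G)⁻¹ := by
              rw [e]; show _ = _ * ((D.F.φ h * (y : G))⁻¹ * ((y : G) * D.F.φ h)) * _; group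
          _ = D.F.φ h * ((y : G) * D.F.φ (0, a, b, 0) * (y : G)⁻¹) := by group
          _ = _ := by rw [D.comm_mid y.2, mul_inv_cancel_right]
      obtain ⟨n, hn, hnr⟩ := H.fusion (x := (y : G)) (R := {D.F.φ eA, D.F.φ eC, D.F.φ h})
        (by rintro _ (rfl | rfl | rfl) <;> exact D.F.mem _)
        (by
          rintro _ (rfl | rfl | rfl)
          · rw [(D.mem_MC.mp y.2).1, mul_inv_cancel_right]; exact D.F.mem _
          · rw [(D.mem_MC.mp y.2).2, mul_inv_cancel_right]; exact D.F.mem _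
          · rw [hyh]; exact D.F.mem _)
      have hnM : n ∈ D.MC := D.mem_MC.mpr ⟨mul_inv_eq_iff_eq_mul.mp (by
          rw [hnr _ (Or.inl rfl), (D.mem_MC.mp y.2).1, mul_inv_cancel_right]),
        mul_inv_eq_iff_eq_mul.mp (by
          rw [hnr _ (Or.inr (Or.inl rfl)), (D.mem_MC.mp y.2).2, mul_inv_cancel_right])⟩
      have hact : D.F.act hn h = h + (0, a, b, 0) := D.F.act_eq _ (by rw [hnr _ (Or.inr (Or.inr rfl)), hyh])
      have hne : (h.1, h.2.2.2) ≠ ((0, 0) : ZMod 3 × ZMod 3) := hp0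
      have hfix : D.F.act hn h = h := by
        rcases D.MC_act hnM hn with c | c
        · exact c h
        · exfalso
          rw [c] at hact
          exact (negH_facts h).2 a b hne hact
      rw [hfix] at hact
      rw [← hact] at hyh
      have hyc : (y : G) * D.F.φ h = D.F.φ h * (y : G) := mul_inv_eq_iff_eq_mul.mp hyh
      have hyN : (y : G) ∈ H.NJ := D.MC_cent y.2 hne hyc
      rcases D.MC_act y.2 hyN with c | c
      · exact hmemJ y (D.F.act_id_mem hyN c)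
      · exfalso
        have h1 : D.F.act hyN h = h := D.F.act_eq _ (mul_inv_eq_iff_eq_mul.mpr hyc)
        rw [c] at h1
        exact (negH_facts h).2 0 0 hne (h1.trans (add_zero h).symm)
    · obtain ⟨p, rfl⟩ := hc
      obtain ⟨p', rfl⟩ := hs
      rw [← map_mul, mul_comm, map_mul]
  -- the Sylow subgroup
  have hSp : IsPGroup 3 S := IsPGroup.of_card (n := 2) (by rw [hcard]; norm_num)
  obtain ⟨P, hP⟩ := hSp.exists_le_sylow
  have hPS : S = (P : Subgroup (D.MC ⧸ D.Mid)) := by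
    refine le_antisymm hP fun c hc => ?_
    haveI : Nontrivial (P : Subgroup (D.MC ⧸ D.Mid)) := Finite.one_lt_card_iff_nontrivial.mp
      (lt_of_lt_of_le (by rw [hcard]; norm_num) (Nat.le_of_dvd Nat.card_pos (Subgroup.card_dvd_of_le hP)))
    haveI := P.isPGroup'.center_nontrivial
    obtain ⟨⟨⟨w, hwP⟩, hwc⟩, hw1⟩ := exists_ne (1 : Subgroup.center (P : Subgroup (D.MC ⧸ D.Mid)))
    have hw' : w ≠ 1 := fun e => hw1 (Subtype.ext (Subtype.ext e))
    have hcomm : ∀ q ∈ (P : Subgroup (D.MC ⧸ D.Mid)), q * w = w * q := fun q hq =>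
      congrArg Subtype.val (Subgroup.mem_center_iff.mp hwc ⟨q, hq⟩)
    haveI : Nontrivial S := Finite.one_lt_card_iff_nontrivial.mp (by rw [hcard]; norm_num)
    obtain ⟨⟨s, hs⟩, hs1⟩ := exists_ne (1 : S)
    have hs' : s ≠ 1 := fun e => hs1 (Subtype.ext e)
    have hwS : w ∈ S := by
      rw [← hcent s hs hs', Subgroup.mem_centralizer_singleton_iff]; exact (hcomm s (hP hs)).symm
    rw [← hcent w hwS hw', Subgroup.mem_centralizer_singleton_iff]
    exact hcomm c hc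
  have hyp : CfsgLib.NineSelfCent.Hyp P S :=
    { eq := hPS
      comm := fun a ha b hb => by
        obtain ⟨p, rfl⟩ := ha; obtain ⟨p', rfl⟩ := hb
        rw [← map_mul, mul_comm, map_mul]
      exp := fun a ha => by
        obtain ⟨p, rfl⟩ := ha
        have hp3 : p ^ 3 = 1 := mult_cube p
        rw [← map_pow, hp3, map_one]
      card := hcard
      cent := hcent }
  -- the automizer has order at most two
  set N := Subgroup.normalizer (S : Set (D.MC ⧸ D.Mid))
  have hidx : ∀ a b : D.MC ⧸ D.Mid, a ∈ N → b ∈ N → a ∉ S → b ∉ S → a * b ∈ S := by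
    intro a b ha hb haS hbS
    induction a using QuotientGroup.induction_on with | _ a => ?_
    induction b using QuotientGroup.induction_on with | _ b => ?_
    have haJ := hnorm a ha
    have hbJ := hnorm b hb
    have hna : ∀ v, D.F.act haJ v = negH v := (D.MC_act a.2 haJ).resolve_left fun c =>
      haS (hmemJ a (D.F.act_id_mem haJ c))
    have hnb : ∀ v, D.F.act hbJ v = negH v := (D.MC_act b.2 hbJ).resolve_left fun c =>
      hbS (hmemJ b (D.F.act_id_mem hbJ c))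
    exact hmemJ (a * b) (D.F.act_id_mem (mul_mem haJ hbJ) fun v => by
      rw [D.F.act_mul haJ hbJ, hnb, hna, (negH_facts v).1])
  have hN : Nat.card N = 9 ∨ Nat.card N = 18 := by
    by_cases hall : N ≤ S
    · exact Or.inl (by rw [le_antisymm hall Subgroup.le_normalizer, hcard])
    obtain ⟨a, haN, haS⟩ := SetLike.not_le_iff_exists.mp hall
    right
    have h2 : (S.subgroupOf N).index = 2 := by
      rw [Subgroup.index_eq_two_iff]
      refine ⟨⟨a, haN⟩, fun b => ?_⟩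
      simp only [Subgroup.mem_subgroupOf, Subgroup.coe_mul]
      by_cases hb : (b : D.MC ⧸ D.Mid) ∈ S
      · exact Or.inr ⟨hb, fun hba => haS ((Subgroup.mul_mem_cancel_left S hb).mp hba)⟩
      · exact Or.inl ⟨hidx _ _ b.2 haN hb haS, hb⟩
    rw [← (S.subgroupOf N).card_mul_index, h2,
      Nat.card_congr (Subgroup.subgroupOfEquivOfLe (Subgroup.le_normalizer (H := S))).toEquiv, hcard]
  have htop : N = ⊤ := by
    rcases hN with h9 | h18
    · rw [eq_top_iff, ← normal_of_eq hyp h9]; exact Subgroup.le_normalizer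
    · haveI := normal_of_eighteen hyp h18
      exact Subgroup.normalizer_eq_top S
  exact hnorm ⟨x, hx⟩ (htop.ge (Subgroup.mem_top _))

end Data

end CfsgLib.McLThree
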