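import Cfsg.Agent.Lib.McLThree.Axes

/-!
# The centralizer of `q0` modulo `q0`
-/

set_option autoImplicit false
set_option linter.unusedSectionVars false
set_option maxRecDepth 20000
set_option synthInstance.maxSize 4000
set_option synthInstance.maxHeartbeats 400000

open scoped Pointwise

namespace CfsgLib.McLThree

theorem cyc_fixed : ∀ σ : Equiv.Perm (Fin 3), ∀ ε : V3, (∀ i, ε i ≠ 0) →
    (∀ i : Fin 3, mon σ ε (mon σ ε (mon σ ε (ev i))) = ev i) → σ ≠ 1 →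
    (∃ u : V3, u ≠ 0 ∧ mon σ ε u = u) ∧ ∀ u : V3, mon σ ε u = u → qf (ax u) = 0 := by decide +kernel

theorem mon_inj : ∀ σ τ : Equiv.Perm (Fin 3), ∀ ε η : V3, (∀ i, ε i ≠ 0) → (∀ i, η i ≠ 0) →
    (∀ i : Fin 3, mon σ ε (ev i) = mon τ η (ev i)) → σ = τ ∧ ∀ i, ε i = η i := by decide +kernel

theorem elliptic_ne : ∀ v : V4, (∀ a b : ZMod 3, (a, b) ≠ (0, 0) → qf (a.val • q0 + b.val • v) ≠ 0) →
    qf v ≠ 0 := fun v h => by simpa using h 0 1 (by decide)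

/-- The diagonal signs fixing one axis. -/
def dia (i : Fin 3) : V3 := fun j => if j = i then 1 else 2

theorem dia_ne : ∀ i j : Fin 3, dia i j ≠ 0 := by decide

theorem tau_dia : ∀ v : V3, tauV (ax v) = ax (mon 1 (dia 0) v) := by decide +kernel

theorem tau_q0 : tauV q0 = q0 := by decide

theorem dia_conj : ∀ σ : Equiv.Perm (Fin 3), ∀ ε : V3, (∀ i, ε i ≠ 0) → ∀ i : Fin 3,
    ∀ j : Fin 3, ∀ θ : V3, (∀ k, θ k = dia i k) →
    mon σ ε (mon 1 θ (ev j)) = mon 1 (dia (σ i)) (mon σ ε (ev j)) := by decide +kernel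

theorem dia_tau : ∀ i : Fin 3, ∀ k : ZMod 3, ∀ u : V3,
    tauV (k.val • q0 + ax (mon 1 (dia i) u)) = k.val • q0 + ax (mon 1 (dia i) (mon 1 (dia 0) u)) := by
  decide +kernel

theorem q0_add : ∀ a b : ZMod 3, (a + b).val • q0 = a.val • q0 + b.val • q0 := by decide +kernel

theorem q0_neg : ∀ a : ZMod 3, (-a).val • q0 = -(a.val • q0) := by decide +kernel

theorem cyc_ne_zero : ∀ ρ : Equiv.Perm (Fin 3), (∀ j, j = 0 ∨ ρ j = 0 ∨ ρ (ρ j) = 0) → ρ 0 = 0 → ρ = 1 := by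
  decide +kernel

theorem dia_fixed : ∀ i : Fin 3, i ≠ 0 → ∀ u : V3, mon 1 (dia 0) u = u → mon 1 (dia i) u = u → u = 0 := by
  decide +kernel

namespace Data

variable {G : Type*} [Group G] [Finite G] {H : Hyp G} (D : Data H)

theorem J_le_C0 {j : G} (hj : j ∈ H.J) : j ∈ D.C0 := D.mem_C0.mpr (H.hJc j hj _ (D.F.mem _))

theorem cube_acts {n : G} {hn : n ∈ H.NJ} {σ : Equiv.Perm (Fin 3)} {ε : Fin 3 → ZMod 3} (hA : D.Acts hn σ ε)
    (h3 : n ^ 3 ∈ H.J) : ∀ i : Fin 3, mon σ ε (mon σ ε (mon σ ε (ev i))) = ev i := fun i => by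
  refine ax_inj ?_
  rw [← hA.2.2, ← hA.2.2, ← hA.2.2, ← D.F.act_mul hn hn, ← D.F.act_mul (mul_mem hn hn) hn,
    Geo.act_congr D.toGeo (show n * n * n = n ^ 3 by rw [pow_succ, pow_two]) _ (pow_mem hn 3),
    D.F.act_of_J _ h3]

theorem acts_one_mem {n : G} {hn : n ∈ H.NJ} {ε : Fin 3 → ZMod 3} (hA : D.Acts hn 1 ε)
    (h : ∀ v, mon 1 ε v = v) : n ∈ H.J :=
  D.F.act_id_mem hn fun v => by
    obtain ⟨k, u, rfl⟩ := q0_decomp v
    rw [map_add, map_nsmul, hA.1, hA.2.2, h]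

/-- An element of `C0` centralizing an orthogonal element modulo `q0` centralizes it. -/
theorem cent_coset {x : G} (hx : x ∈ D.C0) {h : V3} (hh : h ≠ 0) {k : ZMod 3}
    (e : x * D.F.φ (ax h) * x⁻¹ = D.F.φ (k.val • q0 + ax h)) :
    x ∈ H.NJ ∧ x * D.F.φ (ax h) = D.F.φ (ax h) * x := by
  obtain ⟨n, hn, hnr⟩ := H.fusion (x := x) (R := {D.F.φ q0, D.F.φ (ax h)})
    (by rintro _ (rfl | rfl) <;> exact D.F.mem _)
    (by
      rintro _ (rfl | rfl)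
      · rw [D.mem_C0.mp hx, mul_inv_cancel_right]; exact D.F.mem _
      · rw [e]; exact D.F.mem _)
  have hnC : n ∈ D.C0 := D.mem_C0.mpr (mul_inv_eq_iff_eq_mul.mp (by
    rw [hnr _ (Or.inl rfl), D.mem_C0.mp hx, mul_inv_cancel_right]))
  obtain ⟨σ, ε, hA⟩ := D.exists_acts hn hnC
  have h1 : D.F.act hn (ax h) = k.val • q0 + ax h := D.F.act_eq _ (by rw [hnr _ (Or.inr rfl), e])
  rw [hA.2.2] at h1
  have hk : k = 0 := (q0_unique k (h - mon σ ε h) (by rw [map_sub, h1]; abel)).1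
  subst hk
  simp only [ZMod.val_zero, zero_smul, zero_add] at e
  have hc := mul_inv_eq_iff_eq_mul.mp e
  exact ⟨D.cent_perp (ax_perp h) (fun e => hh (ax_inj (e.trans (map_zero ax).symm))) (D.mem_C0.mp hx) hc, hc⟩

/-- `J` is strongly closed in its normalizer, modulo `q0`. -/
theorem strong_closed {x : G} (hx : x ∈ D.C0) {h : V3}
    (hy : x * D.F.φ (ax h) * x⁻¹ ∈ H.NJ) : x * D.F.φ (ax h) * x⁻¹ ∈ H.J := by
  by_cases hh : h = 0
  · subst hh; rw [map_zero, D.F.map_zero', mul_one, mul_inv_cancel]; exact one_mem _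
  have hh0 : ax h ≠ 0 := fun e => hh (ax_inj (e.trans (map_zero ax).symm))
  rcases plane_split (ax h) (ax_perp h) hh0 with ⟨k, hq, h0, -, -⟩ | ⟨hell, -⟩
  · -- the plane contains a singular vector
    have hxq : x * D.F.φ (k.val • q0) * x⁻¹ = D.F.φ (k.val • q0) := by
      rw [D.F.map_nsmul', ← conj_pow, D.mem_C0.mp hx, mul_inv_cancel_right]
    set s := ax h + k.val • q0 with hs
    have hsN : x * D.F.φ s * x⁻¹ ∈ H.NJ := by
      rw [hs, D.F.map_add, show x * (D.F.φ (ax h) * D.F.φ (k.val • q0)) * x⁻¹ =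
        (x * D.F.φ (ax h) * x⁻¹) * (x * D.F.φ (k.val • q0) * x⁻¹) by group, hxq]
      exact mul_mem hy (H.M0_le (H.hJM (D.F.mem _)))
    suffices hsJ : x * D.F.φ s * x⁻¹ ∈ H.J by
      have := mul_mem hsJ (inv_mem (D.F.mem (k.val • q0)))
      rwa [hs, D.F.map_add, show x * (D.F.φ (ax h) * D.F.φ (k.val • q0)) * x⁻¹ =
        (x * D.F.φ (ax h) * x⁻¹) * (x * D.F.φ (k.val • q0) * x⁻¹) by group, hxq, mul_inv_cancel_right] at this
    obtain ⟨m, hm, e⟩ := (D.toGeo.sing_iff s h0).mp hq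
    have h3 : (x * D.F.φ s * x⁻¹) ^ 3 = 1 := by rw [conj_pow, H.hJexp _ (D.F.mem _)]; group
    have hyM : x * D.F.φ s * x⁻¹ ∈ H.M0 := by
      haveI : Fact (Nat.Prime 3) := ⟨Nat.prime_three⟩
      obtain ⟨i, -, hi⟩ := (Nat.dvd_prime_pow Nat.prime_three).mp
        (show orderOf (x * D.F.φ s * x⁻¹) ∣ 3 ^ 1 from orderOf_dvd_of_pow_eq_one (by rw [pow_one]; exact h3))
      exact H.three_mem_M0 hsN ⟨i, hi⟩
    haveI : Fact (Nat.Prime 3) := ⟨Nat.prime_three⟩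
    have hzp : IsPGroup 3 (Subgroup.zpowers (⟨_, hyM⟩ : H.M0)) := by
      rintro ⟨y, i, rfl⟩
      refine ⟨1, Subtype.ext ?_⟩
      show ((⟨_, hyM⟩ : H.M0) ^ i) ^ (3 ^ 1) = 1
      rw [pow_one, ← zpow_natCast, zpow_comm, zpow_natCast,
        show (⟨_, hyM⟩ : H.M0) ^ 3 = 1 from Subtype.ext h3, one_zpow]
    obtain ⟨P, hP⟩ := hzp.exists_le_sylow
    obtain ⟨⟨l, hl⟩, hlP⟩ := MulAction.exists_smul_eq H.M0 P (H.S.subtype H.S_le_M0)
    have hS : l * (x * D.F.φ s * x⁻¹) * l⁻¹ ∈ (H.S : Subgroup G) := by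
      have hmem : (⟨l, hl⟩ : H.M0) * ⟨_, hyM⟩ * (⟨l, hl⟩ : H.M0)⁻¹ ∈
          (((⟨l, hl⟩ : H.M0) • P : Sylow 3 H.M0) : Subgroup H.M0) := by
        rw [Sylow.coe_subgroup_smul]
        exact ⟨⟨_, hyM⟩, hP (Subgroup.mem_zpowers _), rfl⟩
      rw [hlP] at hmem
      exact hmem
    have hJ : l * (x * D.F.φ s * x⁻¹) * l⁻¹ ∈ H.J := by
      rcases e with e | e
      · rw [show l * (x * D.F.φ s * x⁻¹) * l⁻¹ = l * x * m * H.z * (l * x * m)⁻¹ by rw [← e]; group] at hS ⊢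
        exact D.conj_z_S hS
      · have e' : D.F.φ s = (m * H.z * m⁻¹)⁻¹ := by rw [e, inv_inv]
        rw [show l * (x * D.F.φ s * x⁻¹) * l⁻¹ = (l * x * m * H.z * (l * x * m)⁻¹)⁻¹ by rw [e']; group] at hS ⊢
        exact inv_mem (D.conj_z_S (inv_mem_iff.mp hS))
    exact (Subgroup.mem_normalizer_iff.mp (H.M0_le hl) _).mpr hJ
  · -- the elliptic case
    set y := x * D.F.φ (ax h) * x⁻¹ with hydef
    have hyC : y ∈ D.C0 := mul_mem (mul_mem hx (D.J_le_C0 (D.F.mem _))) (inv_mem hx)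
    have hy3 : y ^ 3 = 1 := by rw [hydef, conj_pow, H.hJexp _ (D.F.mem _)]; group
    obtain ⟨σ, ε, hA⟩ := D.exists_acts hy hyC
    have hc := D.cube_acts hA (by rw [hy3]; exact one_mem _)
    by_cases hσ : σ = 1
    · subst hσ
      exact D.acts_one_mem hA ((mon_cube _ _ hA.2.1 hc).1 rfl)
    obtain ⟨⟨u, hu, hfix⟩, -⟩ := cyc_fixed σ ε hA.2.1 hc hσ
    have hyu : y * D.F.φ (ax u) = D.F.φ (ax u) * y :=
      mul_inv_eq_iff_eq_mul.mp (by rw [← D.F.act_spec hy, hA.2.2, hfix])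
    set j := x⁻¹ * D.F.φ (ax u) * x with hjdef
    have hjC : j ∈ D.C0 := mul_mem (mul_mem (inv_mem hx) (D.J_le_C0 (D.F.mem _))) hx
    have hjh : j * D.F.φ (ax h) = D.F.φ (ax h) * j := by
      have e : D.F.φ (ax h) = x⁻¹ * y * x := by rw [hydef]; group
      rw [e, hjdef]
      calc x⁻¹ * D.F.φ (ax u) * x * (x⁻¹ * y * x) = x⁻¹ * (D.F.φ (ax u) * y) * x := by group
        _ = x⁻¹ * (y * D.F.φ (ax u)) * x := by rw [hyu]
        _ = _ := by group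
    have hjN : j ∈ H.NJ := D.cent_perp (ax_perp h) hh0 (D.mem_C0.mp hjC) hjh
    obtain ⟨τ, η, hB⟩ := D.exists_acts hjN hjC
    have hj3 : j ^ 3 = 1 := by
      rw [hjdef, show x⁻¹ * D.F.φ (ax u) * x = x⁻¹ * D.F.φ (ax u) * x⁻¹⁻¹ by group, conj_pow,
        H.hJexp _ (D.F.mem _)]
      group
    have hjc := D.cube_acts hB (by rw [hj3]; exact one_mem _)
    have hjJ : j ∈ H.J := by
      by_cases hτ : τ = 1
      · subst hτ
        exact D.acts_one_mem hB ((mon_cube _ _ hB.2.1 hjc).1 rfl)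
      exfalso
      refine elliptic_ne _ hell ((cyc_fixed τ η hB.2.1 hjc hτ).2 h (ax_inj ?_))
      rw [← hB.2.2]
      exact D.F.act_eq _ (mul_inv_eq_iff_eq_mul.mpr hjh)
    have hu0 : ax u ≠ 0 := fun e => hu (ax_inj (e.trans (map_zero ax).symm))
    -- the conjugate of `J` normalizes `J`
    have hxJ : H.J.map (MulAut.conj x).toMonoidHom ≤ H.NJ := by
      rintro _ ⟨a, ha, rfl⟩
      show x * a * x⁻¹ ∈ H.NJ
      refine D.cent_perp (ax_perp u) hu0 (D.mem_C0.mp (mul_mem (mul_mem hx (D.J_le_C0 ha)) (inv_mem hx))) ?_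
      have e : D.F.φ (ax u) = x * j * x⁻¹ := by rw [hjdef]; group
      rw [e]
      calc x * a * x⁻¹ * (x * j * x⁻¹) = x * (a * j) * x⁻¹ := by group
        _ = x * (j * a) * x⁻¹ := by rw [H.hJc a ha j hjJ]
        _ = _ := by group
    have hsup : IsPGroup 3 ↥(H.J ⊔ H.J.map (MulAut.conj x).toMonoidHom) :=
      IsPGroup.to_sup_of_normal_left' (H.S.isPGroup'.to_le H.hJS)
        ((H.S.isPGroup'.to_le H.hJS).map _) hxJ
    have hxN : x ∈ H.NJ := H.three_unique hsup le_sup_left fun a ha => Subgroup.mem_sup_right ⟨a, ha, rfl⟩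
    exact (Subgroup.mem_normalizer_iff.mp hxN _).mp (D.F.mem _)

/-- The group generated by `q0`. -/
def Qc : Subgroup D.C0 where
  carrier := {x | ∃ k : ZMod 3, D.F.φ (k.val • q0) = (x : G)}
  one_mem' := ⟨0, by rw [ZMod.val_zero, zero_smul]; exact D.F.map_zero'⟩
  mul_mem' := by
    rintro x y ⟨a, e⟩ ⟨b, e'⟩
    refine ⟨a + b, ?_⟩
    rw [Subgroup.coe_mul, ← e, ← e', ← D.F.map_add]
    rw [q0_add]
  inv_mem' := by
    rintro x ⟨a, e⟩
    refine ⟨-a, ?_⟩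
    rw [InvMemClass.coe_inv, ← e, ← D.F.map_neg']
    rw [q0_neg]

instance Qc_normal : D.Qc.Normal := ⟨fun y hy x => by
  obtain ⟨a, e⟩ := hy
  refine ⟨a, ?_⟩
  simp only [Subgroup.coe_mul, InvMemClass.coe_inv, ← e]
  rw [D.F.map_nsmul', ← conj_pow, D.mem_C0.mp x.2, mul_inv_cancel_right]⟩

/-- The quotient. -/
abbrev QX := D.C0 ⧸ D.Qc

/-- The projection. -/
abbrev proj : D.C0 →* D.QX := QuotientGroup.mk' D.Qc

/-- The image of the normalizer of `J`. -/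
def Hb : Subgroup D.QX := (H.NJ.subgroupOf D.C0).map D.proj

/-- The image of `J`. -/
def Jb : Subgroup D.QX := (H.J.subgroupOf D.C0).map D.proj

/-- Coordinates on the image of `J`. -/
def jb (v : V3) : D.QX := D.proj ⟨D.F.φ (ax v), D.J_le_C0 (D.F.mem _)⟩

theorem jb_add (v w : V3) : D.jb (v + w) = D.jb v * D.jb w := by
  rw [jb, jb, jb, ← map_mul]
  congr 1
  exact Subtype.ext (by show D.F.φ _ = D.F.φ _ * D.F.φ _; rw [map_add, D.F.map_add])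

theorem jb_zero : D.jb 0 = 1 := by
  have h := D.jb_add 0 0
  rw [add_zero] at h
  exact mul_eq_left.mp h.symm

theorem jb_neg (v : V3) : D.jb (-v) = (D.jb v)⁻¹ :=
  eq_inv_of_mul_eq_one_left (by rw [← D.jb_add, neg_add_cancel, D.jb_zero])

theorem mem_Hb {x : D.C0} : D.proj x ∈ D.Hb ↔ (x : G) ∈ H.NJ := by
  refine ⟨fun h => ?_, fun h => ⟨x, h, rfl⟩⟩
  obtain ⟨y, hy, e⟩ := h
  obtain ⟨k, hk⟩ := QuotientGroup.eq.mp e
  have := mul_mem (show (y : G) ∈ H.NJ from hy) (H.M0_le (H.hJM (D.F.mem (k.val • q0))))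
  rwa [hk, Subgroup.coe_mul, InvMemClass.coe_inv, mul_inv_cancel_left] at this

theorem mem_Jb {x : D.C0} : D.proj x ∈ D.Jb ↔ (x : G) ∈ H.J := by
  refine ⟨fun h => ?_, fun h => ⟨x, h, rfl⟩⟩
  obtain ⟨y, hy, e⟩ := h
  obtain ⟨k, hk⟩ := QuotientGroup.eq.mp e
  have := mul_mem (show (y : G) ∈ H.J from hy) (D.F.mem (k.val • q0))
  rwa [hk, Subgroup.coe_mul, InvMemClass.coe_inv, mul_inv_cancel_left] at this

theorem jb_mem (v : V3) : D.jb v ∈ D.Jb := D.mem_Jb.mpr (D.F.mem _)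

theorem Jb_eq {y : D.QX} (hy : y ∈ D.Jb) : ∃ v, y = D.jb v := by
  obtain ⟨x, hx, rfl⟩ := hy
  obtain ⟨u, hu⟩ := D.F.surj _ (show (x : G) ∈ H.J from hx)
  obtain ⟨k, v, rfl⟩ := q0_decomp u
  refine ⟨v, QuotientGroup.eq.mpr ⟨-k, ?_⟩⟩
  rw [Subgroup.coe_mul, InvMemClass.coe_inv, ← hu, D.F.map_add, mul_inv_rev, mul_assoc,
    show ((D.F.φ (k.val • q0))⁻¹ * D.F.φ (ax v) : G) = D.F.φ (ax v) * (D.F.φ (k.val • q0))⁻¹ from
      H.hJc _ (inv_mem (D.F.mem _)) _ (D.F.mem _), inv_mul_cancel_left, ← D.F.map_neg']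
  congr 1
  clear hu
  revert k
  decide +kernel

theorem jb_inj : Function.Injective D.jb := by
  intro v w e
  obtain ⟨k, hk⟩ := QuotientGroup.eq.mp e
  have h : D.F.φ (k.val • q0) = D.F.φ (-ax v + ax w) := by
    rw [hk, D.F.map_add, D.F.map_neg']; rfl
  have h0 := (q0_unique k (v - w) (by rw [D.F.inj h, map_sub]; abel)).2
  exact sub_eq_zero.mp h0

/-- `x` acts on the image of `J` as `(σ, ε)`. -/
def ActsX (x : D.QX) (σ : Equiv.Perm (Fin 3)) (ε : Fin 3 → ZMod 3) : Prop :=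
  detOne σ ε ∧ ∀ v, x * D.jb v * x⁻¹ = D.jb (mon σ ε v)

theorem exists_actsX {x : D.QX} (hx : x ∈ D.Hb) : ∃ σ ε, D.ActsX x σ ε := by
  obtain ⟨y, hy, rfl⟩ := hx
  obtain ⟨σ, ε, hA⟩ := D.exists_acts (show (y : G) ∈ H.NJ from hy) y.2
  refine ⟨σ, ε, D.acts_det y.2 hA, fun v => ?_⟩
  rw [jb, jb, ← map_inv, ← map_mul, ← map_mul]
  congr 1
  refine Subtype.ext ?_
  simp only [Subgroup.coe_mul, InvMemClass.coe_inv]
  rw [← D.F.act_spec (show (y : G) ∈ H.NJ from hy), hA.2.2]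

theorem actsX_mul {x y : D.QX} {σ τ : Equiv.Perm (Fin 3)} {ε η : Fin 3 → ZMod 3} (hx : D.ActsX x σ ε)
    (hy : D.ActsX y τ η) (hxy : x * y ∈ D.Hb) : D.ActsX (x * y) (σ * τ) (fun i => ε (τ i) * η i) := by
  obtain ⟨ρ, θ, h⟩ := D.exists_actsX hxy
  have e : ∀ v, D.jb (mon ρ θ v) = D.jb (mon (σ * τ) (fun i => ε (τ i) * η i) v) := fun v => by
    rw [← h.2, ← mon_comp, ← hx.2, ← hy.2]; group
  obtain ⟨rfl, hθ⟩ := mon_inj ρ (σ * τ) θ (fun i => ε (τ i) * η i) h.1.1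
    (fun i => mul_ne_zero (hx.1.1 _) (hy.1.1 _)) fun i => D.jb_inj (e _)
  rwa [show (fun i => ε (τ i) * η i) = θ from funext fun i => (hθ i).symm]

theorem actsX_unique {x : D.QX} {σ τ : Equiv.Perm (Fin 3)} {ε η : Fin 3 → ZMod 3} (hx : D.ActsX x σ ε)
    (hy : D.ActsX x τ η) : σ = τ ∧ ε = η := by
  obtain ⟨h1, h2⟩ := mon_inj σ τ ε η hx.1.1 hy.1.1 fun i => D.jb_inj (by rw [← hx.2, ← hy.2])
  exact ⟨h1, funext h2⟩

theorem cent_jb {v : V3} (hv : v ≠ 0) {x : D.QX} (hx : x * D.jb v = D.jb v * x) : x ∈ D.Hb := by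
  induction x using QuotientGroup.induction_on with | _ y => ?_
  refine D.mem_Hb.mpr ?_
  rw [jb, show ((QuotientGroup.mk y : D.QX)) = D.proj y from rfl, ← map_mul, ← map_mul] at hx
  obtain ⟨k, hk⟩ := QuotientGroup.eq.mp hx.symm
  refine (D.cent_coset y.2 hv (k := k) ?_).1
  have hc := D.mem_C0.mp y.2
  have hyk : (y : G) * D.F.φ (k.val • q0) * (y : G)⁻¹ = D.F.φ (k.val • q0) := by
    rw [D.F.map_nsmul', ← conj_pow, hc, mul_inv_cancel_right]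
  simp only [Subgroup.coe_mul, InvMemClass.coe_inv] at hk
  rw [D.F.map_add, H.hJc _ (D.F.mem _) _ (D.F.mem _)]
  calc (y : G) * D.F.φ (ax v) * (y : G)⁻¹
      = D.F.φ (ax v) * (y : G) * ((D.F.φ (ax v) * (y : G))⁻¹ * ((y : G) * D.F.φ (ax v))) * (y : G)⁻¹ := by group
    _ = D.F.φ (ax v) * ((y : G) * D.F.φ (k.val • q0) * (y : G)⁻¹) := by rw [← hk]; group
    _ = _ := by rw [hyk]

theorem jb_closed {v : V3} {x : D.QX} (hx : x * D.jb v * x⁻¹ ∈ D.Hb) : x * D.jb v * x⁻¹ ∈ D.Jb := by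
  induction x using QuotientGroup.induction_on with | _ y => ?_
  rw [jb, show ((QuotientGroup.mk y : D.QX)) = D.proj y from rfl, ← map_inv, ← map_mul, ← map_mul] at hx ⊢
  exact D.mem_Jb.mpr (D.strong_closed y.2 (D.mem_Hb.mp hx))

theorem norm_Jb : Subgroup.normalizer (D.Jb : Set D.QX) = D.Hb := by
  refine le_antisymm (fun x hx => ?_) (fun x hx => ?_)
  · induction x using QuotientGroup.induction_on with | _ y => ?_
    refine D.mem_Hb.mpr (H.weakly_closed fun j hj => H.hJS ?_)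
    have h := (Subgroup.mem_normalizer_iff.mp hx _).mp ((D.mem_Jb (x := ⟨j, D.J_le_C0 hj⟩)).mpr hj)
    exact (D.mem_Jb (x := y * ⟨j, D.J_le_C0 hj⟩ * y⁻¹)).mp h
  · rw [Subgroup.mem_normalizer_iff_map_conj_eq]
    refine Subgroup.eq_of_le_of_card_ge ?_ (le_of_eq
      (Subgroup.card_map_of_injective (f := (MulAut.conj x).toMonoidHom) (MulAut.conj x).injective).symm)
    rintro _ ⟨a, ha, rfl⟩
    obtain ⟨v, rfl⟩ := D.Jb_eq ha
    obtain ⟨σ, ε, -, hA⟩ := D.exists_actsX hx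
    show x * D.jb v * x⁻¹ ∈ D.Jb
    rw [hA]; exact D.jb_mem _

theorem mem_of_acts_id {x : D.QX} (hx : x ∈ D.Hb) {ε : Fin 3 → ZMod 3} (hA : D.ActsX x 1 ε)
    (h : ∀ i, ε i = 1) : x ∈ D.Jb := by
  obtain ⟨y, hy, rfl⟩ := hx
  obtain ⟨σ, η, hB⟩ := D.exists_acts (show (y : G) ∈ H.NJ from hy) y.2
  have hB' : D.ActsX (D.proj y) σ η := by
    refine ⟨D.acts_det y.2 hB, fun v => ?_⟩
    rw [jb, jb, ← map_inv, ← map_mul, ← map_mul]
    congr 1
    refine Subtype.ext ?_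
    simp only [Subgroup.coe_mul, InvMemClass.coe_inv]
    rw [← D.F.act_spec (show (y : G) ∈ H.NJ from hy), hB.2.2]
  obtain ⟨rfl, rfl⟩ := D.actsX_unique hB' hA
  refine D.mem_Jb.mpr (D.acts_one_mem hB fun v => funext fun j => ?_)
  simp [mon, h]
  rfl

/-- Two commuting involutions, each fixing one axis. -/
theorem exists_invols : ∃ T0 T1 : D.QX, T0 ∈ D.Hb ∧ T1 ∈ D.Hb ∧ T0 * T0 = 1 ∧ T1 * T1 = 1 ∧ T0 * T1 = T1 * T0 ∧
    ∃ c : Fin 3, c ≠ 0 ∧ D.ActsX T0 1 (dia 0) ∧ D.ActsX T1 1 (dia c) := by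
  obtain ⟨r, hr, hrC, -, ρ, η, hR, -, hρ, hcyc⟩ := D.exists_cyclic
  have htC : H.t ∈ D.C0 := by
    refine D.mem_C0.mpr ?_
    have := D.F.t_act q0
    rw [tau_q0] at this
    calc H.t * D.F.φ q0 = H.t * D.F.φ q0 * H.t * H.t := by rw [mul_assoc _ H.t H.t, H.t_sq, mul_one]
      _ = _ := by rw [this]
  have htA : D.Acts H.t_NJ 1 (dia 0) :=
    ⟨by rw [D.toGeo.act_t, tau_q0], dia_ne 0, fun v => by rw [D.toGeo.act_t, tau_dia]⟩
  set n := r * H.t * r⁻¹ with hndef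
  have hn : n ∈ H.NJ := mul_mem (mul_mem hr H.t_NJ) (inv_mem hr)
  have hnC : n ∈ D.C0 := mul_mem (mul_mem hrC htC) (inv_mem hrC)
  have hc0 : ρ 0 ≠ 0 := fun e => hρ (cyc_ne_zero ρ hcyc e)
  have hnA : D.Acts hn 1 (dia (ρ 0)) := by
    refine ⟨D.act_q0 hn hnC, dia_ne _, fun v => ?_⟩
    obtain ⟨σ, ε, hA⟩ := D.exists_acts hn hnC
    obtain ⟨rfl, he⟩ := mon_inj σ 1 ε (dia (ρ 0)) hA.2.1 (dia_ne _) fun i => by
      refine ax_inj ?_
      rw [← hA.2.2]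
      obtain ⟨w, hw⟩ : ∃ w, mon ρ η w = ev i := by
        have : ∀ ρ : Equiv.Perm (Fin 3), ∀ η : V3, (∀ i, η i ≠ 0) → ∀ i : Fin 3, ∃ w, mon ρ η w = ev i := by
          decide +kernel
        exact this ρ η hR.2.1 i
      rw [← hw, ← hR.2.2, ← D.F.act_mul hn hr,
        Geo.act_congr D.toGeo (show n * r = r * H.t by rw [hndef, inv_mul_cancel_right]) _ (mul_mem hr H.t_NJ),
        D.F.act_mul hr H.t_NJ, htA.2.2, hR.2.2]
      congr 1
      obtain ⟨-, hd⟩ : True ∧ ∀ j, mon ρ η (mon 1 (dia 0) (ev j)) = mon 1 (dia (ρ 0)) (mon ρ η (ev j)) :=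
        ⟨trivial, fun j => dia_conj ρ η hR.2.1 0 j (dia 0) fun _ => rfl⟩
      conv_lhs => rw [ev_decomp w]
      conv_rhs => rw [ev_decomp w]
      have hlin : ∀ σ : Equiv.Perm (Fin 3), ∀ θ : V3, ∀ a b c : ℕ, ∀ x y z : V3,
          mon σ θ (a • x + b • y + c • z) = a • mon σ θ x + b • mon σ θ y + c • mon σ θ z := by
        intro σ θ a b c x y z; funext k; simp [mon, mul_add, mul_left_comm]
      rw [hlin, hlin, hlin, hlin, hd, hd, hd]
    rw [hA.2.2, show ε = dia (ρ 0) from funext he]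
  obtain ⟨j, hj, hjt⟩ := D.toGeo.exists_lift hn fun v => by
    obtain ⟨k, u, rfl⟩ := q0_decomp v
    have e1 : tauV (k.val • q0 + ax u) = k.val • q0 + ax (mon 1 (dia 0) u) := by
      rw [← D.toGeo.act_t, map_add, map_nsmul, htA.1, htA.2.2]
    rw [e1, map_add, map_nsmul, hnA.1, hnA.2.2, map_add, map_nsmul, hnA.1, hnA.2.2,
      dia_tau (ρ 0) k u]
  set T : G := n * j with hT
  have hTN : T ∈ H.NJ := mul_mem hn (H.M0_le (H.hJM hj))
  have hTC : T ∈ D.C0 := mul_mem hnC (D.J_le_C0 hj)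
  have hTA : ∀ v, D.F.act hTN v = D.F.act hn v := fun v => by
    rw [D.F.act_mul hn (H.M0_le (H.hJM hj)), D.F.act_of_J _ hj]
  have mkA : ∀ (x : D.C0) (hx : (x : G) ∈ H.NJ) (θ : V3), detOne 1 θ →
      (∀ v, D.F.act hx (ax v) = ax (mon 1 θ v)) → D.ActsX (D.proj x) 1 θ := fun x hx θ hd h => ⟨hd, fun v => by
    rw [jb, jb, ← map_inv, ← map_mul, ← map_mul]
    congr 1
    refine Subtype.ext ?_
    simp only [Subgroup.coe_mul, InvMemClass.coe_inv]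
    rw [← D.F.act_spec hx, h]⟩
  have hdet : ∀ i : Fin 3, detOne 1 (dia i) := by decide +kernel
  refine ⟨D.proj ⟨H.t, htC⟩, D.proj ⟨T, hTC⟩, D.mem_Hb.mpr H.t_NJ, D.mem_Hb.mpr hTN, ?_, ?_, ?_, ρ 0, hc0,
    mkA _ H.t_NJ _ (hdet 0) htA.2.2, mkA _ hTN _ (hdet _) fun v => by rw [hTA, hnA.2.2]⟩
  · rw [← map_mul, show (⟨H.t, htC⟩ : D.C0) * ⟨H.t, htC⟩ = 1 from Subtype.ext H.t_sq, map_one]
  · rw [← map_mul]
    have hTT : T * T ∈ H.J := D.F.act_id_mem (mul_mem hTN hTN) fun v => by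
      obtain ⟨k, u, rfl⟩ := q0_decomp v
      rw [D.F.act_mul hTN hTN, hTA, hTA, map_add, map_nsmul, hnA.1, hnA.2.2, map_add, map_nsmul, hnA.1, hnA.2.2]
      congr 2
      have hinv : ∀ i : Fin 3, ∀ u : V3, mon 1 (dia i) (mon 1 (dia i) u) = u := by decide +kernel
      exact hinv _ _
    obtain ⟨u0, hu0⟩ := D.F.surj _ hTT
    obtain ⟨k, u, rfl⟩ := q0_decomp u0
    have f1 : D.F.act H.t_NJ (k.val • q0 + ax u) = k.val • q0 + ax u := D.F.act_eq _ (by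
      rw [hu0, H.t_inv]
      calc H.t * (T * T) * H.t = (H.t * T * H.t) * (H.t * T * H.t) := by
            rw [show H.t * (T * T) * H.t = H.t * T * 1 * T * H.t by group, ← H.t_sq]; group
        _ = _ := by rw [hjt])
    have f2 : D.F.act hTN (k.val • q0 + ax u) = k.val • q0 + ax u :=
      D.F.act_eq _ (by rw [hu0]; group)
    rw [map_add, map_nsmul, htA.1, htA.2.2, add_right_inj] at f1
    rw [hTA, map_add, map_nsmul, hnA.1, hnA.2.2, add_right_inj] at f2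
    have hu : u = 0 := dia_fixed _ hc0 u (ax_inj f1) (ax_inj f2)
    subst hu
    refine (QuotientGroup.eq_one_iff _).mpr ⟨k, ?_⟩
    rw [Subgroup.coe_mul, ← hu0, map_zero, add_zero]
  · rw [← map_mul, ← map_mul]
    congr 1
    refine Subtype.ext ?_
    show H.t * T = T * H.t
    calc H.t * T = (H.t * T * H.t) * H.t := by rw [mul_assoc _ H.t H.t, H.t_sq, mul_one]
      _ = _ := by rw [hjt]

end Data

end CfsgLib.McLThree
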