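import Cfsg.Agent.Lib.McLThree.Finite

/-!
# Groups with a normal self-centralizing `SL₂(5)`: the three-elements lie in it
-/

set_option autoImplicit false
set_option linter.unusedSectionVars false
set_option maxRecDepth 20000

namespace CfsgLib.McLThree

/-- An element of order three of `SL₂(5)`. -/
def slThree : SL25 := ⟨!![0, 4; 1, 4], by decide⟩

/-- Which short words in `u` and `slThree` are trivial. -/
def slProfile (u : SL25) : List Bool :=
  [(u * slThree) ^ 3, (u * slThree) ^ 4, (u * slThree) ^ 5, (u * slThree) ^ 6, (u * u * slThree) ^ 3,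
    (u * u * slThree) ^ 4, (u * u * slThree) ^ 5, (u * u * slThree) ^ 6, (u * slThree * (u * u) * slThree) ^ 3,
    (u * slThree * (u * u) * slThree) ^ 5].map fun x => decide (x = 1)

/-- One step of the closure. -/
def slGrow (l : List SL25) : List SL25 := (l ++ l.map (· * slThree) ++ l.map (· * slFive)).eraseDups

theorem slThree_spec : slThree ^ 3 = 1 ∧ slThree ≠ 1 ∧ slThree * slFive ≠ slFive * slThree ∧
    slThree⁻¹ * slFive ≠ slFive * slThree⁻¹ ∧ slThree⁻¹ ≠ slThree := by decide +kernel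

theorem slCand : (Finset.univ.filter fun u : SL25 =>
    u ^ 5 = 1 ∧ u ≠ 1 ∧ slProfile u = slProfile slFive).card ≤ 8 := by decide +kernel

theorem slCover : ∀ x : SL25, x ∈ Nat.iterate slGrow 13 [1] := by decide +kernel

theorem slFive_prod : ∃ a b c : SL25, a ^ 3 = 1 ∧ b ^ 3 = 1 ∧ c ^ 3 = 1 ∧ a * b * c = slFive := by decide +kernel

theorem sl_gen {T : Subgroup SL25} (h1 : slThree ∈ T) (h2 : slFive ∈ T) : T = ⊤ := by
  have key : ∀ n, ∀ x ∈ Nat.iterate slGrow n [1], x ∈ T := by
    intro n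
    induction n with
    | zero => intro x hx; rw [Function.iterate_zero, id, List.mem_singleton] at hx; rw [hx]; exact one_mem _
    | succ n ih =>
      intro x hx
      rw [Function.iterate_succ_apply', slGrow, List.mem_eraseDups, List.mem_append, List.mem_append] at hx
      rcases hx with (hx | hx) | hx
      · exact ih x hx
      · obtain ⟨y, hy, rfl⟩ := List.mem_map.mp hx; exact mul_mem (ih y hy) h1
      · obtain ⟨y, hy, rfl⟩ := List.mem_map.mp hx; exact mul_mem (ih y hy) h2
  exact eq_top_iff.mpr fun x _ => key 13 x (slCover x)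

theorem sl_three_gen : Subgroup.closure {x : SL25 | ∃ k : ℕ, orderOf x = 3 ^ k} = ⊤ := by
  have h : ∀ x : SL25, x ^ 3 = 1 → x ∈ Subgroup.closure {x : SL25 | ∃ k : ℕ, orderOf x = 3 ^ k} := fun x hx =>
    Subgroup.subset_closure (by
      obtain ⟨i, -, hi⟩ := (Nat.dvd_prime_pow Nat.prime_three).mp
        (show orderOf x ∣ 3 ^ 1 from orderOf_dvd_of_pow_eq_one (by rw [pow_one]; exact hx))
      exact ⟨i, hi⟩)
  obtain ⟨a, b, c, ha, hb, hc, habc⟩ := slFive_prod
  exact sl_gen (h _ slThree_spec.1) (habc ▸ mul_mem (mul_mem (h a ha) (h b hb)) (h c hc))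

theorem slProfile_map (φ : SL25 ≃* SL25) (h : φ slThree = slThree) (u : SL25) :
    slProfile (φ u) = slProfile u := by
  conv_lhs => rw [slProfile, ← h]
  simp only [slProfile, ← map_mul, ← map_pow, List.map_cons, List.map_nil, EmbeddingLike.map_eq_one_iff]

/-- Elements of three-power order lie in a normal self-centralizing `SL₂(5)`. -/
theorem three_mem_sl {X : Type*} [Group X] [Finite X] (E : Subgroup X) [hE : E.Normal] (e : E ≃* SL25)
    (hc : Subgroup.centralizer (E : Set X) ≤ E) {x : X} {k : ℕ} (hx : x ^ (3 ^ k) = 1) : x ∈ E := by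
  classical
  haveI : Fact (Nat.Prime 3) := ⟨Nat.prime_three⟩
  set t : X := ((e.symm slThree : E) : X) with ht
  have htE : t ∈ E := (e.symm slThree).2
  have ht3 : t ^ 3 = 1 := by
    rw [ht, ← SubmonoidClass.coe_pow, ← map_pow, slThree_spec.1, map_one]; rfl
  have ht1 : t ≠ 1 := fun h => slThree_spec.2.1 (by
    have : e.symm slThree = 1 := Subtype.ext h
    simpa using congrArg e this)
  have hto : orderOf t = 3 := orderOf_eq_prime ht3 ht1
  have hzp : IsPGroup 3 (Subgroup.zpowers t) := IsPGroup.of_card (n := 1) (by rw [Nat.card_zpowers, hto, pow_one])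
  obtain ⟨P, hP⟩ := hzp.exists_le_sylow
  have htP : t ∈ (P : Subgroup X) := hP (Subgroup.mem_zpowers t)
  have hPE : (P : Subgroup X) ⊓ E = Subgroup.zpowers t := by
    refine (Subgroup.eq_of_le_of_card_ge (le_inf hP (Subgroup.zpowers_le.mpr htE)) ?_).symm
    obtain ⟨n, hn⟩ := IsPGroup.iff_card.mp (P.2.to_le (inf_le_left (b := E)))
    have hd := Subgroup.card_dvd_of_le (inf_le_right : (P : Subgroup X) ⊓ E ≤ E)
    rw [hn, Nat.card_congr e.toEquiv, Nat.card_eq_fintype_card, card_sl] at hd
    rw [Nat.card_zpowers, hto, hn]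
    rcases (show n ≤ 1 ∨ 2 ≤ n by omega) with h | h
    · exact (Nat.pow_le_pow_right (by norm_num) h).trans (by norm_num)
    · exfalso
      have h9 : 3 ^ 2 ∣ 120 := dvd_trans (pow_dvd_pow 3 h) hd
      norm_num at h9
  have hcomm : ∀ y ∈ (P : Subgroup X), y * t * y⁻¹ = t := by
    intro y hy
    have hmem : y * t * y⁻¹ ∈ Subgroup.zpowers t :=
      by rw [← hPE]; exact Subgroup.mem_inf.mpr ⟨mul_mem (mul_mem hy htP) (inv_mem hy), hE.conj_mem t htE y⟩
    have cases3 : y * t * y⁻¹ = 1 ∨ y * t * y⁻¹ = t ∨ y * t * y⁻¹ = t⁻¹ := by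
      obtain ⟨i, hi⟩ := hmem
      simp only at hi
      rw [← hi, show i = 3 * (i / 3) + i % 3 by omega, zpow_add, zpow_mul,
        show t ^ (3 : ℤ) = 1 by exact_mod_cast ht3, one_zpow, one_mul]
      rcases (show i % 3 = 0 ∨ i % 3 = 1 ∨ i % 3 = 2 by omega) with h | h | h <;> rw [h]
      · exact Or.inl (zpow_zero t)
      · exact Or.inr (Or.inl (zpow_one t))
      · refine Or.inr (Or.inr (eq_inv_of_mul_eq_one_left ?_))
        rw [show (2 : ℤ) = ((2 : ℕ) : ℤ) from rfl, zpow_natCast, ← pow_succ, ht3]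
    rcases cases3 with h | h | h
    · exact absurd (conj_eq_one_iff.mp h) ht1
    · exact h
    · exfalso
      obtain ⟨n, hn⟩ := P.2 ⟨y, hy⟩
      have hyn : y ^ (3 ^ n) = 1 := congrArg Subtype.val hn
      obtain ⟨m, hm⟩ : Odd (3 ^ n) := Odd.pow (by decide)
      have h2 : Commute (y * y) t := mul_inv_eq_iff_eq_mul.mp (by
        calc y * y * t * (y * y)⁻¹ = y * (y * t * y⁻¹) * y⁻¹ := by group
          _ = y * t⁻¹ * y⁻¹ := by rw [h]
          _ = (y * t * y⁻¹)⁻¹ := by group
          _ = t := by rw [h, inv_inv])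
      have h1 : Commute y t := by
        have := h2.pow_left (m + 1)
        rwa [← pow_two, ← pow_mul, show 2 * (m + 1) = 3 ^ n + 1 by omega, pow_succ, hyn, one_mul] at this
      have e3 : t = t⁻¹ := by rwa [h1.eq, mul_inv_cancel_right] at h
      exact slThree_spec.2.2.2.2 (by
        have : (e.symm slThree)⁻¹ = e.symm slThree := Subtype.ext e3.symm
        simpa using congrArg e this)
  let φ : X → (SL25 ≃* SL25) := fun y => (e.symm.trans (MulAut.conjNormal y)).trans e
  have hφ : ∀ y ∈ (P : Subgroup X), φ y slThree = slThree := fun y hy => by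
    show e (MulAut.conjNormal y (e.symm slThree)) = slThree
    rw [show MulAut.conjNormal y (e.symm slThree) = e.symm slThree from
      Subtype.ext (by rw [MulAut.conjNormal_apply]; exact hcomm y hy), e.apply_symm_apply]
  let f : ↥(P : Subgroup X) → {u : SL25 // u ^ 5 = 1 ∧ u ≠ 1 ∧ slProfile u = slProfile slFive} := fun y =>
    ⟨φ y slFive, by rw [← map_pow, slFive_spec.1, map_one],
      fun h => slFive_spec.2 ((EmbeddingLike.map_eq_one_iff).mp h), slProfile_map _ (hφ y y.2) _⟩
  have hf : Function.Injective f := by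
    intro y y' h
    have h' : φ y slFive = φ y' slFive := congrArg Subtype.val h
    set z : X := (y' : X)⁻¹ * y with hz
    have hzP : z ∈ (P : Subgroup X) := mul_mem (inv_mem y'.2) y.2
    have hcomp : ∀ w, φ z w = (φ (y' : X)⁻¹) (φ y w) := fun w => by simp [φ, hz]
    have hinv : ∀ w, (φ (y' : X)⁻¹) (φ y' w) = w := fun w => by simp [φ]
    have hzu : φ z slFive = slFive := by rw [hcomp, h', hinv]
    let T : Subgroup SL25 :=
      { carrier := {w | φ z w = w}
        one_mem' := map_one _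
        mul_mem' := fun {a b} (ha : φ z a = a) (hb : φ z b = b) => by
          show φ z (a * b) = a * b; rw [map_mul, ha, hb]
        inv_mem' := fun {a} (ha : φ z a = a) => by show φ z a⁻¹ = a⁻¹; rw [map_inv, ha] }
    have hT : T = ⊤ := sl_gen (T := T) (hφ z hzP) hzu
    have hzc : z ∈ Subgroup.centralizer (E : Set X) := Subgroup.mem_centralizer_iff.mpr fun w hw => by
      have h2 : φ z (e ⟨w, hw⟩) = e ⟨w, hw⟩ := (hT ▸ Subgroup.mem_top (e ⟨w, hw⟩) : e ⟨w, hw⟩ ∈ T)
      have h3 : e (MulAut.conjNormal z (e.symm (e ⟨w, hw⟩))) = e ⟨w, hw⟩ := h2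
      rw [e.symm_apply_apply] at h3
      have := congrArg Subtype.val (e.injective h3)
      rw [MulAut.conjNormal_apply] at this
      exact (mul_inv_eq_iff_eq_mul.mp this).symm
    have hzt : z ∈ Subgroup.zpowers t := by rw [← hPE]; exact Subgroup.mem_inf.mpr ⟨hzP, hc hzc⟩
    set u : E := e.symm slFive
    have hzu' : z * (u : X) = u * z := (Subgroup.mem_centralizer_iff.mp hzc u u.2).symm
    have hz1 : z = 1 := by
      obtain ⟨i, hi⟩ := hzt
      simp only at hi
      rw [show i = 3 * (i / 3) + i % 3 by omega, zpow_add, zpow_mul,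
        show t ^ (3 : ℤ) = 1 by exact_mod_cast ht3, one_zpow, one_mul] at hi
      rcases (show i % 3 = 0 ∨ i % 3 = 1 ∨ i % 3 = 2 by omega) with h0 | h0 | h0 <;> rw [h0] at hi
      · rw [← hi, zpow_zero]
      · exfalso
        rw [zpow_one] at hi
        refine slThree_spec.2.2.1 ?_
        rw [← hi] at hzu'
        have hE' : (e.symm slThree) * u = u * e.symm slThree := Subtype.ext hzu'
        simpa [u] using congrArg e hE'
      · exfalso
        have hi' : z = t⁻¹ := by
          rw [← hi]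
          refine eq_inv_of_mul_eq_one_left ?_
          rw [show (2 : ℤ) = ((2 : ℕ) : ℤ) from rfl, zpow_natCast, ← pow_succ, ht3]
        refine slThree_spec.2.2.2.1 ?_
        rw [hi'] at hzu'
        have hE' : (e.symm slThree)⁻¹ * u = u * (e.symm slThree)⁻¹ := Subtype.ext hzu'
        simpa [u] using congrArg e hE'
    exact Subtype.ext (inv_mul_eq_one.mp hz1).symm
  have hle : Nat.card (P : Subgroup X) ≤ 8 := by
    refine (Nat.card_le_card_of_injective f hf).trans ?_
    rw [Nat.card_eq_fintype_card, Fintype.card_subtype]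
    exact slCand
  have hP3 : (P : Subgroup X) = Subgroup.zpowers t := by
    refine (Subgroup.eq_of_le_of_card_ge hP ?_).symm
    obtain ⟨n, hn⟩ := IsPGroup.iff_card.mp P.2
    rw [Nat.card_zpowers, hto, hn]
    rcases (show n ≤ 1 ∨ 2 ≤ n by omega) with h | h
    · exact (Nat.pow_le_pow_right (by norm_num) h).trans (by norm_num)
    · exfalso
      have := Nat.pow_le_pow_right (show 1 ≤ 3 by norm_num) h
      rw [hn] at hle
      omega
  have hxp : IsPGroup 3 (Subgroup.zpowers x) := by
    rintro ⟨_, m, rfl⟩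
    refine ⟨k, Subtype.ext ?_⟩
    show (x ^ m) ^ (3 ^ k : ℕ) = 1
    rw [← zpow_natCast, ← zpow_mul, mul_comm, zpow_mul, zpow_natCast, hx, one_zpow]
  obtain ⟨P', hP'⟩ := hxp.exists_le_sylow
  obtain ⟨g, hg⟩ := MulAction.exists_smul_eq X P' P
  have hgx : g * x * g⁻¹ ∈ Subgroup.zpowers t := by
    rw [← hP3, ← hg]; exact ⟨x, hP' (Subgroup.mem_zpowers x), rfl⟩
  have h := hE.conj_mem _ (Subgroup.zpowers_le.mpr htE hgx) g⁻¹
  rwa [show g⁻¹ * (g * x * g⁻¹) * g⁻¹⁻¹ = x by group] at h

end CfsgLib.McLThree
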