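import Cfsg.Agent.Lib.McLThree.Bar
import Cfsg.Agent.Lib.McLThree.Diag
import Cfsg.Agent.Lib.AltEightThree.Final

/-!
# The centralizer of the involution modulo the involution has the local data of `A₈`
-/

set_option autoImplicit false
set_option linter.unusedSectionVars false

open Equiv

namespace CfsgLib.McLThree

theorem fin3_exp : ∀ i : Fin 3, ((i : ℕ) + (i : ℕ)) % 3 = 0 → i = 0 := by decide

theorem odd_comm_cA : Perm.sign (swap (3 : Fin 5) 4) = -1 ∧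
    swap (3 : Fin 5) 4 * CfsgLib.AltEightThree.cA = CfsgLib.AltEightThree.cA * swap (3 : Fin 5) 4 := by
  decide +kernel

namespace Data

variable {G : Type*} [Group G] [Finite G] {H : Hyp G} (D : Data H)

/-- The images of `z`, `a` and the interchanging involution. -/
noncomputable def aC : H.C := ⟨D.a, D.a_C⟩

/-- The interchanging involution in the centralizer. -/
noncomputable def gC : H.C := ⟨D.g3, D.g3_C⟩

theorem z_pow_cube (i : ℕ) : (H.z ^ i) ^ 3 = 1 := by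
  rw [← pow_mul, mul_comm, pow_mul, H.z_spec.2.1, one_pow]

include D

theorem norm_bar (h1 : H.Case1) {Ω : Perm (Fin 5) →* H.C ⧸ H.T}
    (hΩ : ∀ π, ∃ n, ∃ hn : n ∈ H.N1, H.θ ⟨n, hn⟩ = π ∧ Ω π = H.bar ⟨n, hn.1⟩)
    {x : G} (hx : x ∈ H.N1) :
    ∃ i : Fin 3, H.bar ⟨x, hx.1⟩ = H.bar H.zC ^ (i : ℕ) * Ω (H.θ ⟨x, hx⟩) := by
  obtain ⟨n, hn, hθ, hΩn⟩ := hΩ (H.θ ⟨x, hx⟩)
  have hk : H.θ ⟨x * n⁻¹, mul_mem hx (inv_mem hn)⟩ = 1 := by
    rw [show (⟨x * n⁻¹, _⟩ : H.N1) = ⟨x, hx⟩ * ⟨n, hn⟩⁻¹ from rfl, map_mul, map_inv, hθ, mul_inv_cancel]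
  obtain ⟨m, hm, hxm⟩ : ∃ m, ∃ hm : m ∈ H.Z,
      H.bar ⟨x * n⁻¹, (mul_mem hx (inv_mem hn) : x * n⁻¹ ∈ H.N1).1⟩ = H.bar ⟨m, H.Z_le_C hm⟩ := by
    rcases D.ker_θ h1 _ hk with h | h
    · exact ⟨_, h, rfl⟩
    · refine ⟨_, h, H.bar_eq.mpr (Or.inr ?_)⟩
      show x * n⁻¹ = H.t * (H.t * (x * n⁻¹))
      rw [← mul_assoc H.t, H.t_sq, one_mul]
  obtain ⟨i, rfl⟩ := H.z_pow_exists hm
  refine ⟨i, ?_⟩
  rw [hΩn, ← map_pow, show (H.zC ^ (i : ℕ) : H.C) = ⟨H.z ^ (i : ℕ), H.Z_le_C hm⟩ from Subtype.ext rfl,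
    ← hxm, ← map_mul]
  congr 1
  exact Subtype.ext (by simp)

theorem conj_bar (h1 : H.Case1) {n : G} (hn : n ∈ H.N1) :
    H.bar ⟨n, hn.1⟩ * H.bar H.zC * (H.bar ⟨n, hn.1⟩)⁻¹ =
      if Perm.sign (H.θ ⟨n, hn⟩) = 1 then H.bar H.zC else (H.bar H.zC)⁻¹ := by
  have h := D.conj_sign h1 hn
  split_ifs at h ⊢ with hs
  · rw [← map_inv, ← map_mul, ← map_mul]
    exact congrArg H.bar (Subtype.ext h)
  · rw [← map_inv, ← map_inv, ← map_mul, ← map_mul]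
    exact congrArg H.bar (Subtype.ext h)

theorem bar_comm_zC_pow (h1 : H.Case1) {n : G} (hn : n ∈ H.N1) (hs : Perm.sign (H.θ ⟨n, hn⟩) = -1) (i : ℕ) :
    H.bar ⟨n, hn.1⟩ * H.bar H.zC ^ i * (H.bar ⟨n, hn.1⟩)⁻¹ = (H.bar H.zC ^ i)⁻¹ := by
  rw [← conj_pow, D.conj_bar h1 hn, hs, if_neg (by decide), inv_pow]

/-- The section is normalized so that `a` is the image of the three-cycle. -/
theorem exists_normalized (h1 : H.Case1) : ∃ Ω : Perm (Fin 5) →* H.C ⧸ H.T,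
    (∀ π, ∃ n, ∃ hn : n ∈ H.N1, Perm.sign (H.θ ⟨n, hn⟩) = Perm.sign π ∧ Ω π = H.bar ⟨n, hn.1⟩) ∧
    (∀ (i : Fin 3) (π : Perm (Fin 5)), H.bar H.zC ^ (i : ℕ) * Ω π = 1 → i = 0 ∧ π = 1) ∧
    (∀ x, ∀ hx : x ∈ H.N1, ∃ (i : Fin 3) (π : Perm (Fin 5)), H.bar ⟨x, hx.1⟩ = H.bar H.zC ^ (i : ℕ) * Ω π) ∧
    H.bar D.aC = Ω CfsgLib.AltEightThree.cA := by
  obtain ⟨Ω, hΩ⟩ := D.exists_section h1
  have hbK : D.a ∈ H.K := by rw [D.a_pow]; exact pow_mem D.b_K _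
  have haN : D.a ∈ H.N1 := H.K_le_N1 hbK
  set τ := H.θ ⟨D.a, haN⟩ with hτ
  have ha3 : D.a ^ 3 = 1 := H.hJexp _ D.a_J
  have hτ3 : τ ^ 3 = 1 := by
    rw [hτ, ← map_pow, show (⟨D.a, haN⟩ : H.N1) ^ 3 = 1 from Subtype.ext ha3, map_one]
  have hτ1 : τ ≠ 1 := by
    intro e
    rcases D.ker_θ h1 haN e with h | h
    · obtain ⟨i, hi⟩ := H.z_pow_exists h
      exact D.a_ne_pow_z i hi
    · have := mul_mem (H.Z_le_J h) (inv_mem D.a_J)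
      rw [mul_inv_cancel_right] at this
      have h3 := H.hJexp _ this
      rw [pow_succ, pow_two, H.t_sq, one_mul] at h3
      exact H.t_not_Q (h3 ▸ one_mem _)
  obtain ⟨π₀, hπ₀⟩ := CfsgLib.AltEightThree.three_cycle_conj τ hτ3 hτ1
  obtain ⟨i, hi⟩ := D.norm_bar h1 hΩ haN
  have hz3 : ∀ k : ℕ, (H.bar H.zC ^ k) ^ 3 = 1 := fun k => by
    rw [← map_pow, ← map_pow, show (H.zC ^ k) ^ 3 = (1 : H.C) from Subtype.ext (z_pow_cube k), map_one]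
  -- the exponent vanishes
  have hi0 : i = 0 := by
    obtain ⟨hsgn, hsc⟩ := odd_comm_cA
    set π := π₀⁻¹ * swap (3 : Fin 5) 4 * π₀ with hπ
    have hπτ : π * τ * π⁻¹ = τ := by
      have e1 : τ = π₀⁻¹ * CfsgLib.AltEightThree.cA * π₀ := by rw [← hπ₀]; group
      rw [hπ, e1]
      calc π₀⁻¹ * swap (3 : Fin 5) 4 * π₀ * (π₀⁻¹ * CfsgLib.AltEightThree.cA * π₀) *
            (π₀⁻¹ * swap (3 : Fin 5) 4 * π₀)⁻¹
          = π₀⁻¹ * (swap (3 : Fin 5) 4 * CfsgLib.AltEightThree.cA) * (swap (3 : Fin 5) 4)⁻¹ * π₀ := by group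
        _ = _ := by rw [hsc, ← mul_assoc π₀⁻¹, mul_inv_cancel_right]
    obtain ⟨n, hn, hθn, hΩn⟩ := hΩ π
    have hsn : Perm.sign (H.θ ⟨n, hn⟩) = -1 := by
      rw [hθn, hπ, map_mul, map_mul, map_inv, hsgn]
      simp [mul_comm, mul_left_comm]
    have hinv := D.bar_comm_zC_pow h1 hn hsn i
    have hconj : H.bar ⟨n, hn.1⟩ * H.bar D.aC * (H.bar ⟨n, hn.1⟩)⁻¹ =
        H.bar H.zC ^ (i : ℕ) * H.bar D.aC := by
      show H.bar ⟨n, hn.1⟩ * H.bar ⟨D.a, haN.1⟩ * (H.bar ⟨n, hn.1⟩)⁻¹ = _ * H.bar ⟨D.a, haN.1⟩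
      rw [hi, show H.bar ⟨n, hn.1⟩ * (H.bar H.zC ^ (i : ℕ) * Ω τ) * (H.bar ⟨n, hn.1⟩)⁻¹ =
        (H.bar ⟨n, hn.1⟩ * H.bar H.zC ^ (i : ℕ) * (H.bar ⟨n, hn.1⟩)⁻¹) *
          (H.bar ⟨n, hn.1⟩ * Ω τ * (H.bar ⟨n, hn.1⟩)⁻¹) by group, hinv, ← hΩn, ← map_mul, ← map_inv,
        ← map_mul, hπτ, ← mul_assoc]
      congr 1
      refine inv_eq_of_mul_eq_one_right ?_
      rw [← mul_assoc, ← pow_two, ← pow_succ, hz3]
    rw [← map_inv, ← map_pow, ← map_mul, ← map_mul, ← map_mul] at hconj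
    have hex : n * D.a * n⁻¹ = H.z ^ (i : ℕ) * D.a := by
      refine H.eq_of_cube (mul_mem (H.Z_le_C (pow_mem H.z_spec.1 _)) D.a_C) ?_ ?_ (H.bar_eq.mp hconj)
      · rw [conj_pow, ha3, mul_one, mul_inv_cancel]
      · exact H.hJexp _ (mul_mem (pow_mem (H.Z_le_J H.z_spec.1) _) D.a_J)
    have hcza : Commute (H.z ^ (i : ℕ)) D.a :=
      (show Commute H.z D.a from H.hJc _ (H.Z_le_J H.z_spec.1) _ D.a_J).pow_left _
    have hb : n * D.b * n⁻¹ = (H.z ^ (i : ℕ)) ^ D.ga.val * D.b := by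
      rw [D.b_pow, ← conj_pow, hex, hcza.mul_pow]
    have hnJ : n ∈ H.NJ := D.NJ_of_b hn.2 (by
      rw [hb]; exact mul_mem (H.Z_le_S (pow_mem (pow_mem H.z_spec.1 _) _)) (H.hJS D.b_J))
    have hact := (D.b_dir hnJ hn.1).1 (by
      rw [hb, mul_inv_cancel_right]; exact pow_mem (pow_mem H.z_spec.1 _) _)
    have hnb : n * D.b * n⁻¹ = D.b := by
      rw [b, ← D.F.act_spec hnJ, hact]
    have hna : n * D.a * n⁻¹ = D.a := by rw [D.a_pow, ← conj_pow, hnb]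
    rw [hna, right_eq_mul] at hex
    have h := orderOf_dvd_of_pow_eq_one hex
    haveI : Fact (Nat.Prime 3) := ⟨Nat.prime_three⟩
    rw [orderOf_eq_prime H.z_spec.2.1 H.z_spec.2.2.1] at h
    have := i.isLt
    exact Fin.ext (show (i : ℕ) = 0 by omega)
  rw [hi0, Fin.val_zero, pow_zero, one_mul] at hi
  refine ⟨Ω.comp (MulAut.conj π₀⁻¹).toMonoidHom, fun π => ?_, fun j π h => ?_, fun x hx => ?_, ?_⟩
  · obtain ⟨n, hn, hθn, hΩn⟩ := hΩ (π₀⁻¹ * π * π₀)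
    refine ⟨n, hn, ?_, by simpa using hΩn⟩
    rw [hθn, map_mul, map_mul, map_inv, mul_comm, ← mul_assoc, mul_inv_cancel, one_mul]
  · obtain ⟨n, hn, hθn, hΩn⟩ := hΩ (π₀⁻¹ * π * π₀)
    have h' : H.bar H.zC ^ (j : ℕ) * Ω (π₀⁻¹ * π * π₀) = 1 := by simpa using h
    rw [hΩn, ← map_pow, ← map_mul, ← map_one H.bar] at h'
    have hzm : H.z ^ (j : ℕ) ∈ H.Z := pow_mem H.z_spec.1 _
    have hπ1 : π₀⁻¹ * π * π₀ = 1 := by
      rcases H.bar_eq.mp h' with e | e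
      · have e' : H.θ (⟨H.z ^ (j : ℕ), H.K_le_N1 (H.Z_le_K hzm)⟩ * ⟨n, hn⟩) = 1 := by
          rw [show (⟨H.z ^ (j : ℕ), H.K_le_N1 (H.Z_le_K hzm)⟩ * ⟨n, hn⟩ : H.N1) = 1 from Subtype.ext e, map_one]
        rwa [map_mul, H.θ_Z hzm, one_mul, hθn] at e'
      · have e' : H.θ (⟨H.z ^ (j : ℕ), H.K_le_N1 (H.Z_le_K hzm)⟩ * ⟨n, hn⟩) = 1 := by
          rw [show (⟨H.z ^ (j : ℕ), H.K_le_N1 (H.Z_le_K hzm)⟩ * ⟨n, hn⟩ : H.N1) =
            ⟨H.t, H.K_le_N1 H.t_mem_K⟩ from Subtype.ext (e.trans (mul_one _)), H.θ_t]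
        rwa [map_mul, H.θ_Z hzm, one_mul, hθn] at e'
    have hπ : π = 1 := by
      calc π = π₀ * (π₀⁻¹ * π * π₀) * π₀⁻¹ := by group
        _ = 1 := by rw [hπ1, mul_one, mul_inv_cancel]
    refine ⟨?_, hπ⟩
    have hz' : H.bar (H.zC ^ (j : ℕ)) = H.bar 1 := by
      rw [map_pow, map_one]
      subst hπ
      simpa using h
    have hzj : H.z ^ (j : ℕ) = 1 :=
      H.eq_of_cube (one_mem _) (z_pow_cube j) (one_pow 3) (H.bar_eq.mp hz')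
    have h := orderOf_dvd_of_pow_eq_one hzj
    haveI : Fact (Nat.Prime 3) := ⟨Nat.prime_three⟩
    rw [orderOf_eq_prime H.z_spec.2.1 H.z_spec.2.2.1] at h
    have := j.isLt
    exact Fin.ext (show (j : ℕ) = 0 by omega)
  · obtain ⟨j, hj⟩ := D.norm_bar h1 hΩ hx
    exact ⟨j, π₀ * H.θ ⟨x, hx⟩ * π₀⁻¹, by rw [hj]; simp [mul_assoc]⟩
  · show H.bar ⟨D.a, haN.1⟩ = _
    rw [hi, ← hπ₀]
    simp [mul_assoc, hτ]

theorem three_le (P : Subgroup (H.C ⧸ H.T)) (hP : IsPGroup 3 P) : Nat.card P ≤ 9 := by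
  haveI : Fact (Nat.Prime 3) := ⟨Nat.prime_three⟩
  let DC : Subgroup H.C := D.Dg.subgroupOf H.C
  have hDC : IsPGroup 3 DC :=
    D.Dg_pgroup.of_injective (Subgroup.subgroupOfEquivOfLe D.Dg_le_C).toMonoidHom (MulEquiv.injective _)
  obtain ⟨R, hR⟩ := hDC.exists_le_sylow
  have hRD : (R : Subgroup H.C) ≤ DC := fun x hx =>
    D.Dg_max (P := (R : Subgroup H.C).map H.C.subtype) (R.2.map _) (Subgroup.map_subtype_le _)
      (fun d hd => ⟨⟨d, D.Dg_le_C hd⟩, hR hd, rfl⟩) ⟨x, hx, rfl⟩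
  have hcard : Nat.card (R : Subgroup H.C) ≤ 9 := by
    refine le_trans (Subgroup.card_le_of_le hRD) ?_
    rw [Nat.card_congr (Subgroup.subgroupOfEquivOfLe D.Dg_le_C).toEquiv]
    exact D.card_Dg
  let R' : Sylow 3 (H.C ⧸ H.T) := R.mapSurjective (f := H.bar) (QuotientGroup.mk'_surjective _)
  obtain ⟨R'', hR''⟩ := hP.exists_le_sylow
  have h1 : Nat.card P ≤ Nat.card (R'' : Subgroup (H.C ⧸ H.T)) := Subgroup.card_le_of_le hR''
  have h2 : Nat.card (R'' : Subgroup (H.C ⧸ H.T)) = Nat.card (R' : Subgroup (H.C ⧸ H.T)) :=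
    Nat.card_congr (R''.equiv R').toEquiv
  have h3 : Nat.card (R' : Subgroup (H.C ⧸ H.T)) ≤ Nat.card (R : Subgroup H.C) :=
    Nat.card_le_card_of_surjective (fun x : (R : Subgroup H.C) =>
      (⟨H.bar (x : H.C), Subgroup.mem_map_of_mem _ x.2⟩ : (R' : Subgroup (H.C ⧸ H.T))))
      fun ⟨y, hy⟩ => by
        obtain ⟨x, hx, rfl⟩ := hy
        exact ⟨⟨x, hx⟩, rfl⟩
  omega

theorem cent_za_bar (h1 : H.Case1) (x : H.C ⧸ H.T) (hx : Commute (H.bar H.zC * H.bar D.aC) x) :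
    (∃ i j : Fin 3, x = H.bar H.zC ^ (i : ℕ) * H.bar D.aC ^ (j : ℕ)) ∨
      ∃ i j : Fin 3, x = H.bar H.zC ^ (i : ℕ) * H.bar D.aC ^ (j : ℕ) * H.bar D.gC := by
  induction x using QuotientGroup.induction_on with | _ x => ?_
  change Commute _ (H.bar x) at hx
  have hexact : (x : G) * (H.z * D.a) * (x : G)⁻¹ = H.z * D.a := by
    have hy : (H.z * D.a) ∈ H.C := mul_mem (H.Z_le_C H.z_spec.1) D.a_C
    have h3 : (H.z * D.a) ^ 3 = 1 := H.hJexp _ (mul_mem (H.Z_le_J H.z_spec.1) D.a_J)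
    refine H.eq_of_cube hy (by rw [conj_pow, h3, mul_one, mul_inv_cancel]) h3
      (H.bar_eq (x := x * (H.zC * D.aC) * x⁻¹) (y := H.zC * D.aC) |>.mp ?_)
    rw [map_mul, map_mul, map_mul, map_inv, ← hx.eq, mul_inv_cancel_right]
  have key : ∀ u : G, u ∈ H.C → u * H.z * u⁻¹ = H.z → u * D.b * u⁻¹ = D.b →
      ∃ i j : Fin 3, ∀ hu : u ∈ H.C, H.bar ⟨u, hu⟩ = H.bar H.zC ^ (i : ℕ) * H.bar D.aC ^ (j : ℕ) := by
    intro u huC huz hub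
    have huN : u ∈ H.N1 := H.mem_N1_of_conj huC (Or.inl huz)
    obtain ⟨x', hx', e⟩ := H.θ_alt (h1 u huN huz)
    have hθ : H.θ ⟨u * x'⁻¹, mul_mem huN (inv_mem (H.K_le_N1 hx'))⟩ = 1 := by
      rw [show (⟨u * x'⁻¹, _⟩ : H.N1) = ⟨u, huN⟩ * ⟨x', H.K_le_N1 hx'⟩⁻¹ from rfl, map_mul, map_inv, e,
        mul_inv_cancel]
    have huK : u ∈ H.K := by
      rcases D.ker_θ h1 _ hθ with h | h
      · have := mul_mem (H.Z_le_K h) hx'
        rwa [inv_mul_cancel_right] at this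
      · have := mul_mem (mul_mem H.t_mem_K (H.Z_le_K h)) hx'
        rwa [← mul_assoc H.t, H.t_sq, one_mul, inv_mul_cancel_right] at this
    obtain ⟨k, hk⟩ := D.K_cent_b huK hub
    have ha3 : D.a ^ 3 = 1 := H.hJexp _ D.a_J
    have hbk : D.b ^ k = D.a ^ ((D.ga.val * k) % 3) := by
      rw [D.b_pow, ← pow_mul]; exact pow_eq_pow_mod _ ha3
    rcases hk with h | h <;> obtain ⟨i, hi⟩ := H.z_pow_exists h <;>
      refine ⟨i, ⟨(D.ga.val * k) % 3, Nat.mod_lt _ (by norm_num)⟩, fun hu => ?_⟩ <;>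
      rw [← map_pow, ← map_pow, ← map_mul, H.bar_eq]
    · left
      show u = H.z ^ (i : ℕ) * D.a ^ ((D.ga.val * k) % 3)
      rw [← hi, ← hbk, inv_mul_cancel_right]
    · right
      show u = H.t * (H.z ^ (i : ℕ) * D.a ^ ((D.ga.val * k) % 3))
      rw [← hi, ← hbk, ← mul_assoc H.t, ← mul_assoc H.t, H.t_sq, one_mul, inv_mul_cancel_right]
  rcases D.cent_za x.2 (mul_inv_eq_iff_eq_mul.mp hexact) with ⟨e1, e2⟩ | ⟨e1, e2⟩
  · obtain ⟨i, j, h⟩ := key x x.2 e1 e2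
    exact Or.inl ⟨i, j, h x.2⟩
  · obtain ⟨i, j, h⟩ := key _ (mul_mem x.2 D.g3_C) e1 e2
    refine Or.inr ⟨i, j, ?_⟩
    rw [← h (mul_mem x.2 D.g3_C), ← map_mul]
    exact congrArg H.bar (Subtype.ext (by simp [gC, mul_assoc, D.g3_sq]))

theorem nonempty_A8 (h1 : H.Case1) : Nonempty (H.C ⧸ H.T ≃* alternatingGroup (Fin 8)) := by
  obtain ⟨Ω, hΩ, huniq, hnorm, ha⟩ := D.exists_normalized h1
  refine CfsgLib.AltEightThree.Setup.nonempty_mulEquiv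
    ⟨H.bar H.zC, H.bar D.aC, H.bar D.gC, Ω, ?_, ?_, huniq, ?_, ha, ?_, ?_, D.cent_za_bar h1, D.three_le⟩
  · rw [← map_pow, show H.zC ^ 3 = 1 from Subtype.ext H.z_spec.2.1, map_one]
  · intro π
    obtain ⟨n, hn, hs, e⟩ := hΩ π
    rw [e, D.conj_bar h1 hn, hs]
  · intro x hx
    induction x using QuotientGroup.induction_on with | _ x => ?_
    change H.bar x * H.bar H.zC * (H.bar x)⁻¹ = _ ∨ H.bar x * H.bar H.zC * (H.bar x)⁻¹ = _ at hx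
    have h3 : ∀ u : G, (u * H.z * u⁻¹) ^ 3 = 1 := fun u => by
      rw [conj_pow, H.z_spec.2.1, mul_one, mul_inv_cancel]
    have hN : (x : G) ∈ H.N1 := H.mem_N1_of_conj x.2 (by
      rcases hx with e | e
      · left
        rw [← map_inv, ← map_mul, ← map_mul] at e
        exact H.eq_of_cube (H.Z_le_C H.z_spec.1) (h3 _) H.z_spec.2.1 (H.bar_eq.mp e)
      · right
        rw [← map_inv, ← map_inv, ← map_mul, ← map_mul] at e
        exact H.eq_of_cube (inv_mem (H.Z_le_C H.z_spec.1)) (h3 _) (by rw [inv_pow, H.z_spec.2.1, inv_one])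
          (H.bar_eq.mp e))
    obtain ⟨i, π, e⟩ := hnorm x hN
    exact ⟨i, π, e⟩
  · rw [← map_mul, show D.gC * D.gC = 1 from Subtype.ext D.g3_sq, map_one]
  · rw [← map_mul, ← map_mul]
    refine congrArg H.bar (Subtype.ext ?_)
    have := D.g3_z
    rw [D.g3_inv] at this
    exact this

end Data

end CfsgLib.McLThree
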