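import Cfsg.Agent.Lib.McLThree.Sym8Norm

/-!
# The centralizer of the diagonal element, and no product of two alternating groups
-/

set_option autoImplicit false
set_option linter.unusedSectionVars false
set_option maxRecDepth 8000

open Equiv

namespace CfsgLib.McLThree.Sym8

open CfsgLib.AltEightThree (cA)

theorem even_square : ∀ π : Perm (Fin 5), Perm.sign π = 1 → ∃ ρ : Perm (Fin 5), ρ * ρ = π := by
  decide +kernel

theorem cent_alt : ∀ π : Perm (Fin 5), (∀ ρ : Perm (Fin 5), Perm.sign ρ = 1 → π * ρ = ρ * π) → π = 1 := by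
  decide +kernel

theorem exists_even_inverter : ∃ η : Perm (Fin 5), Perm.sign η = 1 ∧ η * cA * η⁻¹ = cA⁻¹ := by decide +kernel

/-- An element of order three commuting with a copy of `A₅` in a product of two copies. -/
theorem pair_cases (f : alternatingGroup (Fin 5) →* alternatingGroup (Fin 5) × alternatingGroup (Fin 5))
    (s : alternatingGroup (Fin 5) × alternatingGroup (Fin 5)) (hs : ∀ x, Commute s (f x)) :
    (s.1 ≠ 1 → ∀ x, (f x).1 = 1) ∧ (s.2 ≠ 1 → ∀ x, (f x).2 = 1) := by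
  haveI : IsSimpleGroup (alternatingGroup (Fin 5)) := alternatingGroup.isSimpleGroup (by simp)
  have key : ∀ (k : alternatingGroup (Fin 5) →* alternatingGroup (Fin 5)) (u : alternatingGroup (Fin 5)),
      (∀ x, Commute u (k x)) → u ≠ 1 → ∀ x, k x = 1 := by
    intro k u hu hu1
    rcases (inferInstance : k.ker.Normal).eq_bot_or_eq_top with h | h
    · exfalso
      have hsur : Function.Surjective k := Finite.injective_iff_surjective.mp ((MonoidHom.ker_eq_bot_iff k).mp h)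
      apply hu1
      refine Subtype.ext (cent_alt _ fun ρ hρ => ?_)
      obtain ⟨x, hx⟩ := hsur ⟨ρ, Perm.mem_alternatingGroup.mpr hρ⟩
      have := hu x
      rw [hx] at this
      exact congrArg Subtype.val this.eq
    · exact fun x => MonoidHom.mem_ker.mp (h ▸ Subgroup.mem_top x)
  exact ⟨key ((MonoidHom.fst _ _).comp f) s.1 fun x => congrArg Prod.fst (hs x).eq,
    key ((MonoidHom.snd _ _).comp f) s.2 fun x => congrArg Prod.snd (hs x).eq⟩

namespace Setup8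

variable {G : Type*} [Group G] [Finite G] (S : Setup8 G)

/-- The centralizer of `y`. -/
def Cy : Subgroup G := Subgroup.centralizer ({S.y} : Set G)

theorem CD_le_Cy : S.CD ≤ S.Cy := fun x hx => by
  obtain ⟨h1, h2⟩ := S.mem_CD.mp hx
  exact Subgroup.mem_centralizer_singleton_iff.mpr (h1.mul_right h2).eq

theorem g_Cy : S.g ∈ S.Cy := by
  refine Subgroup.mem_centralizer_singleton_iff.mpr ?_
  show S.g * (S.z * S.a) = S.z * S.a * S.g
  rw [← mul_inv_eq_iff_eq_mul, S.g_inv]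
  calc S.g * (S.z * S.a) * S.g = (S.g * S.z * S.g) * (S.g * S.a * S.g) := by
        rw [show S.g * S.z * S.g * (S.g * S.a * S.g) = S.g * S.z * (S.g * S.g) * S.a * S.g by group, S.gg]
        group
    _ = S.z * S.a := by rw [S.gz, S.gag, S.za.eq]

theorem Cy_cases {x : G} (hx : x ∈ S.Cy) : x ∈ S.CD ∨ x * S.g⁻¹ ∈ S.CD := by
  rw [S.g_inv]
  rcases S.cent_za x (show S.y * x = x * S.y from (Subgroup.mem_centralizer_singleton_iff.mp hx).symm) with h | h
  · exact Or.inl (S.mem_CD.mpr h)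
  · exact Or.inr (S.mem_CD.mpr h)

theorem g_not_CD : S.g ∉ S.CD := by
  intro h
  have := (S.mem_CD.mp h).1
  have e : S.g * S.z * S.g⁻¹ = S.z := mul_inv_eq_iff_eq_mul.mpr this.eq
  rw [S.g_inv, S.gz] at e
  exact S.z_ne_a 1 (by rw [pow_one, e])

theorem card_Cy : Nat.card S.Cy = 36 := by
  rw [card_double S.CD_le_Cy S.g_Cy S.g_not_CD fun b hb => S.Cy_cases hb, S.card_CD]

theorem Cy_le_N : S.Cy ≤ S.N := fun x hx => by
  rcases S.Cy_cases hx with h | h
  · exact S.CD_le_N h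
  · have := mul_mem (S.CD_le_N h) S.g_N
    rwa [inv_mul_cancel_right] at this

theorem qm_CD {x : G} (hx : x ∈ S.CD) : S.qm ⟨x, S.CD_le_N hx⟩ = 1 ∨ S.qm ⟨x, S.CD_le_N hx⟩ = S.qt := by
  rcases S.CD_cases hx with h | h
  · exact Or.inl ((QuotientGroup.eq_one_iff _).mpr h)
  · right
    rw [show (⟨x, S.CD_le_N hx⟩ : S.N) = ⟨x * S.τ⁻¹, S.D_le_N h⟩ * ⟨S.τ, S.CD_le_N S.τ_CD⟩ from
      Subtype.ext (by simp), map_mul,
      show S.qm ⟨x * S.τ⁻¹, S.D_le_N h⟩ = 1 from (QuotientGroup.eq_one_iff _).mpr h, one_mul]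
    rfl

theorem qm_Cy {x : G} (hx : x ∈ S.Cy) :
    ∃ u v, (u = 1 ∨ u = S.qt) ∧ (v = 1 ∨ v = S.qg) ∧ S.qm ⟨x, S.Cy_le_N hx⟩ = u * v := by
  rcases S.Cy_cases hx with h | h
  · exact ⟨_, 1, S.qm_CD h, Or.inl rfl, (mul_one _).symm⟩
  · refine ⟨_, S.qg, S.qm_CD h, Or.inr rfl, ?_⟩
    rw [qg, ← map_mul]
    exact congrArg S.qm (Subtype.ext (by simp))

theorem sq_mem_of_qm {x : G} (hx : x ∈ S.N) (h : S.qm ⟨x, hx⟩ * S.qm ⟨x, hx⟩ = 1) : x ^ 2 ∈ S.D := by
  rw [← map_mul] at h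
  have := (QuotientGroup.eq_one_iff (N := S.DN) ((⟨x, hx⟩ : S.N) * (⟨x, hx⟩ : S.N))).mp h
  rw [pow_two]; exact this

theorem Cy_sq : ∀ x ∈ S.Cy, x ^ 2 ∈ S.D := by
  intro x hx
  obtain ⟨u, v, hu, hv, e⟩ := S.qm_Cy hx
  refine S.sq_mem_of_qm (S.Cy_le_N hx) ?_
  rw [e]
  have huv : Commute u v := by
    rcases hu with rfl | rfl
    · exact Commute.one_left _
    rcases hv with rfl | rfl
    · exact Commute.one_right _
    exact S.qt_qg
  rw [show u * v * (u * v) = (u * v) ^ 2 from (pow_two _).symm, huv.mul_pow, pow_two, pow_two]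
  rcases hu with rfl | rfl <;> rcases hv with rfl | rfl <;> simp [S.qt_sq, S.qg_sq]

/-- The normalizer of `⟨y⟩`. -/
def Ny : Subgroup G := Subgroup.normalizer (Subgroup.zpowers S.y : Set G)

theorem y_ne : S.y ≠ 1 := fun h => by
  have := S.a_eq_zero (i := 1) (j := 1) (by simpa [y] using h)
  exact absurd this.1 (by decide)

theorem y_cube : S.y ^ 3 = 1 := S.D_exp S.y_D

theorem mem_Ny {x : G} : x ∈ S.Ny ↔ x * S.y * x⁻¹ = S.y ∨ x * S.y * x⁻¹ = S.y⁻¹ := by
  constructor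
  · intro h
    have hm := (Subgroup.mem_normalizer_iff.mp h S.y).mp (Subgroup.mem_zpowers _)
    obtain ⟨k, hk⟩ := Subgroup.mem_zpowers_iff.mp hm
    rw [show k = 3 * (k / 3) + k % 3 by omega, zpow_add, zpow_mul,
      show S.y ^ (3 : ℤ) = 1 by exact_mod_cast S.y_cube, one_zpow, one_mul] at hk
    rcases (show k % 3 = 0 ∨ k % 3 = 1 ∨ k % 3 = 2 by omega) with e | e | e <;> rw [e] at hk
    · rw [zpow_zero] at hk
      exact absurd (conj_eq_one_iff.mp hk.symm) S.y_ne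
    · rw [zpow_one] at hk; exact Or.inl hk.symm
    · refine Or.inr (hk.symm.trans (eq_inv_of_mul_eq_one_left ?_))
      rw [show (2 : ℤ) = ((2 : ℕ) : ℤ) from rfl, zpow_natCast, ← pow_succ, S.y_cube]
  · intro h
    show x ∈ Subgroup.normalizer (Subgroup.zpowers S.y : Set G)
    rw [Subgroup.mem_normalizer_iff_map_conj_eq, MonoidHom.map_zpowers]
    show Subgroup.zpowers (x * S.y * x⁻¹) = _
    rcases h with e | e <;> rw [e]
    exact Subgroup.zpowers_inv

theorem Cy_le_Ny : S.Cy ≤ S.Ny := fun x hx => S.mem_Ny.mpr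
  (Or.inl (mul_inv_eq_iff_eq_mul.mpr (Subgroup.mem_centralizer_singleton_iff.mp hx)))

theorem dd'_inv : S.d * S.d' * S.y * (S.d * S.d')⁻¹ = S.y⁻¹ := by
  have h1 : S.d' * S.y * S.d'⁻¹ = S.z * S.a⁻¹ := by
    rw [y, show S.d' * (S.z * S.a) * S.d'⁻¹ = (S.d' * S.z * S.d'⁻¹) * (S.d' * S.a * S.d'⁻¹) by group, S.d'_z,
      S.d'_a]
  rw [show S.d * S.d' * S.y * (S.d * S.d')⁻¹ = S.d * (S.d' * S.y * S.d'⁻¹) * S.d⁻¹ by group, h1,
    show S.d * (S.z * S.a⁻¹) * S.d⁻¹ = (S.d * S.z * S.d⁻¹) * (S.d * S.a * S.d⁻¹)⁻¹ by group, S.dz,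
    mul_inv_eq_iff_eq_mul.mpr S.d_a.eq, y, mul_inv_rev]
  exact S.za.inv_inv.eq

theorem y_ne_inv : S.y ≠ S.y⁻¹ := fun h => by
  have h2 := mul_eq_one_iff_eq_inv.mpr h
  have h3 := S.y_cube
  rw [pow_succ, pow_two, h2, one_mul] at h3
  exact S.y_ne h3

theorem dd'_Ny : S.d * S.d' ∈ S.Ny := S.mem_Ny.mpr (Or.inr S.dd'_inv)

theorem Ny_cases {x : G} (hx : x ∈ S.Ny) : x ∈ S.Cy ∨ x * (S.d * S.d')⁻¹ ∈ S.Cy := by
  rcases S.mem_Ny.mp hx with e | e
  · exact Or.inl (Subgroup.mem_centralizer_singleton_iff.mpr (mul_inv_eq_iff_eq_mul.mp e))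
  · refine Or.inr (Subgroup.mem_centralizer_singleton_iff.mpr (mul_inv_eq_iff_eq_mul.mp ?_))
    have h : (S.d * S.d')⁻¹ * S.y * (S.d * S.d') = S.y⁻¹ := by
      have h0 := congrArg (fun u => ((S.d * S.d')⁻¹ * u * (S.d * S.d'))⁻¹) S.dd'_inv
      simp only [inv_inv, mul_inv_rev, mul_assoc, inv_mul_cancel_left, inv_mul_cancel, mul_one] at h0 ⊢
      exact h0.symm
    rw [show x * (S.d * S.d')⁻¹ * S.y * (x * (S.d * S.d')⁻¹)⁻¹ = x * ((S.d * S.d')⁻¹ * S.y * (S.d * S.d')) * x⁻¹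
      by group, h, show x * S.y⁻¹ * x⁻¹ = (x * S.y * x⁻¹)⁻¹ by group, e, inv_inv]

theorem card_Ny : Nat.card S.Ny = 72 := by
  have hn : S.d * S.d' ∉ S.Cy := fun h => S.y_ne_inv (by
    rw [← S.dd'_inv, mul_inv_eq_iff_eq_mul.mpr (Subgroup.mem_centralizer_singleton_iff.mp h)])
  rw [card_double S.Cy_le_Ny S.dd'_Ny hn fun b hb => S.Ny_cases hb, S.card_Cy]

theorem Ny_le_N : S.Ny ≤ S.N := fun x hx => by
  rcases S.Ny_cases hx with h | h
  · exact S.Cy_le_N h
  · have := mul_mem (S.Cy_le_N h) (mul_mem S.d_N S.d'_N)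
    rwa [inv_mul_cancel_right] at this

theorem Ny_sq : ∀ x ∈ S.Ny, x ^ 2 ∈ S.D := by
  intro x hx
  rcases S.Ny_cases hx with h | h
  · exact S.Cy_sq x h
  obtain ⟨u, v, hu, hv, e⟩ := S.qm_Cy h
  set w := S.qd * S.qd' with hw
  refine S.sq_mem_of_qm (S.Ny_le_N hx) ?_
  have ex : S.qm ⟨x, S.Ny_le_N hx⟩ = u * v * w := by
    rw [← e, hw, qd, qd', ← map_mul, ← map_mul]
    exact congrArg S.qm (Subtype.ext (by simp [mul_assoc]))
  have hd'2 : S.qd' * S.qd' = 1 := by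
    rw [S.qd'_eq, show S.qg * S.qd * S.qg * (S.qg * S.qd * S.qg) = S.qg * (S.qd * (S.qg * S.qg) * S.qd) * S.qg
      by group, S.qg_sq, mul_one, S.qd_sq, mul_one, S.qg_sq]
  have hw2 : w * w = 1 := by
    rw [hw, ← pow_two, S.qdd'.mul_pow, pow_two, pow_two, S.qd_sq, hd'2, one_mul]
  have hgw : Commute S.qg w := by
    have hgi : S.qg⁻¹ = S.qg := inv_eq_of_mul_eq_one_left S.qg_sq
    refine mul_inv_eq_iff_eq_mul.mp ?_
    have hgd' : S.qg * S.qd' * S.qg = S.qd := by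
      rw [S.qd'_eq, show S.qg * (S.qg * S.qd * S.qg) * S.qg = (S.qg * S.qg) * S.qd * (S.qg * S.qg) by group,
        S.qg_sq, one_mul, mul_one]
    rw [hw, hgi, show S.qg * (S.qd * S.qd') * S.qg = (S.qg * S.qd * S.qg) * (S.qg⁻¹ * S.qd' * S.qg) by group,
      hgi, hgd', ← S.qd'_eq]
    exact S.qdd'.symm.eq
  have huv : Commute u v := by
    rcases hu with rfl | rfl
    · exact Commute.one_left _
    rcases hv with rfl | rfl
    · exact Commute.one_right _
    exact S.qt_qg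
  have huw : Commute u w := by
    rcases hu with rfl | rfl
    · exact Commute.one_left _
    · exact S.qt_qd.mul_right S.qt_qd'
  have hvw : Commute v w := by
    rcases hv with rfl | rfl
    · exact Commute.one_left _
    · exact hgw
  have huu : u * u = 1 := by rcases hu with rfl | rfl <;> simp [S.qt_sq]
  have hvv : v * v = 1 := by rcases hv with rfl | rfl <;> simp [S.qg_sq]
  rw [ex, ← pow_two, (huw.mul_left hvw).mul_pow, huv.mul_pow, pow_two, pow_two, pow_two, huu, hvv, hw2,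
    one_mul, one_mul]

theorem DN_Cy : (S.D.subgroupOf S.Cy).Normal :=
  ⟨fun u hu x => (Subgroup.mem_normalizer_iff.mp (S.Cy_le_N x.2) u).mp hu⟩

theorem DN_Ny : (S.D.subgroupOf S.Ny).Normal :=
  ⟨fun u hu x => (Subgroup.mem_normalizer_iff.mp (S.Ny_le_N x.2) u).mp hu⟩

include S in
/-- The group is not an extension of a product of two alternating groups of degree five by squares. -/
theorem not_product {N₀ : Subgroup G} (hn : N₀.Normal) (hsq : ∀ x : G, x ^ 2 ∈ N₀)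
    (e : N₀ ≃* alternatingGroup (Fin 5) × alternatingGroup (Fin 5)) : False := by
  have hmem : ∀ π : Perm (Fin 5), Perm.sign π = 1 → S.Ω π ∈ N₀ := fun π hπ => by
    obtain ⟨ρ, hρ⟩ := even_square π hπ
    rw [← hρ, map_mul, ← pow_two]; exact hsq _
  have hzN : S.z ∈ N₀ := by
    have h := hsq (S.z ^ 2)
    rwa [← pow_mul, show 2 * 2 = 3 + 1 from rfl, pow_succ, S.hz, one_mul] at h
  let emb : alternatingGroup (Fin 5) →* N₀ :=
    (S.Ω.comp (alternatingGroup (Fin 5)).subtype).codRestrict N₀ fun π =>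
      hmem _ (Perm.mem_alternatingGroup.mp π.2)
  let conjg : N₀ →* N₀ :=
    { toFun := fun x => ⟨S.g * x * S.g⁻¹, hn.conj_mem x x.2 S.g⟩
      map_one' := Subtype.ext (by simp)
      map_mul' := fun x y => Subtype.ext (by simp [mul_assoc]) }
  let cAe : alternatingGroup (Fin 5) := ⟨cA, Perm.mem_alternatingGroup.mpr cA_facts.2.1⟩
  set zN : N₀ := ⟨S.z, hzN⟩ with hzNdef
  have hconjz : conjg zN = emb cAe := Subtype.ext (by
    show S.g * S.z * S.g⁻¹ = S.Ω cA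
    rw [S.g_inv, S.gz, S.ha])
  have h1 : ∀ x, Commute (e zN) (e (emb x)) := fun x => by
    refine Commute.map ?_ e.toMonoidHom
    exact Subtype.ext (S.zΩ (x : Perm (Fin 5))).eq
  have h2 : ∀ x, Commute (e (emb cAe)) (e (conjg (emb x))) := fun x => by
    rw [← hconjz]
    refine Commute.map ?_ e.toMonoidHom
    exact (Commute.map (show Commute zN (emb x) from Subtype.ext (S.zΩ (x : Perm (Fin 5))).eq) conjg)
  have p1 := pair_cases (e.toMonoidHom.comp emb) (e zN) h1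
  have p2 := pair_cases (e.toMonoidHom.comp (conjg.comp emb)) (e (emb cAe)) h2
  have hz1 : (e zN).1 ≠ 1 ∨ (e zN).2 ≠ 1 := by
    by_contra h
    push Not at h
    have : e zN = 1 := Prod.ext h.1 h.2
    exact S.z_ne (congrArg Subtype.val ((map_eq_one_iff e e.injective).mp this))
  have hA : emb cAe ≠ 1 := fun h => S.a_ne (by rw [S.ha]; exact congrArg Subtype.val h)
  have hcomm : ∀ x y, Commute (emb x) (conjg (emb y)) := by
    intro x y
    suffices h : Commute (e (emb x)) (e (conjg (emb y))) by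
      have := h.map e.symm.toMonoidHom
      simpa using this
    rcases hz1 with h | h
    · have hx : ∀ w, (e (emb w)).1 = 1 := p1.1 h
      have ha2 : (e (emb cAe)).2 ≠ 1 := fun h' =>
        hA ((map_eq_one_iff e e.injective).mp (Prod.ext (hx cAe) h'))
      have hy : (e (conjg (emb y))).2 = 1 := p2.2 ha2 y
      exact Prod.ext (by simp [hx x]) (by simp [hy])
    · have hx : ∀ w, (e (emb w)).2 = 1 := p1.2 h
      have ha1 : (e (emb cAe)).1 ≠ 1 := fun h' =>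
        hA ((map_eq_one_iff e e.injective).mp (Prod.ext h' (hx cAe)))
      have hy : (e (conjg (emb y))).1 = 1 := p2.1 ha1 y
      exact Prod.ext (by simp [hy]) (by simp [hx x])
  obtain ⟨η, hη, hηc⟩ := exists_even_inverter
  obtain ⟨k, π', hd', hπ', hs'⟩ := S.d'_param
  set c := π'⁻¹ * η with hc
  have hcs : Perm.sign c = -1 := by rw [hc, map_mul, map_inv, hs', hη]; rfl
  have hcc : c * cA = cA * c := by
    have h0 : η * cA * η⁻¹ = π' * cA * π'⁻¹ := by rw [hηc, hπ']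
    have h1 := congrArg (fun u => π'⁻¹ * u * η) h0
    simp only [mul_assoc, inv_mul_cancel, mul_one, inv_mul_cancel_left] at h1
    rw [hc, mul_assoc]
    exact h1
  have hcCD : S.Ω c ∈ S.CD := S.mem_CD.mpr ⟨(S.zΩ c).symm, by
    rw [S.ha]; exact (show Commute c cA from hcc).map S.Ω⟩
  have hcD : S.Ω c ∉ S.D := by
    rintro ⟨i, j, h⟩
    rw [S.pow_a_Ω] at h
    have h' : S.z ^ ((0 : Fin 3) : ℕ) * S.Ω c = S.z ^ (i : ℕ) * S.Ω (cA ^ (j : ℕ)) := by
      rw [Fin.val_zero, pow_zero, one_mul]; exact h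
    have := congrArg Perm.sign (S.coord_inj h').2
    rw [hcs, cA_facts.2.2.2.2.2.2.2.1 j] at this
    exact absurd this (by decide)
  set u := S.g * S.Ω c * S.g with hu
  have huN : u ∈ S.CD := by
    obtain ⟨hz', ha'⟩ := S.mem_CD.mp hcCD
    have m : ∀ p q : G, S.g * p * S.g = q → Commute (S.Ω c) p → Commute u q := by
      intro p q e' hp
      have := hp.map (MulAut.conj S.g).toMonoidHom
      simp only [MulEquiv.coe_toMonoidHom, MulAut.conj_apply, S.g_inv] at this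
      rwa [e'] at this
    exact S.mem_CD.mpr ⟨m _ _ S.gag ha', m _ _ S.gz hz'⟩
  have huD : u ∉ S.D := fun h => hcD (by
    have := (Subgroup.mem_normalizer_iff.mp S.g_N _).mp h
    rwa [S.g_inv, hu, show S.g * (S.g * S.Ω c * S.g) * S.g = (S.g * S.g) * S.Ω c * (S.g * S.g) by group, S.gg,
      one_mul, mul_one] at this)
  have hut : u * S.τ⁻¹ ∈ S.D := (S.CD_cases huN).resolve_left huD
  obtain ⟨i, j, hij⟩ := hut
  -- the conjugate of the even inverter
  have hw : S.g * S.Ω η * S.g = (S.a ^ (k : ℕ))⁻¹ * S.d * u := by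
    have hηe : S.Ω η = (S.z ^ (k : ℕ))⁻¹ * S.d' * S.Ω c := by
      rw [hd', hc, map_mul, map_inv]; group
    have h' : S.g * (S.z ^ (k : ℕ))⁻¹ * S.g = (S.a ^ (k : ℕ))⁻¹ := by
      rw [← S.gz]
      conv_rhs => rw [show S.g * S.z * S.g = S.g * S.z * S.g⁻¹ by rw [S.g_inv], conj_pow]
      rw [mul_inv_rev, mul_inv_rev, inv_inv, ← mul_assoc, S.g_inv]
    rw [hηe, hu, ← h', d']
    calc S.g * ((S.z ^ (k : ℕ))⁻¹ * (S.g * S.d * S.g) * S.Ω c) * S.g
        = (S.g * (S.z ^ (k : ℕ))⁻¹ * S.g) * S.d * (S.g * S.Ω c * S.g) := by group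
      _ = _ := rfl
  have hcen : ∀ ρ : Perm (Fin 5), Perm.sign ρ = 1 → Commute (S.g * S.Ω η * S.g) (S.Ω ρ) := by
    intro ρ hρ
    have h := congrArg Subtype.val
      (hcomm ⟨ρ, Perm.mem_alternatingGroup.mpr hρ⟩ ⟨η, Perm.mem_alternatingGroup.mpr hη⟩).eq
    have h' : S.Ω ρ * (S.g * S.Ω η * S.g⁻¹) = S.g * S.Ω η * S.g⁻¹ * S.Ω ρ := h
    rw [S.g_inv] at h'
    exact h'.symm
  have hu' : u = S.z ^ (i : ℕ) * S.Ω (cA ^ (j : ℕ) * swap 3 4) := by
    rw [map_mul, ← S.pow_a_Ω, ← mul_assoc, ← hij]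
    exact (inv_mul_cancel_right u S.τ).symm
  set π'' := (cA ^ (k : ℕ))⁻¹ * (cA ^ (j : ℕ) * swap 3 4) with hπ''
  have hfin : ∀ ρ : Perm (Fin 5), Perm.sign ρ = 1 → π'' * ρ = ρ * π'' := by
    intro ρ hρ
    have h := hcen ρ hρ
    have e1 : S.g * S.Ω η * S.g = S.d * S.z ^ (i : ℕ) * S.Ω π'' := by
      rw [hw, hu', hπ'', map_mul S.Ω (cA ^ (k : ℕ))⁻¹, map_inv, ← S.pow_a_Ω]
      have hda : Commute (S.a ^ (k : ℕ))⁻¹ S.d := (S.d_a.symm.pow_left _).inv_left
      have hza : Commute (S.a ^ (k : ℕ))⁻¹ (S.z ^ (i : ℕ)) := ((S.za.symm.pow_pow _ _)).inv_left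
      calc (S.a ^ (k : ℕ))⁻¹ * S.d * (S.z ^ (i : ℕ) * S.Ω (cA ^ (j : ℕ) * swap 3 4))
          = S.d * ((S.a ^ (k : ℕ))⁻¹ * S.z ^ (i : ℕ)) * S.Ω (cA ^ (j : ℕ) * swap 3 4) := by
            rw [hda.eq]; group
        _ = _ := by rw [hza.eq]; group
    rw [e1] at h
    have h2 : Commute (S.d * S.z ^ (i : ℕ)) (S.Ω ρ) := (S.dΩ ρ).mul_left ((S.zΩ ρ).pow_left _)
    have h3 : Commute (S.Ω π'') (S.Ω ρ) := by
      have h4 := h2.inv_left.mul_left h
      rwa [inv_mul_cancel_left] at h4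
    have h5 : S.z ^ ((0 : Fin 3) : ℕ) * S.Ω (π'' * ρ) = S.z ^ ((0 : Fin 3) : ℕ) * S.Ω (ρ * π'') := by
      rw [map_mul S.Ω π'' ρ, map_mul S.Ω ρ π'', h3.eq]
    exact (S.coord_inj h5).2
  have h1 := cent_alt π'' hfin
  have := congrArg Perm.sign h1
  rw [hπ'', map_mul, map_mul, map_inv, cA_facts.2.2.2.2.2.2.2.1 j, cA_facts.2.2.2.2.2.2.2.2, map_one] at this
  rw [show cA ^ (k : ℕ) = cA ^ ((k : Fin 3) : ℕ) from rfl, cA_facts.2.2.2.2.2.2.2.1 k] at this
  exact absurd this (by decide)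

end Setup8

end CfsgLib.McLThree.Sym8
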