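import Cfsg.Agent.Lib.McLThree.NuFusion
import Cfsg.Agent.Lib.McLThree.Sym8Y

/-!
# The centralizer of the involution modulo the involution has the local data of `S₈`
-/

set_option autoImplicit false
set_option linter.unusedSectionVars false
set_option maxRecDepth 20000
set_option synthInstance.maxSize 4000

open Equiv

namespace CfsgLib.McLThree

open CfsgLib.AltEightThree (cA)

/-- The conjugate of an anti-similitude by the reflection is a different one. -/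
theorem refl_moves : ∀ p q r s : ZMod 3, p * p + q * q = 2 → r * r + s * s = 2 →
    (p + r) * (p + r) + (q + s) * (q + s) = 1 →
    ((∀ v, dMap 1 2 p q r s (dMap 1 2 p q r s v) = v) ∨ ∀ v, dMap 1 2 p q r s (dMap 1 2 p q r s v) = tauV v) →
    ∀ a gp gq : ZMod 3, a ≠ 0 → gp * gp + gq * gq = 1 →
    ¬ (∀ v, gMap a gp gq (-(dMap 1 2 p q r s (gMap a gp gq v))) = dMap 1 2 p q r s v) ∧
    ¬ (∀ v, gMap a gp gq (-(dMap 1 2 p q r s (gMap a gp gq v))) = tauV (dMap 1 2 p q r s v)) := by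
  decide +kernel

theorem two_smul_line : ∀ i j a : ZMod 3, i.val • eZ + j.val • ((0, 0, 0, a) : V4) = (i, 0, 0, j * a) := by
  decide +kernel

theorem perm5_swap_trivial {M : Type*} [Group M] (φ : Perm (Fin 5) →* M) (h3 : ∀ π, φ π ^ 3 = 1) :
    φ = 1 := by
  refine MonoidHom.ext fun π => ?_
  rw [MonoidHom.one_apply]
  induction π using Perm.swap_induction_on with
  | one => exact map_one φ
  | swap_mul f x y hne ih =>
    have hs : φ (swap x y) = 1 := by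
      have h2 : φ (swap x y) * φ (swap x y) = 1 := by rw [← map_mul, swap_mul_self, map_one]
      have := h3 (swap x y)
      rwa [pow_succ, pow_two, h2, one_mul] at this
    rw [map_mul, hs, ih, one_mul]

namespace Twist

variable {G : Type*} [Group G] [Finite G] {H : Hyp G} {D : Data H} (W : Twist D)

include W in
theorem exists_x0 : ∃ x, ∃ hx : x ∈ H.K, H.θ ⟨x, H.K_le_N1 hx⟩ = H.θ ⟨W.ν, W.hN⟩ := H.θ_alt W.sgn

/-- The kernel element inverting `z`. -/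
noncomputable def dd : G := W.ν * W.exists_x0.choose⁻¹

theorem dd_N1 : W.dd ∈ H.N1 := mul_mem W.hN (inv_mem (H.K_le_N1 W.exists_x0.choose_spec.choose))

theorem dd_θ : H.θ ⟨W.dd, W.dd_N1⟩ = 1 := by
  rw [show (⟨W.dd, W.dd_N1⟩ : H.N1) = ⟨W.ν, W.hN⟩ * ⟨_, H.K_le_N1 W.exists_x0.choose_spec.choose⟩⁻¹ from rfl,
    map_mul, map_inv, W.exists_x0.choose_spec.choose_spec, mul_inv_cancel]

theorem dd_z : W.dd * H.z * W.dd⁻¹ = H.z⁻¹ := by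
  have h0 := H.Z_conj_L0 (inv_mem W.exists_x0.choose_spec.choose.2)
  show W.ν * W.exists_x0.choose⁻¹ * H.z * (W.ν * W.exists_x0.choose⁻¹)⁻¹ = _
  rw [show W.ν * W.exists_x0.choose⁻¹ * H.z * (W.ν * W.exists_x0.choose⁻¹)⁻¹ =
    W.ν * (W.exists_x0.choose⁻¹ * H.z * W.exists_x0.choose⁻¹⁻¹) * W.ν⁻¹ by group, h0, W.ν_z]

theorem dd_NJ : W.dd ∈ H.NJ := (D.ker_b W.dd_N1 W.dd_θ).choose

theorem dd_act_B : D.F.act W.dd_NJ eB = eB := (D.ker_b W.dd_N1 W.dd_θ).choose_spec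

theorem dd_a : W.dd * D.a * W.dd⁻¹ = D.a := by
  rw [D.a_pow, ← conj_pow, Data.b, ← D.F.act_spec W.dd_NJ, W.dd_act_B]

/-- Its image modulo the involution. -/
noncomputable def dC : H.C := ⟨W.dd, W.dd_N1.1⟩

theorem dd_sq : H.bar W.dC * H.bar W.dC = 1 := by
  have hN := mul_mem W.dd_N1 W.dd_N1
  have hθ : H.θ ⟨W.dd * W.dd, hN⟩ = 1 := by
    rw [show (⟨W.dd * W.dd, hN⟩ : H.N1) = ⟨W.dd, W.dd_N1⟩ * ⟨W.dd, W.dd_N1⟩ from rfl, map_mul, W.dd_θ, one_mul]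
  have hz : W.dd * W.dd * H.z * (W.dd * W.dd)⁻¹ = H.z := by
    rw [show W.dd * W.dd * H.z * (W.dd * W.dd)⁻¹ = W.dd * (W.dd * H.z * W.dd⁻¹) * W.dd⁻¹ by group, W.dd_z,
      show W.dd * H.z⁻¹ * W.dd⁻¹ = (W.dd * H.z * W.dd⁻¹)⁻¹ by group, W.dd_z, inv_inv]
  have key : ∀ m ∈ H.Z, W.dd * m * W.dd⁻¹ = m → m = 1 := by
    intro m hm h
    obtain ⟨i, rfl⟩ := H.z_pow_exists hm
    rw [← conj_pow, W.dd_z, inv_pow] at h
    have h2 := mul_eq_one_iff_eq_inv.mpr h.symm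
    have h3 : (H.z ^ (i : ℕ)) ^ 3 = 1 := Data.z_pow_cube _
    rwa [pow_succ, pow_two, h2, one_mul] at h3
  rw [← map_mul, ← map_one H.bar, H.bar_eq]
  have hct : Commute W.dd H.t := Subgroup.mem_centralizer_singleton_iff.mp W.dd_N1.1
  rcases D.ker_cases hN hθ hz with h | h
  · exact Or.inl (key _ h (show W.dd * (W.dd * W.dd) * W.dd⁻¹ = W.dd * W.dd by group))
  · refine Or.inr ?_
    have h1 := key _ h (by
      rw [show W.dd * (H.t * (W.dd * W.dd)) * W.dd⁻¹ = (W.dd * H.t) * (W.dd * W.dd) * W.dd⁻¹ by group, hct.eq]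
      group)
    show W.dd * W.dd = H.t * 1
    rw [mul_one, eq_inv_of_mul_eq_one_right h1, H.t_inv]

/-- The elements of `N1` centralizing `z`. -/
def N0 (_W : Twist D) : Subgroup G := H.N1 ⊓ Subgroup.centralizer ({H.z} : Set G)

theorem N0_le : W.N0 ≤ H.N1 := inf_le_left

theorem mem_N0 {x : G} : x ∈ W.N0 ↔ x ∈ H.N1 ∧ x * H.z * x⁻¹ = H.z := by
  rw [N0, Subgroup.mem_inf, Subgroup.mem_centralizer_singleton_iff]
  exact and_congr_right fun _ => ⟨fun h => mul_inv_eq_iff_eq_mul.mpr h, fun h => mul_inv_eq_iff_eq_mul.mp h⟩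

theorem K_le_N0 : H.K ≤ W.N0 := fun _ hx => W.mem_N0.mpr ⟨H.K_le_N1 hx, H.Z_conj_L0 hx.2⟩

theorem exists_section : ∃ Ω : Perm (Fin 5) →* H.C ⧸ H.T,
    ∀ π, ∃ n, ∃ hn : n ∈ W.N0, H.θ ⟨n, W.N0_le hn⟩ = π ∧ Ω π = H.bar ⟨n, (W.N0_le hn).1⟩ := by
  refine D.exists_section_of W.N0 W.N0_le W.K_le_N0 (fun π => ?_)
    fun n hn hθ => D.ker_cases (W.N0_le hn) hθ (W.mem_N0.mp hn).2
  rcases Int.units_eq_one_or (Perm.sign π) with h | h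
  · obtain ⟨x, hx, e⟩ := H.θ_alt h
    exact ⟨x, W.K_le_N0 hx, e⟩
  · obtain ⟨x, hx, e⟩ := H.θ_alt (π := π * (H.θ ⟨W.cc, W.cc_N1⟩)⁻¹)
      (by rw [map_mul, map_inv, h, W.cc_sign]; rfl)
    have hm : x * W.cc ∈ W.N0 := mul_mem (W.K_le_N0 hx) (W.mem_N0.mpr ⟨W.cc_N1, W.cc_z⟩)
    refine ⟨x * W.cc, hm, ?_⟩
    rw [show (⟨x * W.cc, W.N0_le hm⟩ : H.N1) = ⟨x, H.K_le_N1 hx⟩ * ⟨W.cc, W.cc_N1⟩ from rfl, map_mul, e,
      inv_mul_cancel_right]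

theorem bar_zC_conj {x : H.C} (h : (x : G) * H.z * (x : G)⁻¹ = H.z) : Commute (H.bar x) (H.bar H.zC) :=
  (Commute.map (show Commute x H.zC from Subtype.ext (mul_inv_eq_iff_eq_mul.mp h)) H.bar)

theorem bar_dd_z : H.bar W.dC * H.bar H.zC * (H.bar W.dC)⁻¹ = (H.bar H.zC)⁻¹ := by
  rw [← map_inv, ← map_inv, ← map_mul, ← map_mul]
  exact congrArg H.bar (Subtype.ext W.dd_z)

include W in
theorem norm_bar {Ω : Perm (Fin 5) →* H.C ⧸ H.T}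
    (hΩ : ∀ π, ∃ n, ∃ hn : n ∈ W.N0, H.θ ⟨n, W.N0_le hn⟩ = π ∧ Ω π = H.bar ⟨n, (W.N0_le hn).1⟩)
    {x : G} (hx : x ∈ W.N0) :
    ∃ i : Fin 3, H.bar ⟨x, (W.N0_le hx).1⟩ = H.bar H.zC ^ (i : ℕ) * Ω (H.θ ⟨x, W.N0_le hx⟩) := by
  obtain ⟨n, hn, hθ, hΩn⟩ := hΩ (H.θ ⟨x, W.N0_le hx⟩)
  have hxn : x * n⁻¹ ∈ W.N0 := mul_mem hx (inv_mem hn)
  have hk : H.θ ⟨x * n⁻¹, W.N0_le hxn⟩ = 1 := by
    rw [show (⟨x * n⁻¹, W.N0_le hxn⟩ : H.N1) = ⟨x, W.N0_le hx⟩ * ⟨n, W.N0_le hn⟩⁻¹ from rfl, map_mul, map_inv,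
      hθ, mul_inv_cancel]
  obtain ⟨m, hm, hxm⟩ : ∃ m, ∃ hm : m ∈ H.Z,
      H.bar ⟨x * n⁻¹, (W.N0_le hxn).1⟩ = H.bar ⟨m, H.Z_le_C hm⟩ := by
    rcases D.ker_cases (W.N0_le hxn) hk (W.mem_N0.mp hxn).2 with h | h
    · exact ⟨_, h, rfl⟩
    · refine ⟨_, h, H.bar_eq.mpr (Or.inr ?_)⟩
      show x * n⁻¹ = H.t * (H.t * (x * n⁻¹))
      rw [← mul_assoc H.t, H.t_sq, one_mul]
  obtain ⟨i, rfl⟩ := H.z_pow_exists hm
  refine ⟨i, ?_⟩
  rw [hΩn, ← map_pow, show (H.zC ^ (i : ℕ) : H.C) = ⟨H.z ^ (i : ℕ), H.Z_le_C hm⟩ from Subtype.ext rfl,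
    ← hxm, ← map_mul]
  congr 1
  exact Subtype.ext (by simp)

include W in
theorem d_comm {Ω : Perm (Fin 5) →* H.C ⧸ H.T}
    (hΩ : ∀ π, ∃ n, ∃ hn : n ∈ W.N0, H.θ ⟨n, W.N0_le hn⟩ = π ∧ Ω π = H.bar ⟨n, (W.N0_le hn).1⟩)
    (π : Perm (Fin 5)) : Commute (H.bar W.dC) (Ω π) := by
  set δ : Perm (Fin 5) → H.C ⧸ H.T := fun π => H.bar W.dC * Ω π * (H.bar W.dC)⁻¹ * (Ω π)⁻¹ with hδ
  have hδz : ∀ π, ∃ i : Fin 3, δ π = H.bar H.zC ^ (i : ℕ) := by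
    intro π
    obtain ⟨n, hn, hθ, hΩn⟩ := hΩ π
    obtain ⟨hn1, hnz⟩ := W.mem_N0.mp hn
    set c := W.dd * n * W.dd⁻¹ * n⁻¹ with hc
    have hcz : c * H.z * c⁻¹ = H.z := by
      have hni : n⁻¹ * H.z * n⁻¹⁻¹ = H.z := by
        conv_lhs => rw [← hnz]
        group
      have hdi : W.dd⁻¹ * H.z * W.dd⁻¹⁻¹ = H.z⁻¹ := by
        have := congrArg (fun u => W.dd⁻¹ * u⁻¹ * W.dd) W.dd_z
        simp only [inv_inv] at this
        rw [inv_inv, ← this]; group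
      rw [hc, show W.dd * n * W.dd⁻¹ * n⁻¹ * H.z * (W.dd * n * W.dd⁻¹ * n⁻¹)⁻¹ =
        W.dd * (n * (W.dd⁻¹ * (n⁻¹ * H.z * n⁻¹⁻¹) * W.dd⁻¹⁻¹) * n⁻¹) * W.dd⁻¹ by group, hni, hdi,
        show n * H.z⁻¹ * n⁻¹ = (n * H.z * n⁻¹)⁻¹ by group, hnz,
        show W.dd * H.z⁻¹ * W.dd⁻¹ = (W.dd * H.z * W.dd⁻¹)⁻¹ by group, W.dd_z, inv_inv]
    have hcN : c ∈ W.N0 := W.mem_N0.mpr
      ⟨mul_mem (mul_mem (mul_mem W.dd_N1 hn1) (inv_mem W.dd_N1)) (inv_mem hn1), hcz⟩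
    obtain ⟨i, hi⟩ := W.norm_bar hΩ hcN
    have hθc : H.θ ⟨c, W.N0_le hcN⟩ = 1 := by
      rw [show (⟨c, W.N0_le hcN⟩ : H.N1) = ⟨W.dd, W.dd_N1⟩ * ⟨n, hn1⟩ * ⟨W.dd, W.dd_N1⟩⁻¹ * ⟨n, hn1⟩⁻¹ from rfl,
        map_mul, map_mul, map_mul, map_inv, map_inv, W.dd_θ, one_mul, inv_one, mul_one, mul_inv_cancel]
    rw [hθc, map_one, mul_one] at hi
    refine ⟨i, ?_⟩
    simp only [hδ]
    rw [← hi, hΩn, ← map_inv, ← map_inv, ← map_mul, ← map_mul, ← map_mul]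
    rfl
  have hzc : ∀ π (k : ℕ), Commute (H.bar H.zC ^ k) (Ω π) := fun π k => by
    obtain ⟨n, hn, -, hΩn⟩ := hΩ π
    rw [hΩn]
    exact (bar_zC_conj (x := ⟨n, (W.N0_le hn).1⟩) (W.mem_N0.mp hn).2).symm.pow_left k
  have hmul : ∀ π ρ, δ (π * ρ) = δ π * δ ρ := by
    intro π ρ
    obtain ⟨i, hi⟩ := hδz ρ
    simp only [hδ, map_mul, mul_inv_rev] at hi ⊢
    calc H.bar W.dC * (Ω π * Ω ρ) * (H.bar W.dC)⁻¹ * ((Ω ρ)⁻¹ * (Ω π)⁻¹)
        = (H.bar W.dC * Ω π * (H.bar W.dC)⁻¹) * (H.bar W.dC * Ω ρ * (H.bar W.dC)⁻¹ * (Ω ρ)⁻¹) * (Ω π)⁻¹ := by group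
      _ = (H.bar W.dC * Ω π * (H.bar W.dC)⁻¹) * (H.bar H.zC ^ (i : ℕ) * (Ω π)⁻¹) := by rw [hi]; group
      _ = (H.bar W.dC * Ω π * (H.bar W.dC)⁻¹) * ((Ω π)⁻¹ * H.bar H.zC ^ (i : ℕ)) := by
          rw [((hzc π i).inv_right).eq]
      _ = _ := by rw [hi]; group
  have htriv := perm5_swap_trivial (MonoidHom.mk' δ hmul) fun π => by
    obtain ⟨i, hi⟩ := hδz π
    show δ π ^ 3 = 1
    rw [hi, ← pow_mul, mul_comm, pow_mul, ← map_pow, show H.zC ^ 3 = 1 from Subtype.ext H.z_spec.2.1, map_one,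
      one_pow]
  have h : δ π = 1 := DFunLike.congr_fun htriv π
  exact mul_inv_eq_iff_eq_mul.mp (mul_inv_eq_one.mp h)

include W in
theorem parity {x : G} (hx : x ∈ H.N1) (he : x = D.g3 * W.dd * D.g3) : Perm.sign (H.θ ⟨x, hx⟩) = -1 := by
  refine (Int.units_eq_one_or _).resolve_left fun hs => ?_
  have hxJ : x ∈ H.NJ := he ▸ mul_mem (mul_mem D.g3_NJ W.dd_NJ) D.g3_NJ
  have hxz : x * H.z * x⁻¹ = H.z := by
    rw [he, show D.g3 * W.dd * D.g3 * H.z * (D.g3 * W.dd * D.g3)⁻¹ =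
      D.g3 * (W.dd * (D.g3 * H.z * D.g3⁻¹) * W.dd⁻¹) * D.g3⁻¹ by group, D.g3_z, W.dd_a, D.g3_a]
  have hxK : x ∈ H.K := by
    rcases W.cases_centralizing hx hxz with h | h
    · exact h
    · exfalso
      have := H.θ_K_even h
      rw [show (⟨x * W.cc⁻¹, H.K_le_N1 h⟩ : H.N1) = ⟨x, hx⟩ * ⟨W.cc, W.cc_N1⟩⁻¹ from rfl, map_mul, map_inv,
        map_mul, map_inv, hs, W.cc_sign] at this
      exact absurd this (by decide)
  obtain ⟨hx0K, -⟩ := W.exists_x0.choose_spec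
  set x0 := W.exists_x0.choose with hx0
  have hx0J : x0 ∈ H.NJ := by
    have e : x0 = W.dd⁻¹ * W.ν := by
      show x0 = (W.ν * x0⁻¹)⁻¹ * W.ν
      group
    rw [e]; exact mul_mem (inv_mem W.dd_NJ) W.hJ
  have hXK : x0⁻¹ ∈ H.K := inv_mem hx0K
  have hXJ : x0⁻¹ ∈ H.NJ := inv_mem hx0J
  have hdv : ∀ v, D.F.act W.dd_NJ v = -(D.F.act hXJ v) := fun v => by
    rw [← W.act]; exact (D.F.act_mul W.hJ hXJ v)
  have hXZ : D.F.act hXJ eZ = eZ := (D.z_dir hXJ).1 (H.Z_conj_L0 hXK.2)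
  have hXB : D.F.act hXJ eB = -eB := by
    have := hdv eB
    rw [W.dd_act_B] at this
    rw [← neg_neg (D.F.act hXJ eB), ← this]
  have h0B : D.F.act hx0J eB = -eB := by
    have h := (D.act_inv_cancel hx0J eB).2
    rw [hXB, map_neg] at h
    exact (neg_eq_iff_eq_neg.mp h)
  obtain ⟨p, q, r, s, x1, x2, x3, hXact⟩ := D.diag hXJ (a := 1) (b := 2) (by decide) (by decide)
    (by rw [hXZ]; rfl) (by rw [hXB]; rfl)
  have hXX := D.K_square hXK hXJ hXB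
  simp only [hXact] at hXX
  have hxv : ∀ v, D.F.act hxJ v = gMap D.ga D.gp D.gq (-(D.F.act hXJ (gMap D.ga D.gp D.gq v))) := fun v => by
    rw [Geo.act_congr D.toGeo he hxJ (mul_mem (mul_mem D.g3_NJ W.dd_NJ) D.g3_NJ),
      D.F.act_mul (mul_mem D.g3_NJ W.dd_NJ) D.g3_NJ, D.F.act_mul D.g3_NJ W.dd_NJ, D.g3_act, D.g3_act, hdv]
  have gb : gMap D.ga D.gp D.gq eB = D.ga.val • eZ := by rw [smul_eval]; simp [gMap, eZ, eB]
  have hxB : D.F.act hxJ eB = -eB := by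
    rw [hxv, gb, map_nsmul, hXZ]
    rcases zmod_ne_zero D.ga D.ga0 with e | e <;> rw [e] <;> simp [gMap, eZ, eB, smul_eval, Prod.ext_iff] <;> decide
  have hw : x * x0 * D.b * (x * x0)⁻¹ = D.b := by
    rw [Data.b, ← D.F.act_spec (mul_mem hxJ hx0J), D.F.act_mul hxJ hx0J, h0B, map_neg, hxB, neg_neg]
  have hsplit : ∀ v, D.F.act hxJ v = D.F.act (mul_mem hxJ hx0J) (D.F.act hXJ v) := fun v => by
    rw [← D.F.act_mul (mul_mem hxJ hx0J) hXJ]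
    exact Geo.act_congr D.toGeo (mul_inv_cancel_right x x0).symm _ _ v
  have h := refl_moves p q r s x1 x2 (x3.trans (by decide)) hXX D.ga D.gp D.gq D.ga0 D.gpq
  rcases D.K_cent_act (mul_mem hxK hx0K) (mul_mem hxJ hx0J) hw with e | e
  · exact h.1 fun v => by rw [← hXact, ← hXact, ← hxv, hsplit, e]
  · exact h.2 fun v => by rw [← hXact, ← hXact, ← hxv, hsplit, e]

include W in
theorem nonempty_setup8 : ∃ S : Sym8.Setup8 (H.C ⧸ H.T), S.z = H.bar H.zC ∧ S.a = H.bar D.aC ∧ S.g = H.bar D.gC := by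
  obtain ⟨Ω₀, hΩ₀⟩ := W.exists_section
  have haK : D.a ∈ H.K := by rw [D.a_pow]; exact pow_mem D.b_K _
  have haN : D.a ∈ W.N0 := W.K_le_N0 haK
  set τ := H.θ ⟨D.a, W.N0_le haN⟩ with hτ
  have ha3 : D.a ^ 3 = 1 := H.hJexp _ D.a_J
  have hτ3 : τ ^ 3 = 1 := by
    rw [hτ, ← map_pow, show (⟨D.a, W.N0_le haN⟩ : H.N1) ^ 3 = 1 from Subtype.ext ha3, map_one]
  have hτ1 : τ ≠ 1 := by
    intro e
    rcases D.ker_cases (W.N0_le haN) e (H.Z_conj_L0 haK.2) with h | h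
    · obtain ⟨i, hi⟩ := H.z_pow_exists h
      exact D.a_ne_pow_z i hi
    · have := mul_mem (H.Z_le_J h) (inv_mem D.a_J)
      rw [mul_inv_cancel_right] at this
      have h3 := H.hJexp _ this
      rw [pow_succ, pow_two, H.t_sq, one_mul] at h3
      exact H.t_not_Q (h3 ▸ one_mem _)
  obtain ⟨π₀, hπ₀⟩ := CfsgLib.AltEightThree.three_cycle_conj τ hτ3 hτ1
  obtain ⟨i, hi⟩ := W.norm_bar hΩ₀ haN
  have hz3 : ∀ k : ℕ, (H.bar H.zC ^ k) ^ 3 = 1 := fun k => by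
    rw [← pow_mul, mul_comm, pow_mul, ← map_pow, show H.zC ^ 3 = 1 from Subtype.ext H.z_spec.2.1, map_one,
      one_pow]
  have hai : H.bar D.aC = H.bar H.zC ^ (i : ℕ) * Ω₀ τ := hi
  have hinj : ∀ k : Fin 3, H.bar H.zC ^ (k : ℕ) = 1 → k = 0 := fun k hk => by
    rw [← map_pow, ← map_one H.bar] at hk
    have hzk : H.z ^ (k : ℕ) = 1 := H.eq_of_cube (one_mem _) (Data.z_pow_cube k) (one_pow 3) (H.bar_eq.mp hk)
    haveI : Fact (Nat.Prime 3) := ⟨Nat.prime_three⟩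
    have h := orderOf_dvd_of_pow_eq_one hzk
    rw [orderOf_eq_prime H.z_spec.2.1 H.z_spec.2.2.1] at h
    have := k.isLt
    exact Fin.ext (show (k : ℕ) = 0 by omega)
  have hi0 : i = 0 := by
    have h1 : H.bar W.dC * H.bar D.aC * (H.bar W.dC)⁻¹ = H.bar D.aC := by
      rw [← map_inv, ← map_mul, ← map_mul]; exact congrArg H.bar (Subtype.ext W.dd_a)
    rw [hai, show H.bar W.dC * (H.bar H.zC ^ (i : ℕ) * Ω₀ τ) * (H.bar W.dC)⁻¹ =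
      (H.bar W.dC * H.bar H.zC ^ (i : ℕ) * (H.bar W.dC)⁻¹) * (H.bar W.dC * Ω₀ τ * (H.bar W.dC)⁻¹) by group,
      ← conj_pow, W.bar_dd_z, (W.d_comm hΩ₀ τ).eq, mul_inv_cancel_right, inv_pow] at h1
    have h2 := mul_eq_one_iff_eq_inv.mpr (mul_right_cancel h1).symm
    have h3 := hz3 i
    rw [pow_succ, pow_two, h2, one_mul] at h3
    exact hinj i h3
  rw [hi0, Fin.val_zero, pow_zero, one_mul] at hai
  set Ω : Perm (Fin 5) →* H.C ⧸ H.T := Ω₀.comp (MulAut.conj π₀⁻¹).toMonoidHom with hΩdef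
  have hΩ : ∀ π, ∃ n, ∃ hn : n ∈ W.N0, Perm.sign (H.θ ⟨n, W.N0_le hn⟩) = Perm.sign π ∧
      Ω π = H.bar ⟨n, (W.N0_le hn).1⟩ := fun π => by
    obtain ⟨n, hn, hθn, hΩn⟩ := hΩ₀ (π₀⁻¹ * π * π₀)
    refine ⟨n, hn, ?_, by simpa [hΩdef] using hΩn⟩
    rw [hθn, map_mul, map_mul, map_inv, mul_comm, ← mul_assoc, mul_inv_cancel, one_mul]
  have hnorm0 : ∀ x, ∀ hx : x ∈ W.N0, ∃ (j : Fin 3) (π : Perm (Fin 5)),
      H.bar ⟨x, (W.N0_le hx).1⟩ = H.bar H.zC ^ (j : ℕ) * Ω π ∧ Perm.sign π = Perm.sign (H.θ ⟨x, W.N0_le hx⟩) := by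
    intro x hx
    obtain ⟨j, hj⟩ := W.norm_bar hΩ₀ hx
    refine ⟨j, π₀ * H.θ ⟨x, W.N0_le hx⟩ * π₀⁻¹, by rw [hj]; simp [hΩdef, mul_assoc], ?_⟩
    rw [map_mul, map_mul, map_inv, mul_comm, ← mul_assoc, inv_mul_cancel, one_mul]
  have huniq : ∀ (j : Fin 3) (π : Perm (Fin 5)), H.bar H.zC ^ (j : ℕ) * Ω π = 1 → j = 0 ∧ π = 1 := by
    intro j π h
    obtain ⟨n, hn, hθn, hΩn⟩ := hΩ₀ (π₀⁻¹ * π * π₀)
    have h' : H.bar H.zC ^ (j : ℕ) * Ω₀ (π₀⁻¹ * π * π₀) = 1 := by simpa [hΩdef] using h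
    rw [hΩn, ← map_pow, ← map_mul, ← map_one H.bar] at h'
    have hzm : H.z ^ (j : ℕ) ∈ H.Z := pow_mem H.z_spec.1 _
    have hπ1 : π₀⁻¹ * π * π₀ = 1 := by
      rcases H.bar_eq.mp h' with e | e
      · have e' : H.θ (⟨H.z ^ (j : ℕ), H.K_le_N1 (H.Z_le_K hzm)⟩ * ⟨n, W.N0_le hn⟩) = 1 := by
          rw [show (⟨H.z ^ (j : ℕ), H.K_le_N1 (H.Z_le_K hzm)⟩ * ⟨n, W.N0_le hn⟩ : H.N1) = 1 from Subtype.ext e,
            map_one]
        rwa [map_mul, H.θ_Z hzm, one_mul, hθn] at e'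
      · have e' : H.θ (⟨H.z ^ (j : ℕ), H.K_le_N1 (H.Z_le_K hzm)⟩ * ⟨n, W.N0_le hn⟩) = 1 := by
          rw [show (⟨H.z ^ (j : ℕ), H.K_le_N1 (H.Z_le_K hzm)⟩ * ⟨n, W.N0_le hn⟩ : H.N1) =
            ⟨H.t, H.K_le_N1 H.t_mem_K⟩ from Subtype.ext (e.trans (mul_one _)), H.θ_t]
        rwa [map_mul, H.θ_Z hzm, one_mul, hθn] at e'
    have hπ : π = 1 := by
      calc π = π₀ * (π₀⁻¹ * π * π₀) * π₀⁻¹ := by group
        _ = 1 := by rw [hπ1, mul_one, mul_inv_cancel]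
    subst hπ
    rw [map_one, mul_one] at h
    exact ⟨hinj j h, rfl⟩
  have hzΩ : ∀ π, Commute (H.bar H.zC) (Ω π) := fun π => by
    obtain ⟨n, hn, -, hΩn⟩ := hΩ π
    rw [hΩn]
    exact (bar_zC_conj (x := ⟨n, (W.N0_le hn).1⟩) (W.mem_N0.mp hn).2).symm
  have hcube : ∀ u : G, (u * H.z * u⁻¹) ^ 3 = 1 := fun u => by
    rw [conj_pow, H.z_spec.2.1, mul_one, mul_inv_cancel]
  refine ⟨⟨H.bar H.zC, H.bar D.aC, H.bar D.gC, H.bar W.dC, Ω, ?_, W.dd_sq, W.bar_dd_z, fun π => ?_, hzΩ, huniq,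
    ?_, ?_, ?_, ?_, ?_, ?_, D.three_le, ?_⟩, rfl, rfl, rfl⟩
  · rw [← map_pow, show H.zC ^ 3 = 1 from Subtype.ext H.z_spec.2.1, map_one]
  · show Commute _ (Ω₀ (MulAut.conj π₀⁻¹ π))
    exact W.d_comm hΩ₀ _
  · intro x hx
    induction x using QuotientGroup.induction_on with | _ x => ?_
    change H.bar x * H.bar H.zC * (H.bar x)⁻¹ = _ ∨ H.bar x * H.bar H.zC * (H.bar x)⁻¹ = _ at hx
    have hexact : (x : G) * H.z * (x : G)⁻¹ = H.z ∨ (x : G) * H.z * (x : G)⁻¹ = H.z⁻¹ := by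
      rcases hx with e | e
      · left
        rw [← map_inv, ← map_mul, ← map_mul] at e
        exact H.eq_of_cube (H.Z_le_C H.z_spec.1) (hcube _) H.z_spec.2.1 (H.bar_eq.mp e)
      · right
        rw [← map_inv, ← map_inv, ← map_mul, ← map_mul] at e
        exact H.eq_of_cube (inv_mem (H.Z_le_C H.z_spec.1)) (hcube _) (by rw [inv_pow, H.z_spec.2.1, inv_one])
          (H.bar_eq.mp e)
    have hN := H.mem_N1_of_conj x.2 hexact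
    rcases hexact with e | e
    · obtain ⟨j, π, h, -⟩ := hnorm0 x (W.mem_N0.mpr ⟨hN, e⟩)
      exact ⟨j, π, Or.inl h⟩
    · have hxd : (x : G) * W.dd ∈ W.N0 := W.mem_N0.mpr ⟨mul_mem hN W.dd_N1, by
        rw [show (x : G) * W.dd * H.z * ((x : G) * W.dd)⁻¹ = (x : G) * (W.dd * H.z * W.dd⁻¹) * (x : G)⁻¹ by group,
          W.dd_z, show (x : G) * H.z⁻¹ * (x : G)⁻¹ = ((x : G) * H.z * (x : G)⁻¹)⁻¹ by group, e, inv_inv]⟩
      obtain ⟨j, π, h, -⟩ := hnorm0 _ hxd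
      refine ⟨j, π, Or.inr ?_⟩
      show H.bar x = _
      rw [← h, ← map_mul]
      have : H.bar x = H.bar (x * W.dC * W.dC) := by
        rw [mul_assoc, map_mul, map_mul, W.dd_sq, mul_one]
      exact this
  · rw [hai, hΩdef, ← hπ₀]; simp [mul_assoc, hτ]
  · rw [← map_mul, show D.gC * D.gC = 1 from Subtype.ext D.g3_sq, map_one]
  · rw [← map_mul, ← map_mul]
    refine congrArg H.bar (Subtype.ext ?_)
    have := D.g3_z
    rw [D.g3_inv] at this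
    exact this
  · intro x hx
    induction x using QuotientGroup.induction_on with | _ x => ?_
    change Commute _ (H.bar x) at hx
    have hexact : (x : G) * (H.z * D.a) * (x : G)⁻¹ = H.z * D.a := by
      have hy : (H.z * D.a) ∈ H.C := mul_mem (H.Z_le_C H.z_spec.1) D.a_C
      have h3 : (H.z * D.a) ^ 3 = 1 := H.hJexp _ (mul_mem (H.Z_le_J H.z_spec.1) D.a_J)
      refine H.eq_of_cube hy (by rw [conj_pow, h3, mul_one, mul_inv_cancel]) h3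
        (H.bar_eq (x := x * (H.zC * D.aC) * x⁻¹) (y := H.zC * D.aC) |>.mp ?_)
      rw [map_mul, map_mul, map_mul, map_inv, ← hx.eq, mul_inv_cancel_right]
    have key : ∀ u : H.C, (u : G) * H.z * (u : G)⁻¹ = H.z → (u : G) * D.b * (u : G)⁻¹ = D.b →
        Commute (H.bar u) (H.bar H.zC) ∧ Commute (H.bar u) (H.bar D.aC) := by
      intro u h1 h2
      refine ⟨bar_zC_conj h1, Commute.map (show Commute u D.aC from Subtype.ext ?_) H.bar⟩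
      show (u : G) * D.a = D.a * u
      rw [D.a_pow]
      exact ((show Commute (u : G) D.b from mul_inv_eq_iff_eq_mul.mp h2).pow_right _).eq
    rcases D.cent_za x.2 (mul_inv_eq_iff_eq_mul.mp hexact) with ⟨e1, e2⟩ | ⟨e1, e2⟩
    · exact Or.inl (key x e1 e2)
    · refine Or.inr ?_
      show Commute (H.bar x * H.bar D.gC) _ ∧ Commute (H.bar x * H.bar D.gC) _
      rw [← map_mul]
      exact key (x * D.gC) e1 e2
  · intro x k l hx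
    induction x using QuotientGroup.induction_on with | _ x => ?_
    change H.bar x * H.bar H.zC * (H.bar x)⁻¹ = _ at hx
    rw [← map_pow, ← map_pow, ← map_inv, ← map_mul, ← map_mul, ← map_mul] at hx
    have hm : H.z ^ (k : ℕ) * D.a ^ (l : ℕ) ∈ H.J := mul_mem (pow_mem (H.Z_le_J H.z_spec.1) _) (pow_mem D.a_J _)
    have hexact : (x : G) * H.z * (x : G)⁻¹ = H.z ^ (k : ℕ) * D.a ^ (l : ℕ) :=
      H.eq_of_cube (mul_mem (H.Z_le_C (pow_mem H.z_spec.1 _)) (pow_mem D.a_C _)) (hcube _)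
        (H.hJexp _ hm) (H.bar_eq.mp hx)
    by_contra hne
    push Not at hne
    let k' : ZMod 3 := k
    let l' : ZMod 3 := l
    have hk0 : k' ≠ 0 := fun h => hne.1 h
    have hl0 : l' ≠ 0 := fun h => hne.2 h
    refine D.not_mixed (x := x) (i := k') (j := l' * D.ga) hk0 (mul_ne_zero hl0 D.ga0) ?_
    rw [hexact, Data.a, ← two_smul_line, D.F.map_add, D.F.map_nsmul', D.F.map_nsmul', D.F.map_z]
    rfl
  · intro k π hk
    rw [← map_mul, ← map_mul] at hk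
    have hxN : D.g3 * W.dd * D.g3 ∈ W.N0 := by
      have hz : D.g3 * W.dd * D.g3 * H.z * (D.g3 * W.dd * D.g3)⁻¹ = H.z := by
        rw [show D.g3 * W.dd * D.g3 * H.z * (D.g3 * W.dd * D.g3)⁻¹ =
          D.g3 * (W.dd * (D.g3 * H.z * D.g3⁻¹) * W.dd⁻¹) * D.g3⁻¹ by group, D.g3_z, W.dd_a, D.g3_a]
      exact W.mem_N0.mpr ⟨H.mem_N1_of_conj (mul_mem (mul_mem D.g3_C W.dd_N1.1) D.g3_C) (Or.inl hz), hz⟩
    obtain ⟨j, ρ, h, hρ⟩ := hnorm0 _ hxN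
    have hsame : H.bar ⟨D.g3 * W.dd * D.g3, (W.N0_le hxN).1⟩ = H.bar H.zC ^ (k : ℕ) * Ω π := hk
    rw [h] at hsame
    have hzc : ∀ (n : ℕ) (σ : Perm (Fin 5)), Commute (H.bar H.zC ^ n) (Ω σ) := fun n σ => (hzΩ σ).pow_left n
    have hπρ : π = ρ := by
      have h1 : (H.bar H.zC ^ (k : ℕ))⁻¹ * H.bar H.zC ^ (j : ℕ) * Ω (ρ * π⁻¹) = 1 := by
        rw [map_mul, map_inv, mul_assoc, ← mul_assoc (H.bar H.zC ^ (j : ℕ)), hsame, mul_inv_cancel_right,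
          inv_mul_cancel]
      obtain ⟨m, hm⟩ : ∃ m : Fin 3, H.bar H.zC ^ (m : ℕ) = (H.bar H.zC ^ (k : ℕ))⁻¹ * H.bar H.zC ^ (j : ℕ) := by
        have hinv : (H.bar H.zC ^ (k : ℕ))⁻¹ = H.bar H.zC ^ (2 * (k : ℕ)) := inv_eq_of_mul_eq_one_right (by
          rw [← pow_add, show (k : ℕ) + 2 * k = k * 3 by ring, pow_mul]; exact hz3 k)
        refine ⟨⟨(2 * (k : ℕ) + j) % 3, Nat.mod_lt _ (by norm_num)⟩, ?_⟩
        rw [hinv, ← pow_add]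
        exact (pow_eq_pow_mod _ (by
          rw [← map_pow, show H.zC ^ 3 = 1 from Subtype.ext H.z_spec.2.1, map_one])).symm
      rw [← hm] at h1
      exact (mul_inv_eq_one.mp (huniq m _ h1).2).symm
    rw [hπρ, hρ]
    exact W.parity (W.N0_le hxN) rfl

end Twist

end CfsgLib.McLThree
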