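import Mathlib
import Cfsg.Agent.Lib.AltEightThree.Data

/-!
# The three-local data of the symmetric group of degree eight

An element `z` of order three whose normalizer is `S₃ × S₅`, and an element `a` of the `A₅`
conjugate to `z` under an involution.
-/

set_option autoImplicit false
set_option linter.unusedSectionVars false

open Equiv

namespace CfsgLib.McLThree.Sym8

open CfsgLib.AltEightThree (cA)

/-- The local data. -/
structure Setup8 (G : Type*) [Group G] [Finite G] where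
  z : G
  a : G
  g : G
  d : G
  Ω : Perm (Fin 5) →* G
  hz : z ^ 3 = 1
  dd : d * d = 1
  dz : d * z * d⁻¹ = z⁻¹
  dΩ : ∀ π, Commute d (Ω π)
  zΩ : ∀ π, Commute z (Ω π)
  uniq : ∀ (i : Fin 3) (π : Perm (Fin 5)), z ^ (i : ℕ) * Ω π = 1 → i = 0 ∧ π = 1
  norm : ∀ x : G, x * z * x⁻¹ = z ∨ x * z * x⁻¹ = z⁻¹ →
    ∃ (i : Fin 3) (π : Perm (Fin 5)), x = z ^ (i : ℕ) * Ω π ∨ x = z ^ (i : ℕ) * Ω π * d
  ha : a = Ω cA
  gg : g * g = 1
  gz : g * z * g = a
  cent_za : ∀ x : G, Commute (z * a) x → (Commute x z ∧ Commute x a) ∨ (Commute (x * g) z ∧ Commute (x * g) a)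
  line : ∀ (x : G) (i j : Fin 3), x * z * x⁻¹ = z ^ (i : ℕ) * a ^ (j : ℕ) → i = 0 ∨ j = 0
  three : ∀ P : Subgroup G, IsPGroup 3 P → Nat.card P ≤ 9
  parity : ∀ (i : Fin 3) (π : Perm (Fin 5)), g * d * g = z ^ (i : ℕ) * Ω π → Perm.sign π = -1

/-- The point set permuted by the automorphisms of the lines. -/
def lineAct : DihedralGroup 4 → Fin 4 → Fin 4
  | DihedralGroup.r i, k => k - ⟨i.val, ZMod.val_lt i⟩
  | DihedralGroup.sr i, k => 1 - (k - ⟨i.val, ZMod.val_lt i⟩)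

theorem lineAct_id : ∀ e : DihedralGroup 4, (lineAct e 0 = 0 ∧ lineAct e 1 = 1) → e = 1 := by
  decide +kernel

theorem lineAct_r : ∀ k : Fin 4, (k - (1 : Fin 4) = 0 → k = 1) := by decide

/-- The homomorphism out of the dihedral group of order eight. -/
theorem dihedral_hom {Q : Type*} [Group Q] (R S : Q) (hR : R ^ 4 = 1) (hS : S * S = 1) (hSR : S * R * S = R⁻¹) :
    ∃ f : DihedralGroup 4 →* Q,
      (∀ i, f (DihedralGroup.r i) = R ^ i.val) ∧ ∀ i, f (DihedralGroup.sr i) = S * R ^ i.val := by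
  have hadd : ∀ i j : ZMod 4, R ^ (i + j).val = R ^ i.val * R ^ j.val := fun i j => by
    rw [ZMod.val_add, ← pow_add]; exact (pow_eq_pow_mod _ hR).symm
  have hinv : S⁻¹ = S := inv_eq_of_mul_eq_one_left hS
  have hconj : ∀ k : ℕ, R ^ k * S = S * (R ^ k)⁻¹ := fun k => by
    have h : (S * R * S⁻¹) ^ k = (R⁻¹) ^ k := by rw [hinv, hSR]
    rw [conj_pow, inv_pow, hinv] at h
    rw [← h, ← mul_assoc, ← mul_assoc, hS, one_mul]
  have hsub : ∀ i j : ZMod 4, R ^ (j - i).val = (R ^ i.val)⁻¹ * R ^ j.val := fun i j => by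
    rw [eq_inv_mul_iff_mul_eq, ← hadd, add_sub_cancel]
  refine ⟨MonoidHom.mk' (fun x => match x with
    | DihedralGroup.r i => R ^ i.val
    | DihedralGroup.sr i => S * R ^ i.val) ?_, fun i => rfl, fun i => rfl⟩
  rintro (i | i) (j | j)
  · rw [DihedralGroup.r_mul_r]; exact hadd i j
  · rw [DihedralGroup.r_mul_sr]
    show S * R ^ (j - i).val = R ^ i.val * (S * R ^ j.val)
    rw [hsub, ← mul_assoc (R ^ i.val), hconj, mul_assoc]
  · rw [DihedralGroup.sr_mul_r]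
    show S * R ^ (i + j).val = S * R ^ i.val * R ^ j.val
    rw [hadd, mul_assoc]
  · rw [DihedralGroup.sr_mul_sr]
    show R ^ (j - i).val = S * R ^ i.val * (S * R ^ j.val)
    rw [hsub, mul_assoc S, ← mul_assoc (R ^ i.val), hconj, mul_assoc, ← mul_assoc S, hS, one_mul]

/-- Adjoining one coset doubles the order. -/
theorem card_double {G : Type*} [Group G] [Finite G] {A B : Subgroup G} (hAB : A ≤ B) {w : G} (hw : w ∈ B)
    (hwA : w ∉ A) (h : ∀ b ∈ B, b ∈ A ∨ b * w⁻¹ ∈ A) : Nat.card B = 2 * Nat.card A := by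
  let f : A × Bool → B := fun p =>
    if p.2 then ⟨(p.1 : G) * w, mul_mem (hAB p.1.2) hw⟩ else ⟨p.1, hAB p.1.2⟩
  have hf : Function.Bijective f := by
    constructor
    · rintro ⟨u, c⟩ ⟨v, c'⟩ e
      cases c <;> cases c' <;> simp only [f, Bool.false_eq_true, if_false, if_true, Subtype.mk.injEq] at e
      · rw [Subtype.ext e]
      · exact absurd (by rw [show w = (v : G)⁻¹ * u by rw [e]; group]; exact mul_mem (inv_mem v.2) u.2) hwA
      · exact absurd (by rw [show w = (u : G)⁻¹ * v by rw [← e]; group]; exact mul_mem (inv_mem u.2) v.2) hwA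
      · rw [Subtype.ext (mul_right_cancel e)]
    · rintro ⟨b, hb⟩
      rcases h b hb with e | e
      · exact ⟨(⟨b, e⟩, false), rfl⟩
      · exact ⟨(⟨_, e⟩, true), Subtype.ext (by simp [f])⟩
  rw [← Nat.card_congr (Equiv.ofBijective f hf), Nat.card_prod, Nat.card_eq_fintype_card (α := Bool),
    Fintype.card_bool, mul_comm]

theorem cent_cA : ∀ π : Perm (Fin 5), π * cA = cA * π →
    ∃ j : Fin 3, π = cA ^ (j : ℕ) ∨ π * swap 3 4 = cA ^ (j : ℕ) := by decide +kernel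

theorem card_cent_cA : Fintype.card {π : Perm (Fin 5) // π * cA = cA * π} = 6 := by decide +kernel

theorem cA_facts : cA ^ 3 = 1 ∧ Perm.sign cA = 1 ∧ swap (3 : Fin 5) 4 * cA = cA * swap 3 4 ∧
    (∀ j : Fin 3, swap (3 : Fin 5) 4 ≠ cA ^ (j : ℕ)) ∧ swap (3 : Fin 5) 4 * swap 3 4 = 1 ∧ cA ≠ 1 ∧
    cA⁻¹ ≠ cA ∧ (∀ j : Fin 3, Perm.sign (cA ^ (j : ℕ)) = 1) ∧ Perm.sign (swap (3 : Fin 5) 4) = -1 := by
  decide +kernel

theorem perm3_mul : ∀ σ τ : Perm (Fin 3),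
    (σ * τ) 0 = σ 0 + (if Perm.sign σ = 1 then τ 0 else -τ 0) := by decide +kernel

theorem perm3_one : ∀ σ : Perm (Fin 3), Perm.sign σ = 1 → σ 0 = 0 → σ = 1 := by decide +kernel

theorem perm3_exists : ∀ i : Fin 3, ∀ ε : Bool, ∃ σ : Perm (Fin 3),
    σ 0 = i ∧ (Perm.sign σ = 1 ↔ ε = false) := by decide +kernel

theorem fin3_neg_val : ∀ i : Fin 3, ((i : ℕ) + ((-i : Fin 3) : ℕ)) % 3 = 0 := by decide

namespace Setup8

variable {G : Type*} [Group G] [Finite G] (S : Setup8 G)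

theorem z_mod (n : ℕ) : S.z ^ n = S.z ^ (n % 3) := pow_eq_pow_mod n S.hz

theorem z_add (i j : Fin 3) : S.z ^ ((i + j : Fin 3) : ℕ) = S.z ^ (i : ℕ) * S.z ^ (j : ℕ) := by
  rw [← pow_add, S.z_mod ((i : ℕ) + (j : ℕ)), Fin.val_add]

theorem z_neg (i : Fin 3) : S.z ^ ((-i : Fin 3) : ℕ) = (S.z ^ (i : ℕ))⁻¹ := by
  refine eq_inv_of_mul_eq_one_right ?_
  rw [← pow_add, S.z_mod, fin3_neg_val, pow_zero]

theorem g_inv : S.g⁻¹ = S.g := inv_eq_of_mul_eq_one_left S.gg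

theorem d_inv : S.d⁻¹ = S.d := inv_eq_of_mul_eq_one_left S.dd

theorem gag : S.g * S.a * S.g = S.z := by
  rw [← S.gz, show S.g * (S.g * S.z * S.g) * S.g = (S.g * S.g) * S.z * (S.g * S.g) by group, S.gg, one_mul,
    mul_one]

theorem a_cube : S.a ^ 3 = 1 := by rw [S.ha, ← map_pow, cA_facts.1, map_one]

theorem za : Commute S.z S.a := S.ha ▸ S.zΩ cA

theorem z_ne : S.z ≠ 1 := fun h => absurd (S.uniq 1 1 (by simp [h])).1 (by decide)

theorem a_eq_zero {i j : Fin 3} (h : S.z ^ (i : ℕ) * S.a ^ (j : ℕ) = 1) : i = 0 ∧ j = 0 := by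
  rw [S.ha, ← map_pow] at h
  obtain ⟨h1, h2⟩ := S.uniq i _ h
  exact ⟨h1, CfsgLib.AltEightThree.cA_pow_inj j 0 (h2.trans (pow_zero _).symm)⟩

theorem d_z_pow (i : ℕ) : S.d * S.z ^ i * S.d⁻¹ = (S.z ^ i)⁻¹ := by rw [← conj_pow, S.dz, inv_pow]

theorem d_a : Commute S.d S.a := S.ha ▸ S.dΩ cA

theorem d_not (i : Fin 3) (π : Perm (Fin 5)) : S.d ≠ S.z ^ (i : ℕ) * S.Ω π := by
  intro e
  have h := S.dz
  rw [e, (((Commute.refl S.z).pow_left (i : ℕ)).mul_left (S.zΩ π).symm).eq, mul_inv_cancel_right] at h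
  have h2 := mul_eq_one_iff_eq_inv.mpr h
  have h3 := S.hz
  rw [pow_succ, pow_two, h2, one_mul] at h3
  exact S.z_ne h3

theorem coord_inj {i j : Fin 3} {π ρ : Perm (Fin 5)} (h : S.z ^ (i : ℕ) * S.Ω π = S.z ^ (j : ℕ) * S.Ω ρ) :
    i = j ∧ π = ρ := by
  have : S.z ^ ((i - j : Fin 3) : ℕ) * S.Ω (π * ρ⁻¹) = 1 := by
    rw [sub_eq_add_neg, S.z_add, S.z_neg, map_mul, map_inv,
      ← mul_assoc (S.z ^ (i : ℕ) * (S.z ^ (j : ℕ))⁻¹), mul_assoc (S.z ^ (i : ℕ)),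
      (((S.zΩ π).pow_left (j : ℕ)).inv_left).eq, ← mul_assoc, h, mul_assoc (S.z ^ (j : ℕ)),
      ((((S.zΩ ρ).pow_left (j : ℕ)).inv_left)).symm.eq, ← mul_assoc, mul_inv_cancel, one_mul, mul_inv_cancel]
  obtain ⟨h1, h2⟩ := S.uniq _ _ this
  exact ⟨sub_eq_zero.mp h1, mul_inv_eq_one.mp h2⟩

/-- The map from the symmetric group of degree three. -/
noncomputable def ψ : Perm (Fin 3) →* G :=
  MonoidHom.mk' (fun σ => S.z ^ ((σ 0 : Fin 3) : ℕ) * if Perm.sign σ = 1 then 1 else S.d) fun σ τ => by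
    simp only [perm3_mul σ τ, Perm.sign_mul]
    rcases Int.units_eq_one_or (Perm.sign σ) with h | h <;>
      rcases Int.units_eq_one_or (Perm.sign τ) with h' | h' <;>
      simp only [h, h', if_true, mul_one, one_mul, show ((-1 : ℤˣ) = 1) = False from
        eq_false (by decide), if_false, show ((-1 : ℤˣ) * -1) = 1 from rfl, S.z_add, S.z_neg]
    · rw [mul_assoc]
    · rw [mul_assoc, ← S.d_z_pow, mul_assoc S.d, S.d_inv, mul_assoc S.d, mul_assoc (S.z ^ (τ 0 : ℕ)), S.dd, mul_one, ← mul_assoc]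
    · rw [← S.d_z_pow, S.d_inv]
      simp only [mul_assoc]

theorem ψ_apply (σ : Perm (Fin 3)) :
    S.ψ σ = S.z ^ ((σ 0 : Fin 3) : ℕ) * if Perm.sign σ = 1 then 1 else S.d := rfl

theorem ψΩ (σ : Perm (Fin 3)) (π : Perm (Fin 5)) : Commute (S.ψ σ) (S.Ω π) := by
  rw [S.ψ_apply]
  refine ((S.zΩ π).pow_left _).mul_left ?_
  split_ifs
  · exact Commute.one_left _
  · exact S.dΩ π

/-- The normalizer of `⟨z⟩` as a product. -/
noncomputable def Φ : Perm (Fin 3) × Perm (Fin 5) →* G := S.ψ.noncommCoprod S.Ω S.ψΩ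

theorem Φ_apply (p : Perm (Fin 3) × Perm (Fin 5)) : S.Φ p = S.ψ p.1 * S.Ω p.2 := rfl

theorem Φ_inj : Function.Injective S.Φ := by
  refine (injective_iff_map_eq_one _).mpr fun p h => ?_
  rw [S.Φ_apply, S.ψ_apply] at h
  split_ifs at h with hs
  · rw [mul_one] at h
    obtain ⟨h1, h2⟩ := S.uniq _ _ h
    exact Prod.ext (perm3_one _ hs h1) h2
  · exfalso
    rw [mul_assoc, (S.dΩ p.2).eq, ← mul_assoc, mul_eq_one_iff_inv_eq] at h
    refine S.d_not (-(p.1 0)) p.2⁻¹ ?_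
    rw [← h, mul_inv_rev, S.z_neg, map_inv]
    exact ((((S.zΩ p.2).pow_left _).inv_left).inv_right).symm.eq

theorem conj_z_eq {x : G} {i : Fin 3} {π : Perm (Fin 5)} (h : x = S.z ^ (i : ℕ) * S.Ω π) :
    x * S.z * x⁻¹ = S.z := by
  rw [h, (((Commute.refl S.z).pow_left (i : ℕ)).mul_left (S.zΩ π).symm).eq, mul_inv_cancel_right]

theorem conj_z_d {x : G} {i : Fin 3} {π : Perm (Fin 5)} (h : x = S.z ^ (i : ℕ) * S.Ω π * S.d) :
    x * S.z * x⁻¹ = S.z⁻¹ := by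
  rw [h, show S.z ^ (i : ℕ) * S.Ω π * S.d * S.z * (S.z ^ (i : ℕ) * S.Ω π * S.d)⁻¹ =
      S.z ^ (i : ℕ) * S.Ω π * (S.d * S.z * S.d⁻¹) * (S.z ^ (i : ℕ) * S.Ω π)⁻¹ by group, S.dz,
    ((((Commute.refl S.z).pow_left (i : ℕ)).mul_left (S.zΩ π).symm).inv_right).eq, mul_inv_cancel_right]

theorem cent_z {x : G} (h : Commute x S.z) : ∃ (i : Fin 3) (π : Perm (Fin 5)), x = S.z ^ (i : ℕ) * S.Ω π := by
  have hx : x * S.z * x⁻¹ = S.z := mul_inv_eq_iff_eq_mul.mpr h.eq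
  obtain ⟨i, π, e | e⟩ := S.norm x (Or.inl hx)
  · exact ⟨i, π, e⟩
  · exfalso
    have h2 := hx.symm.trans (S.conj_z_d e)
    have h3 := mul_eq_one_iff_eq_inv.mpr h2
    have h4 := S.hz
    rw [pow_succ, pow_two, h3, one_mul] at h4
    exact S.z_ne h4

theorem mem_normalizer_z {x : G} :
    x ∈ Subgroup.normalizer (Subgroup.zpowers S.z : Set G) ↔ x * S.z * x⁻¹ = S.z ∨ x * S.z * x⁻¹ = S.z⁻¹ := by
  constructor
  · intro h
    have hm := (Subgroup.mem_normalizer_iff.mp h S.z).mp (Subgroup.mem_zpowers _)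
    obtain ⟨k, hk⟩ := Subgroup.mem_zpowers_iff.mp hm
    rw [show k = 3 * (k / 3) + k % 3 by omega, zpow_add, zpow_mul,
      show S.z ^ (3 : ℤ) = 1 by exact_mod_cast S.hz, one_zpow, one_mul] at hk
    rcases (show k % 3 = 0 ∨ k % 3 = 1 ∨ k % 3 = 2 by omega) with e | e | e <;> rw [e] at hk
    · rw [zpow_zero] at hk
      exact absurd (conj_eq_one_iff.mp hk.symm) S.z_ne
    · rw [zpow_one] at hk; exact Or.inl hk.symm
    · refine Or.inr (hk.symm.trans (eq_inv_of_mul_eq_one_left ?_))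
      rw [show (2 : ℤ) = ((2 : ℕ) : ℤ) from rfl, zpow_natCast, ← pow_succ, S.hz]
  · intro h
    rw [Subgroup.mem_normalizer_iff_map_conj_eq, MonoidHom.map_zpowers]
    show Subgroup.zpowers (x * S.z * x⁻¹) = _
    rcases h with e | e <;> rw [e]
    exact Subgroup.zpowers_inv

theorem range_Φ : S.Φ.range = Subgroup.normalizer (Subgroup.zpowers S.z : Set G) := by
  refine le_antisymm ?_ fun x hx => ?_
  · rintro _ ⟨⟨σ, π⟩, rfl⟩
    rw [S.mem_normalizer_z, S.Φ_apply, S.ψ_apply]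
    split_ifs with hs
    · exact Or.inl (S.conj_z_eq (i := σ 0) (π := π) (by rw [mul_one]))
    · exact Or.inr (S.conj_z_d (i := σ 0) (π := π) (by rw [mul_assoc, (S.dΩ π).eq, mul_assoc]))
  · obtain ⟨i, π, e | e⟩ := S.norm x (S.mem_normalizer_z.mp hx)
    · obtain ⟨σ, h0, hs⟩ := perm3_exists i false
      exact ⟨(σ, π), by rw [S.Φ_apply, S.ψ_apply, if_pos (hs.mpr rfl), h0, mul_one, e]⟩
    · obtain ⟨σ, h0, hs⟩ := perm3_exists i true
      exact ⟨(σ, π), by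
        rw [S.Φ_apply, S.ψ_apply, if_neg (fun h => by simpa using hs.mp h), h0, mul_assoc, (S.dΩ π).eq,
          ← mul_assoc, e]⟩

/-- The normalizer of `⟨z⟩`. -/
noncomputable def eL : Subgroup.normalizer (Subgroup.zpowers S.z : Set G) ≃* Perm (Fin 3) × Perm (Fin 5) :=
  ((MonoidHom.ofInjective S.Φ_inj).trans (MulEquiv.subgroupCongr S.range_Φ)).symm

theorem exists_eC : Nonempty (Subgroup.centralizer ({S.z} : Set G) ≃* Multiplicative (ZMod 3) × Perm (Fin 5)) := by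
  let f1 : Multiplicative (ZMod 3) →* G := MonoidHom.mk' (fun i => S.z ^ (Multiplicative.toAdd i).val) fun i j => by
    rw [toAdd_mul, ← pow_add, ZMod.val_add]; exact (pow_eq_pow_mod _ S.hz).symm
  let f := f1.noncommCoprod S.Ω fun i π => (S.zΩ π).pow_left _
  have hinj : Function.Injective f := by
    refine (injective_iff_map_eq_one f).mpr fun p hp => ?_
    obtain ⟨h1, h2⟩ := S.uniq (Multiplicative.toAdd p.1 : ZMod 3) p.2 hp
    exact Prod.ext (Multiplicative.toAdd.injective h1) h2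
  have hr : f.range = Subgroup.centralizer ({S.z} : Set G) := by
    refine le_antisymm ?_ fun x hx => ?_
    · rintro _ ⟨p, rfl⟩
      rw [Subgroup.mem_centralizer_singleton_iff]
      exact (((Commute.refl S.z).pow_left _).mul_left (S.zΩ p.2).symm).eq
    · obtain ⟨i, π, e⟩ := S.cent_z (Subgroup.mem_centralizer_singleton_iff.mp hx)
      exact ⟨(Multiplicative.ofAdd (i : ZMod 3), π), e.symm⟩
  exact ⟨((MonoidHom.ofInjective hinj).trans (MulEquiv.subgroupCongr hr)).symm⟩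

end Setup8

end CfsgLib.McLThree.Sym8
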