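import Cfsg.Agent.Lib.McLThree.Sym8Data

/-!
# The Sylow three-subgroup, its centralizer and its normalizer
-/

set_option autoImplicit false
set_option linter.unusedSectionVars false

open Equiv

namespace CfsgLib.McLThree.Sym8

open CfsgLib.AltEightThree (cA)

theorem cA_conj_cases : ∀ π : Perm (Fin 5), ∀ j : Fin 3, π * cA * π⁻¹ = cA ^ (j : ℕ) →
    π * cA * π⁻¹ = cA ∨ π * cA * π⁻¹ = cA⁻¹ := by decide +kernel

theorem lineAct_sr : ∀ i : ZMod 4, ∀ k : Fin 4,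
    lineAct (DihedralGroup.sr i) k = 1 - (k - ⟨i.val, ZMod.val_lt i⟩) := fun _ _ => rfl

theorem fin4_step : ∀ n : ℕ, ∀ k : Fin 4, (k - Fin.ofNat 4 n) - 1 = k - Fin.ofNat 4 (n + 1) := by
  intro n k
  rw [sub_sub]
  congr 1
  apply Fin.ext
  simp [Fin.ofNat, Fin.val_add]

namespace Setup8

variable {G : Type*} [Group G] [Finite G] (S : Setup8 G)

/-- The Sylow three-subgroup. -/
def D : Subgroup G where
  carrier := {x | ∃ i j : Fin 3, x = S.z ^ (i : ℕ) * S.a ^ (j : ℕ)}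
  one_mem' := ⟨0, 0, by simp⟩
  mul_mem' := by
    rintro x y ⟨i, j, rfl⟩ ⟨i', j', rfl⟩
    refine ⟨i + i', j + j', ?_⟩
    rw [S.z_add, Fin.val_add, ← pow_eq_pow_mod _ S.a_cube, pow_add,
      mul_assoc (S.z ^ (i : ℕ)), mul_assoc (S.z ^ (i : ℕ)), ← mul_assoc (S.a ^ (j : ℕ)),
      ((S.za.pow_pow (i' : ℕ) (j : ℕ))).symm.eq, mul_assoc]
  inv_mem' := by
    rintro x ⟨i, j, rfl⟩
    refine ⟨-i, -j, ?_⟩
    rw [S.z_neg, show S.a ^ (((-j : Fin 3)) : ℕ) = (S.a ^ (j : ℕ))⁻¹ from eq_inv_of_mul_eq_one_right (by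
      rw [← pow_add, pow_eq_pow_mod _ S.a_cube, fin3_neg_val, pow_zero]), mul_inv_rev]
    exact ((S.za.pow_pow (i : ℕ) (j : ℕ)).inv_inv).symm.eq

theorem mem_D {x : G} : x ∈ S.D ↔ ∃ i j : Fin 3, x = S.z ^ (i : ℕ) * S.a ^ (j : ℕ) := Iff.rfl

/-- The diagonal element. -/
def y : G := S.z * S.a

theorem z_D : S.z ∈ S.D := ⟨1, 0, by simp⟩
theorem a_D : S.a ∈ S.D := ⟨0, 1, by simp⟩
theorem y_D : S.y ∈ S.D := mul_mem S.z_D S.a_D

theorem closure_yz : Subgroup.closure {S.y, S.z} = S.D := by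
  refine le_antisymm ((Subgroup.closure_le _).mpr ?_) ?_
  · rintro x (rfl | rfl)
    · exact S.y_D
    · exact S.z_D
  · rintro x ⟨i, j, rfl⟩
    have hy : S.y ∈ Subgroup.closure {S.y, S.z} := Subgroup.subset_closure (Set.mem_insert _ _)
    have hz : S.z ∈ Subgroup.closure {S.y, S.z} :=
      Subgroup.subset_closure (Set.mem_insert_of_mem _ rfl)
    refine mul_mem (pow_mem hz _) (pow_mem ?_ _)
    have := mul_mem (inv_mem hz) hy
    rwa [y, inv_mul_cancel_left] at this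

theorem D_comm : ∀ p ∈ S.D, ∀ q ∈ S.D, p * q = q * p := by
  rintro p ⟨i, j, rfl⟩ q ⟨i', j', rfl⟩
  exact ((((Commute.refl S.z).pow_pow _ _).mul_right (S.za.pow_pow _ _)).mul_left
    ((S.za.symm.pow_pow _ _).mul_right ((Commute.refl S.a).pow_pow _ _))).eq

theorem D_exp {p : G} (hp : p ∈ S.D) : p ^ 3 = 1 := by
  obtain ⟨i, j, rfl⟩ := hp
  rw [(S.za.pow_pow _ _).mul_pow, ← pow_mul, ← pow_mul, mul_comm (i : ℕ), mul_comm (j : ℕ), pow_mul, pow_mul,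
    S.hz, S.a_cube, one_pow, one_pow, one_mul]

theorem card_D : Nat.card S.D = 9 := by
  let f : Fin 3 × Fin 3 → S.D := fun p => ⟨S.z ^ (p.1 : ℕ) * S.a ^ (p.2 : ℕ), p.1, p.2, rfl⟩
  have hf : Function.Bijective f := by
    refine ⟨fun p q e => ?_, fun ⟨x, i, j, e⟩ => ⟨(i, j), Subtype.ext e.symm⟩⟩
    have e' : S.z ^ (p.1 : ℕ) * S.a ^ (p.2 : ℕ) = S.z ^ (q.1 : ℕ) * S.a ^ (q.2 : ℕ) := congrArg Subtype.val e
    rw [S.ha, ← map_pow, ← map_pow] at e'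
    obtain ⟨h1, h2⟩ := S.coord_inj e'
    exact Prod.ext h1 (CfsgLib.AltEightThree.cA_pow_inj _ _ h2)
  rw [← Nat.card_congr (Equiv.ofBijective f hf), Nat.card_prod, Nat.card_fin]

theorem D_pgroup : IsPGroup 3 S.D := fun x => ⟨1, Subtype.ext (by rw [pow_one]; exact S.D_exp x.2)⟩

theorem exists_sylow : ∃ P : Sylow 3 G, S.D = P := by
  haveI : Fact (Nat.Prime 3) := ⟨Nat.prime_three⟩
  obtain ⟨P, hP⟩ := S.D_pgroup.exists_le_sylow
  exact ⟨P, Subgroup.eq_of_le_of_card_ge hP (by rw [S.card_D]; exact S.three _ P.2)⟩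

/-- The centralizer of `D`. -/
def CD : Subgroup G := Subgroup.centralizer (S.D : Set G)

theorem mem_CD {x : G} : x ∈ S.CD ↔ Commute x S.z ∧ Commute x S.a := by
  rw [CD, Subgroup.mem_centralizer_iff]
  constructor
  · exact fun h => ⟨(h _ S.z_D).symm, (h _ S.a_D).symm⟩
  · rintro ⟨h1, h2⟩ p ⟨i, j, rfl⟩
    exact ((h1.pow_right _).mul_right (h2.pow_right _)).symm.eq

theorem D_le_CD : S.D ≤ S.CD := fun x hx => Subgroup.mem_centralizer_iff.mpr fun p hp => S.D_comm p hp x hx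

/-- The odd involution centralizing `D`. -/
def τ : G := S.Ω (swap 3 4)

theorem τ_CD : S.τ ∈ S.CD := S.mem_CD.mpr ⟨(S.zΩ _).symm, by
  rw [τ, S.ha]; exact (show Commute (swap (3 : Fin 5) 4) cA from cA_facts.2.2.1).map S.Ω⟩

theorem τ_not_D : S.τ ∉ S.D := by
  rintro ⟨i, j, e⟩
  rw [S.ha, ← map_pow, τ] at e
  have e' : S.z ^ ((0 : Fin 3) : ℕ) * S.Ω (swap 3 4) = S.z ^ (i : ℕ) * S.Ω (cA ^ (j : ℕ)) := by
    rw [Fin.val_zero, pow_zero, one_mul]; exact e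
  exact cA_facts.2.2.2.1 j (S.coord_inj e').2

theorem τ_sq : S.τ * S.τ = 1 := by rw [τ, ← map_mul, cA_facts.2.2.2.2.1, map_one]

theorem τ_inv : S.τ⁻¹ = S.τ := inv_eq_of_mul_eq_one_left S.τ_sq

theorem CD_cases {x : G} (hx : x ∈ S.CD) : x ∈ S.D ∨ x * S.τ⁻¹ ∈ S.D := by
  obtain ⟨hz, ha⟩ := S.mem_CD.mp hx
  obtain ⟨i, π, rfl⟩ := S.cent_z hz
  have hπ : π * cA = cA * π := by
    rw [S.ha] at ha
    have h : S.z ^ (i : ℕ) * S.Ω (π * cA) = S.z ^ (i : ℕ) * S.Ω (cA * π) := by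
      rw [map_mul, map_mul, ← mul_assoc, ha.eq, ← mul_assoc, ← mul_assoc, ((S.zΩ cA).pow_left _).eq]
    exact (S.coord_inj h).2
  obtain ⟨j, e | e⟩ := cent_cA π hπ
  · exact Or.inl ⟨i, j, by rw [e, map_pow, ← S.ha]⟩
  · refine Or.inr ⟨i, j, ?_⟩
    rw [S.τ_inv, τ, mul_assoc, ← map_mul, e, map_pow, ← S.ha]

theorem card_CD : Nat.card S.CD = 18 := by
  rw [card_double S.D_le_CD S.τ_CD S.τ_not_D fun b hb => S.CD_cases hb, S.card_D]

theorem conj_pair_D {x : G} (hz : x * S.z * x⁻¹ ∈ S.D) (ha : x * S.a * x⁻¹ ∈ S.D) :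
    x ∈ Subgroup.normalizer (S.D : Set G) := by
  rw [Subgroup.mem_normalizer_iff_map_conj_eq]
  refine Subgroup.eq_of_le_of_card_ge ?_ (by rw [Subgroup.card_map_of_injective (MulEquiv.injective _)])
  rintro _ ⟨p, ⟨i, j, rfl⟩, rfl⟩
  show x * (S.z ^ (i : ℕ) * S.a ^ (j : ℕ)) * x⁻¹ ∈ S.D
  rw [show x * (S.z ^ (i : ℕ) * S.a ^ (j : ℕ)) * x⁻¹ =
    (x * S.z ^ (i : ℕ) * x⁻¹) * (x * S.a ^ (j : ℕ) * x⁻¹) by group, ← conj_pow, ← conj_pow]
  exact mul_mem (pow_mem hz _) (pow_mem ha _)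

/-- The normalizer of `D`. -/
def N : Subgroup G := Subgroup.normalizer (S.D : Set G)

theorem D_le_N : S.D ≤ S.N := Subgroup.le_normalizer

theorem CD_le_N : S.CD ≤ S.N := fun x hx => S.conj_pair_D
  (by rw [(S.mem_CD.mp hx).1.eq, mul_inv_cancel_right]; exact S.z_D)
  (by rw [(S.mem_CD.mp hx).2.eq, mul_inv_cancel_right]; exact S.a_D)

theorem g_N : S.g ∈ S.N := S.conj_pair_D (by rw [S.g_inv, S.gz]; exact S.a_D)
  (by rw [S.g_inv, S.gag]; exact S.z_D)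

theorem d_N : S.d ∈ S.N := S.conj_pair_D (by rw [S.dz]; exact inv_mem S.z_D)
  (by rw [S.d_a.eq, mul_inv_cancel_right]; exact S.a_D)

/-- The conjugate of `d`. -/
def d' : G := S.g * S.d * S.g

theorem d'_N : S.d' ∈ S.N := mul_mem (mul_mem S.g_N S.d_N) S.g_N

theorem d'_inv : S.d'⁻¹ = S.d' := by
  rw [d', mul_inv_rev, mul_inv_rev, S.g_inv, S.d_inv, mul_assoc]

theorem d'_z : S.d' * S.z * S.d'⁻¹ = S.z := by
  rw [S.d'_inv, d', show S.g * S.d * S.g * S.z * (S.g * S.d * S.g) = S.g * (S.d * (S.g * S.z * S.g) * S.d) * S.g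
    by group, S.gz, show S.d * S.a * S.d = S.a by rw [S.d_a.eq, mul_assoc, S.dd, mul_one], S.gag]

theorem d'_a : S.d' * S.a * S.d'⁻¹ = S.a⁻¹ := by
  have hdz : S.d * S.z * S.d = S.z⁻¹ := by
    have := S.dz
    rwa [S.d_inv] at this
  rw [S.d'_inv, d', show S.g * S.d * S.g * S.a * (S.g * S.d * S.g) = S.g * (S.d * (S.g * S.a * S.g) * S.d) * S.g
    by group, S.gag, hdz]
  refine eq_inv_of_mul_eq_one_left ?_
  rw [← S.gz, show S.g * S.z⁻¹ * S.g * (S.g * S.z * S.g) = S.g * (S.z⁻¹ * (S.g * S.g) * S.z) * S.g by group,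
    S.gg, mul_one, inv_mul_cancel, mul_one, S.gg]

theorem d'_param : ∃ (i : Fin 3) (π : Perm (Fin 5)),
    S.d' = S.z ^ (i : ℕ) * S.Ω π ∧ π * cA * π⁻¹ = cA⁻¹ ∧ Perm.sign π = -1 := by
  obtain ⟨i, π, e⟩ := S.cent_z (mul_inv_eq_iff_eq_mul.mp S.d'_z)
  refine ⟨i, π, e, ?_, S.parity i π e⟩
  have h := S.d'_a
  rw [e, S.ha, ← map_inv, show S.z ^ (i : ℕ) * S.Ω π * S.Ω cA * (S.z ^ (i : ℕ) * S.Ω π)⁻¹ =
    S.z ^ (i : ℕ) * (S.Ω π * S.Ω cA * (S.Ω π)⁻¹) * (S.z ^ (i : ℕ))⁻¹ by group, ← map_inv, ← map_mul,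
    ← map_mul, ((S.zΩ _).pow_left _).eq, mul_inv_cancel_right] at h
  exact (S.coord_inj (i := 0) (j := 0) (by simpa using h)).2

theorem pow_a_Ω (j : ℕ) : S.a ^ j = S.Ω (cA ^ j) := by rw [S.ha, map_pow]

/-- The elements fixing the first line. -/
theorem N_line {x : G} (hx : x ∈ S.N) (hz : x * S.z * x⁻¹ = S.z ∨ x * S.z * x⁻¹ = S.z⁻¹) :
    x ∈ S.CD ∨ x * S.d'⁻¹ ∈ S.CD ∨ x * S.d⁻¹ ∈ S.CD ∨ x * S.d⁻¹ * S.d'⁻¹ ∈ S.CD := by
  have key : ∀ u : G, u ∈ S.N → Commute u S.z → u ∈ S.CD ∨ u * S.d'⁻¹ ∈ S.CD := by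
    intro u hu huz
    obtain ⟨i, π, rfl⟩ := S.cent_z huz
    obtain ⟨k, l, e⟩ : ∃ k l : Fin 3, S.z ^ (i : ℕ) * S.Ω π * S.a * (S.z ^ (i : ℕ) * S.Ω π)⁻¹ =
        S.z ^ (k : ℕ) * S.a ^ (l : ℕ) := (Subgroup.mem_normalizer_iff.mp hu S.a).mp S.a_D
    have e' : S.z ^ ((0 : Fin 3) : ℕ) * S.Ω (π * cA * π⁻¹) = S.z ^ (k : ℕ) * S.Ω (cA ^ (l : ℕ)) := by
      rw [← S.pow_a_Ω, ← e, Fin.val_zero, pow_zero, one_mul, S.ha,
        show S.z ^ (i : ℕ) * S.Ω π * S.Ω cA * (S.z ^ (i : ℕ) * S.Ω π)⁻¹ =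
        S.z ^ (i : ℕ) * (S.Ω π * S.Ω cA * (S.Ω π)⁻¹) * (S.z ^ (i : ℕ))⁻¹ by group, ← map_inv, ← map_mul,
        ← map_mul, ((S.zΩ _).pow_left _).eq, mul_inv_cancel_right]
    have hπ := cA_conj_cases π l (S.coord_inj e').2
    have fixes : ∀ v : G, Commute v S.z → v * S.a * v⁻¹ = S.a → v ∈ S.CD := fun v h1 h2 =>
      S.mem_CD.mpr ⟨h1, mul_inv_eq_iff_eq_mul.mp h2⟩
    have hconj : ∀ ρ, π * cA * π⁻¹ = ρ → S.z ^ (i : ℕ) * S.Ω π * S.a * (S.z ^ (i : ℕ) * S.Ω π)⁻¹ = S.Ω ρ := by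
      rintro ρ rfl
      rw [map_mul, map_mul, map_inv, ← S.ha, show S.z ^ (i : ℕ) * S.Ω π * S.a * (S.z ^ (i : ℕ) * S.Ω π)⁻¹ =
        S.z ^ (i : ℕ) * (S.Ω π * S.a * (S.Ω π)⁻¹) * (S.z ^ (i : ℕ))⁻¹ by group]
      rw [S.ha, ← map_inv, ← map_mul, ← map_mul, ((S.zΩ _).pow_left _).eq, mul_inv_cancel_right]
    rcases hπ with h | h
    · exact Or.inl (fixes _ huz (by rw [hconj _ h, ← S.ha]))
    · refine Or.inr (fixes _ (huz.mul_left (Commute.inv_left (mul_inv_eq_iff_eq_mul.mp S.d'_z))) ?_)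
      have hu' := hconj _ h
      rw [map_inv, ← S.ha] at hu'
      have hd'' : S.d'⁻¹ * S.a * S.d'⁻¹⁻¹ = S.a⁻¹ := by rw [S.d'_inv]; exact S.d'_a
      set w := S.z ^ (i : ℕ) * S.Ω π with hw
      rw [show w * S.d'⁻¹ * S.a * (w * S.d'⁻¹)⁻¹ = w * (S.d'⁻¹ * S.a * S.d'⁻¹⁻¹) * w⁻¹ by group, hd'',
        show w * S.a⁻¹ * w⁻¹ = (w * S.a * w⁻¹)⁻¹ by group, hu', inv_inv]
  rcases hz with e | e
  · rcases key x hx (mul_inv_eq_iff_eq_mul.mp e) with h | h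
    · exact Or.inl h
    · exact Or.inr (Or.inl h)
  · refine Or.inr (Or.inr (key _ (mul_mem hx (inv_mem S.d_N)) (mul_inv_eq_iff_eq_mul.mp ?_)))
    rw [show x * S.d⁻¹ * S.z * (x * S.d⁻¹)⁻¹ = x * (S.d⁻¹ * S.z * S.d) * x⁻¹ by group]
    have h : S.d⁻¹ * S.z * S.d = S.z⁻¹ := by
      have := S.dz
      rw [S.d_inv] at this ⊢
      exact this
    rw [h, show x * S.z⁻¹ * x⁻¹ = (x * S.z * x⁻¹)⁻¹ by group, e, inv_inv]

theorem N_cases {x : G} (hx : x ∈ S.N) :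
    (x * S.z * x⁻¹ = S.z ∨ x * S.z * x⁻¹ = S.z⁻¹) ∨
      (S.g * x * S.z * (S.g * x)⁻¹ = S.z ∨ S.g * x * S.z * (S.g * x)⁻¹ = S.z⁻¹) := by
  obtain ⟨i, j, e⟩ := (Subgroup.mem_normalizer_iff.mp hx S.z).mp S.z_D
  have hne : x * S.z * x⁻¹ ≠ 1 := fun h => S.z_ne (conj_eq_one_iff.mp h)
  have powcases : ∀ k : Fin 3, S.z ^ (k : ℕ) ≠ 1 → S.z ^ (k : ℕ) = S.z ∨ S.z ^ (k : ℕ) = S.z⁻¹ := by
    intro k hk
    rcases CfsgLib.AltEightThree.fin3_cases k with rfl | rfl | rfl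
    · exact absurd (pow_zero _) hk
    · exact Or.inl (pow_one _)
    · exact Or.inr (eq_inv_of_mul_eq_one_left (by rw [← pow_succ]; exact S.hz))
  rcases S.line x i j e with rfl | rfl
  · right
    have e' : S.g * x * S.z * (S.g * x)⁻¹ = S.z ^ (j : ℕ) := by
      rw [show S.g * x * S.z * (S.g * x)⁻¹ = S.g * (x * S.z * x⁻¹) * S.g⁻¹ by group, e, Fin.val_zero, pow_zero,
        one_mul, ← conj_pow, S.g_inv, S.gag]
    rw [e']
    refine powcases j fun h => ?_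
    rw [h] at e'
    exact S.z_ne (conj_eq_one_iff.mp e')
  · left
    have e' : x * S.z * x⁻¹ = S.z ^ (i : ℕ) := by rw [e, Fin.val_zero, pow_zero, mul_one]
    rw [e']
    exact powcases i fun h => hne (e'.trans h)

/-- The part of `D` in its normalizer. -/
abbrev DN : Subgroup S.N := S.D.subgroupOf S.N

instance DN_normal : S.DN.Normal := Subgroup.normal_in_normalizer

/-- The quotient map. -/
abbrev qm : S.N →* S.N ⧸ S.DN := QuotientGroup.mk' S.DN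

theorem qm_eq {x y : G} {hx : x ∈ S.N} {hy : y ∈ S.N} (h : x⁻¹ * y ∈ S.D) : S.qm ⟨x, hx⟩ = S.qm ⟨y, hy⟩ :=
  QuotientGroup.eq.mpr h

/-- The images of `g`, `d`, `d'` and `τ`. -/
def qg : S.N ⧸ S.DN := S.qm ⟨S.g, S.g_N⟩
/-- The image of `d`. -/
def qd : S.N ⧸ S.DN := S.qm ⟨S.d, S.d_N⟩
/-- The image of `d'`. -/
def qd' : S.N ⧸ S.DN := S.qm ⟨S.d', S.d'_N⟩
/-- The image of `τ`. -/
def qt : S.N ⧸ S.DN := S.qm ⟨S.τ, S.CD_le_N S.τ_CD⟩

theorem qg_sq : S.qg * S.qg = 1 := by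
  rw [qg, ← map_mul, show (⟨S.g, S.g_N⟩ : S.N) * ⟨S.g, S.g_N⟩ = 1 from Subtype.ext S.gg, map_one]

theorem qd_sq : S.qd * S.qd = 1 := by
  rw [qd, ← map_mul, show (⟨S.d, S.d_N⟩ : S.N) * ⟨S.d, S.d_N⟩ = 1 from Subtype.ext S.dd, map_one]

theorem qt_sq : S.qt * S.qt = 1 := by
  rw [qt, ← map_mul, show (⟨S.τ, S.CD_le_N S.τ_CD⟩ : S.N) * ⟨S.τ, _⟩ = 1 from Subtype.ext S.τ_sq, map_one]

theorem qd'_eq : S.qd' = S.qg * S.qd * S.qg := by
  rw [qg, qd, qd', ← map_mul, ← map_mul]; rfl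

theorem qdd' : Commute S.qd S.qd' := by
  obtain ⟨i, π, e, -, -⟩ := S.d'_param
  rw [qd, qd', Commute, SemiconjBy, ← map_mul, ← map_mul]
  refine S.qm_eq ?_
  show (S.d * S.d')⁻¹ * (S.d' * S.d) ∈ S.D
  have hdd : S.d * S.d' = S.z ^ ((-i : Fin 3) : ℕ) * S.Ω π * S.d := by
    calc S.d * S.d' = S.d * S.z ^ (i : ℕ) * S.d⁻¹ * (S.d * S.Ω π) := by rw [e]; group
      _ = _ := by rw [S.d_z_pow, (S.dΩ π).eq, ← S.z_neg, mul_assoc]
  rw [hdd, e, show (S.z ^ ((-i : Fin 3) : ℕ) * S.Ω π * S.d)⁻¹ * (S.z ^ (i : ℕ) * S.Ω π * S.d) =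
    S.d⁻¹ * ((S.Ω π)⁻¹ * ((S.z ^ ((-i : Fin 3) : ℕ))⁻¹ * S.z ^ (i : ℕ)) * S.Ω π) * S.d by group, ← S.z_neg,
    ← S.z_add, mul_assoc ((S.Ω π)⁻¹), ((S.zΩ π).pow_left _).eq, inv_mul_cancel_left]
  have hd' := S.d_z_pow ((((- -i : Fin 3) + i : Fin 3)) : ℕ)
  rw [S.d_inv] at hd' ⊢
  rw [hd']
  exact inv_mem (pow_mem S.z_D _)

theorem qt_qd : Commute S.qt S.qd := by
  rw [qt, qd, Commute, SemiconjBy, ← map_mul, ← map_mul]
  exact congrArg S.qm (Subtype.ext (S.dΩ _).symm.eq)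

theorem qt_qg : Commute S.qt S.qg := by
  rw [qt, qg, Commute, SemiconjBy, ← map_mul, ← map_mul]
  refine S.qm_eq ?_
  show (S.τ * S.g)⁻¹ * (S.g * S.τ) ∈ S.D
  obtain ⟨h1, h2⟩ := S.mem_CD.mp S.τ_CD
  have key : ∀ u v : G, Commute S.τ v → S.g * v * S.g = u → Commute (S.g * S.τ * S.g) u := by
    intro u v hv e
    have := hv.map (MulAut.conj S.g).toMonoidHom
    simp only [MulEquiv.coe_toMonoidHom, MulAut.conj_apply, S.g_inv] at this
    rwa [e] at this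
  have hmem : S.g * S.τ * S.g ∈ S.CD := S.mem_CD.mpr ⟨key S.z S.a h2 S.gag, key S.a S.z h1 S.gz⟩
  have hnot : S.g * S.τ * S.g ∉ S.D := fun h => by
    have h' := (Subgroup.mem_normalizer_iff.mp S.g_N _).mp h
    rw [S.g_inv, show S.g * (S.g * S.τ * S.g) * S.g = (S.g * S.g) * S.τ * (S.g * S.g) by group, S.gg,
      one_mul, mul_one] at h'
    exact S.τ_not_D h'
  have h3 := (S.CD_cases hmem).resolve_left hnot
  rw [S.τ_inv] at h3
  have h4 := (Subgroup.mem_normalizer_iff.mp S.g_N _).mp h3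
  rw [S.g_inv, show S.g * (S.g * S.τ * S.g * S.τ) * S.g = (S.g * S.g) * S.τ * S.g * S.τ * S.g by group, S.gg,
    one_mul] at h4
  have h5 := inv_mem h4
  rw [mul_inv_rev, mul_inv_rev, mul_inv_rev, S.g_inv, S.τ_inv] at h5
  rw [mul_inv_rev, S.g_inv, S.τ_inv]
  simpa [mul_assoc] using h5

theorem qt_qd' : Commute S.qt S.qd' := by
  rw [S.qd'_eq]; exact (S.qt_qg.mul_right S.qt_qd).mul_right S.qt_qg

/-- The generator of order four. -/
def qr : S.N ⧸ S.DN := S.qg * S.qd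

theorem qr_sq : S.qr * S.qr = S.qd' * S.qd := by rw [qr, S.qd'_eq, ← mul_assoc]

theorem qr_four : S.qr ^ 4 = 1 := by
  have hd'2 : S.qd' * S.qd' = 1 := by
    rw [S.qd'_eq, show S.qg * S.qd * S.qg * (S.qg * S.qd * S.qg) = S.qg * (S.qd * (S.qg * S.qg) * S.qd) * S.qg
      by group, S.qg_sq, mul_one, S.qd_sq, mul_one, S.qg_sq]
  rw [show (4 : ℕ) = 2 * 2 from rfl, pow_mul, pow_two, pow_two, S.qr_sq]
  calc S.qd' * S.qd * (S.qd' * S.qd) = S.qd' * (S.qd * S.qd') * S.qd := by group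
    _ = (S.qd' * S.qd') * (S.qd * S.qd) := by rw [S.qdd'.eq]; group
    _ = 1 := by rw [hd'2, S.qd_sq, one_mul]

theorem qg_qr : S.qg * S.qr * S.qg = S.qr⁻¹ := by
  rw [qr, ← mul_assoc S.qg S.qg, S.qg_sq, one_mul, mul_inv_rev, inv_eq_of_mul_eq_one_left S.qg_sq,
    inv_eq_of_mul_eq_one_left S.qd_sq]

/-- The labelled points on the lines. -/
def lab : Fin 4 → G := ![S.z, S.a, S.z⁻¹, S.a⁻¹]

/-- The labelled points are permuted as prescribed by the representative. -/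
def Acts (x : G) (σ : Fin 4 → Fin 4) : Prop := ∀ k, x * S.lab k * x⁻¹ = S.lab (σ k)

theorem acts_mul {x y : G} {σ ρ : Fin 4 → Fin 4} (hx : S.Acts x σ) (hy : S.Acts y ρ) :
    S.Acts (x * y) (σ ∘ ρ) := fun k => by
  rw [show x * y * S.lab k * (x * y)⁻¹ = x * (y * S.lab k * y⁻¹) * x⁻¹ by group, hy, hx]; rfl

theorem acts_g : S.Acts S.g (fun k => 1 - k) := by
  have hz : S.g * S.z * S.g⁻¹ = S.a := by rw [S.g_inv]; exact S.gz
  have ha : S.g * S.a * S.g⁻¹ = S.z := by rw [S.g_inv]; exact S.gag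
  intro k
  fin_cases k
  · exact hz
  · exact ha
  · show S.g * S.z⁻¹ * S.g⁻¹ = S.a⁻¹
    rw [show S.g * S.z⁻¹ * S.g⁻¹ = (S.g * S.z * S.g⁻¹)⁻¹ by group, hz]
  · show S.g * S.a⁻¹ * S.g⁻¹ = S.z⁻¹
    rw [show S.g * S.a⁻¹ * S.g⁻¹ = (S.g * S.a * S.g⁻¹)⁻¹ by group, ha]

theorem acts_r : S.Acts (S.g * S.d) (fun k => k - 1) := by
  have ha : S.d * S.a * S.d⁻¹ = S.a := mul_inv_eq_iff_eq_mul.mpr S.d_a.eq
  have hd : S.Acts S.d ![2, 1, 0, 3] := by
    intro k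
    fin_cases k
    · exact S.dz
    · exact ha
    · show S.d * S.z⁻¹ * S.d⁻¹ = S.z
      rw [show S.d * S.z⁻¹ * S.d⁻¹ = (S.d * S.z * S.d⁻¹)⁻¹ by group, S.dz, inv_inv]
    · show S.d * S.a⁻¹ * S.d⁻¹ = S.a⁻¹
      rw [show S.d * S.a⁻¹ * S.d⁻¹ = (S.d * S.a * S.d⁻¹)⁻¹ by group, ha]
  intro k
  rw [S.acts_mul S.acts_g hd k]
  congr 1
  fin_cases k <;> rfl

theorem acts_r_pow (n : ℕ) : S.Acts ((S.g * S.d) ^ n) (fun k => k - Fin.ofNat 4 n) := by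
  induction n with
  | zero => intro k; simp [Fin.ofNat]
  | succ n ih =>
    intro k
    rw [pow_succ', S.acts_mul S.acts_r ih k]
    congr 1
    exact fin4_step n k

theorem acts_CD {x : G} (hx : x ∈ S.CD) : S.Acts x id := by
  obtain ⟨h1, h2⟩ := S.mem_CD.mp hx
  intro k
  fin_cases k
  · exact mul_inv_eq_iff_eq_mul.mpr h1.eq
  · exact mul_inv_eq_iff_eq_mul.mpr h2.eq
  · exact mul_inv_eq_iff_eq_mul.mpr h1.inv_right.eq
  · exact mul_inv_eq_iff_eq_mul.mpr h2.inv_right.eq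

theorem z_ne_inv : S.z ≠ S.z⁻¹ := fun h => by
  have h2 := mul_eq_one_iff_eq_inv.mpr h
  have h3 := S.hz
  rw [pow_succ, pow_two, h2, one_mul] at h3
  exact S.z_ne h3

theorem a_ne : S.a ≠ 1 := fun h => by
  have := (S.uniq 0 cA (by rw [Fin.val_zero, pow_zero, one_mul, ← S.ha]; exact h)).2
  exact cA_facts.2.2.2.2.2.1 this

theorem a_ne_inv : S.a ≠ S.a⁻¹ := fun h => by
  have h2 := mul_eq_one_iff_eq_inv.mpr h
  have h3 := S.a_cube
  rw [pow_succ, pow_two, h2, one_mul] at h3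
  exact S.a_ne h3

theorem z_ne_a (n : ℕ) : S.z ≠ S.a ^ n := fun h => by
  have := S.coord_inj (i := 1) (j := 0) (π := 1) (ρ := cA ^ n)
    (by rw [map_one, mul_one, map_pow, ← S.ha, Fin.val_zero, pow_zero, one_mul, ← h]; exact pow_one _)
  exact absurd this.1 (by decide)

theorem lab_inj : Function.Injective S.lab := by
  have hza : S.z ≠ S.a := fun h => S.z_ne_a 1 (h.trans (pow_one _).symm)
  have hzai : S.z ≠ S.a⁻¹ := fun h => S.z_ne_a 2 (h.trans (inv_eq_of_mul_eq_one_left (by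
    rw [← pow_succ, S.a_cube])))
  have hizi : S.z⁻¹ ≠ S.a := fun h => hzai (by rw [← h, inv_inv])
  have hiii : S.z⁻¹ ≠ S.a⁻¹ := fun h => hza (inv_injective h)
  intro k l h
  fin_cases k <;> fin_cases l <;> first
    | rfl
    | exact absurd h S.z_ne_inv | exact absurd h.symm S.z_ne_inv
    | exact absurd h S.a_ne_inv | exact absurd h.symm S.a_ne_inv
    | exact absurd h hza | exact absurd h.symm hza
    | exact absurd h hzai | exact absurd h.symm hzai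
    | exact absurd h hizi | exact absurd h.symm hizi
    | exact absurd h hiii | exact absurd h.symm hiii

/-- The map from the dihedral group times a group of order two onto `N / D`. -/
theorem exists_hom : ∃ f : DihedralGroup 4 × Multiplicative (ZMod 2) →* S.N ⧸ S.DN,
    Function.Bijective f ∧ f (1, Multiplicative.ofAdd 1) = S.qt := by
  obtain ⟨f1, hr, hsr⟩ := dihedral_hom S.qr S.qg S.qr_four S.qg_sq S.qg_qr
  let f2 : Multiplicative (ZMod 2) →* S.N ⧸ S.DN :=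
    MonoidHom.mk' (fun i => S.qt ^ (Multiplicative.toAdd i).val) fun i j => by
      rw [toAdd_mul, ← pow_add, ZMod.val_add]
      exact (pow_eq_pow_mod _ (by rw [pow_two]; exact S.qt_sq)).symm
  have hcomm : ∀ e i, Commute (f1 e) (f2 i) := by
    intro e i
    refine Commute.pow_right ?_ _
    have hrc : Commute S.qr S.qt := (S.qt_qg.symm).mul_left S.qt_qd.symm
    rcases e with k | k
    · rw [hr]; exact hrc.pow_left _
    · rw [hsr]; exact S.qt_qg.symm.mul_left (hrc.pow_left _)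
  let f := f1.noncommCoprod f2 hcomm
  have hft : f (1, Multiplicative.ofAdd 1) = S.qt := by
    show f1 1 * f2 _ = _
    rw [map_one, one_mul]
    exact pow_one _
  refine ⟨f, ⟨?_, ?_⟩, hft⟩
  · refine (injective_iff_map_eq_one f).mpr fun p hp => ?_
    obtain ⟨e, i⟩ := p
    have hτi : S.τ ^ (Multiplicative.toAdd i).val ∈ S.CD := pow_mem S.τ_CD _
    obtain ⟨x, hxN, hxm, hxa⟩ : ∃ x, ∃ hx : x ∈ S.N, S.qm ⟨x, hx⟩ = f1 e ∧ S.Acts x (lineAct e) := by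
      have hrN : S.g * S.d ∈ S.N := mul_mem S.g_N S.d_N
      have hval : ∀ k : ZMod 4, Fin.ofNat 4 k.val = ⟨k.val, ZMod.val_lt k⟩ := fun k =>
        Fin.ext (Nat.mod_eq_of_lt (ZMod.val_lt k))
      rcases e with k | k
      · refine ⟨(S.g * S.d) ^ k.val, pow_mem hrN _, ?_, fun l => ?_⟩
        · rw [hr, qr, qg, qd, ← map_mul, ← map_pow]; rfl
        · rw [S.acts_r_pow k.val l, hval]; rfl
      · refine ⟨S.g * (S.g * S.d) ^ k.val, mul_mem S.g_N (pow_mem hrN _), ?_, fun l => ?_⟩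
        · rw [hsr, qr, qg, qd, ← map_mul, ← map_pow, ← map_mul]; rfl
        · rw [S.acts_mul S.acts_g (S.acts_r_pow k.val) l]
          simp only [Function.comp_apply, hval]; rfl
    have hfp : f (e, i) = S.qm (⟨x, hxN⟩ * ⟨S.τ ^ (Multiplicative.toAdd i).val, S.CD_le_N hτi⟩) := by
      rw [map_mul, hxm]
      show f1 e * S.qt ^ _ = _
      rw [qt, ← map_pow]; rfl
    rw [hfp] at hp
    have hD : x * S.τ ^ (Multiplicative.toAdd i).val ∈ S.D :=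
      (QuotientGroup.eq_one_iff (N := S.DN)
        ((⟨x, hxN⟩ : S.N) * (⟨S.τ ^ (Multiplicative.toAdd i).val, S.CD_le_N hτi⟩ : S.N))).mp hp
    have hxC : x ∈ S.CD := by
      have := mul_mem (S.D_le_CD hD) (inv_mem hτi)
      rwa [mul_inv_cancel_right] at this
    have he : e = 1 := lineAct_id e
      ⟨S.lab_inj ((hxa 0).symm.trans (S.acts_CD hxC 0)), S.lab_inj ((hxa 1).symm.trans (S.acts_CD hxC 1))⟩
    subst he
    have hx0 : x ∈ S.D := (QuotientGroup.eq_one_iff (⟨x, hxN⟩ : S.N)).mp (hxm.trans (map_one f1))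
    refine Prod.ext rfl ?_
    show i = 1
    have hi : (Multiplicative.toAdd i).val = 0 := by
      by_contra h
      have h1 : (Multiplicative.toAdd i).val = 1 := by
        have := ZMod.val_lt (Multiplicative.toAdd i); omega
      rw [h1, pow_one] at hD
      refine S.τ_not_D ?_
      have := mul_mem (inv_mem hx0) hD
      rwa [inv_mul_cancel_left] at this
    exact Multiplicative.toAdd.injective ((ZMod.val_eq_zero _).mp hi)
  · intro q
    obtain ⟨⟨x, hx⟩, rfl⟩ := QuotientGroup.mk'_surjective S.DN q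
    have hg : S.qg ∈ f.range := ⟨(DihedralGroup.sr 0, 1), by
      show f1 _ * f2 1 = _
      rw [hsr, ZMod.val_zero, pow_zero, mul_one, map_one, mul_one]⟩
    have ht : S.qt ∈ f.range := ⟨_, hft⟩
    have hrr : S.qr ∈ f.range := ⟨(DihedralGroup.r 1, 1), by
      show f1 _ * f2 1 = _
      rw [hr, map_one, mul_one]
      exact pow_one _⟩
    have hd : S.qd ∈ f.range := by
      have := mul_mem hg hrr
      rwa [qr, ← mul_assoc, S.qg_sq, one_mul] at this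
    have hd' : S.qd' ∈ f.range := S.qd'_eq ▸ mul_mem (mul_mem hg hd) hg
    have hC : ∀ u, ∀ hu : u ∈ S.CD, S.qm ⟨u, S.CD_le_N hu⟩ ∈ f.range := by
      intro u hu
      rcases S.CD_cases hu with h | h
      · have he : S.qm ⟨u, S.CD_le_N hu⟩ = 1 := (QuotientGroup.eq_one_iff _).mpr h
        rw [he]
        exact one_mem _
      · have he : S.qm ⟨u, S.CD_le_N hu⟩ = S.qt := by
          refine S.qm_eq ?_
          rw [show u⁻¹ * S.τ = (S.τ⁻¹ * u)⁻¹ by group]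
          refine inv_mem ?_
          have h' : S.τ⁻¹ * (u * S.τ⁻¹) * S.τ⁻¹⁻¹ ∈ S.D :=
            (Subgroup.mem_normalizer_iff.mp (inv_mem (S.CD_le_N S.τ_CD)) _).mp h
          rwa [inv_inv, show S.τ⁻¹ * (u * S.τ⁻¹) * S.τ = S.τ⁻¹ * u by group] at h'
        rw [he]; exact ht
    have main : ∀ u, ∀ hu : u ∈ S.N, (u * S.z * u⁻¹ = S.z ∨ u * S.z * u⁻¹ = S.z⁻¹) → S.qm ⟨u, hu⟩ ∈ f.range := by
      intro u hu hz
      rcases S.N_line hu hz with h | h | h | h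
      · exact hC u h
      · rw [show (⟨u, hu⟩ : S.N) = ⟨u * S.d'⁻¹, S.CD_le_N h⟩ * ⟨S.d', S.d'_N⟩ from Subtype.ext (by simp), map_mul]
        exact mul_mem (hC _ h) hd'
      · rw [show (⟨u, hu⟩ : S.N) = ⟨u * S.d⁻¹, S.CD_le_N h⟩ * ⟨S.d, S.d_N⟩ from Subtype.ext (by simp), map_mul]
        exact mul_mem (hC _ h) hd
      · rw [show (⟨u, hu⟩ : S.N) = ⟨u * S.d⁻¹ * S.d'⁻¹, S.CD_le_N h⟩ * ⟨S.d', S.d'_N⟩ * ⟨S.d, S.d_N⟩ from
          Subtype.ext (by simp), map_mul, map_mul]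
        exact mul_mem (mul_mem (hC _ h) hd') hd
    rcases S.N_cases hx with h | h
    · exact main x hx h
    · rw [show (⟨x, hx⟩ : S.N) = ⟨S.g, S.g_N⟩ * ⟨S.g * x, mul_mem S.g_N hx⟩ from
        Subtype.ext (by simp [← mul_assoc, S.gg]), map_mul]
      exact mul_mem hg (main _ _ h)

theorem card_N : Nat.card S.N = 144 := by
  obtain ⟨f, hf, -⟩ := S.exists_hom
  rw [Subgroup.card_eq_card_quotient_mul_card_subgroup S.DN, ← Nat.card_congr (Equiv.ofBijective f hf),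
    Nat.card_congr (Subgroup.subgroupOfEquivOfLe S.D_le_N).toEquiv, S.card_D, Nat.card_prod,
    DihedralGroup.nat_card, Nat.card_congr Multiplicative.toAdd, Nat.card_zmod]

theorem exists_eN : Nonempty (S.N ⧸ S.DN ≃* DihedralGroup 4 × Multiplicative (ZMod 2)) := by
  obtain ⟨f, hf, -⟩ := S.exists_hom
  exact ⟨(MulEquiv.ofBijective f hf).symm⟩

/-- The centralizer of `D` in its normalizer. -/
abbrev CN : Subgroup S.N := S.CD.subgroupOf S.N

theorem CN_normal : S.CN.Normal := ⟨fun u hu x => Subgroup.mem_centralizer_iff.mpr fun p hp => by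
  show p * ((x : G) * u * (x : G)⁻¹) = (x : G) * u * (x : G)⁻¹ * p
  have h : (x : G)⁻¹ * p * (x : G)⁻¹⁻¹ ∈ S.D :=
    (Subgroup.mem_normalizer_iff.mp (inv_mem x.2) p).mp hp
  have : ((x : G)⁻¹ * p * (x : G)⁻¹⁻¹) * (u : G) = (u : G) * ((x : G)⁻¹ * p * (x : G)⁻¹⁻¹) :=
    Subgroup.mem_centralizer_iff.mp hu _ h
  calc p * ((x : G) * u * (x : G)⁻¹) = (x : G) * (((x : G)⁻¹ * p * (x : G)⁻¹⁻¹) * u) * (x : G)⁻¹ := by group
    _ = (x : G) * ((u : G) * ((x : G)⁻¹ * p * (x : G)⁻¹⁻¹)) * (x : G)⁻¹ := by rw [this]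
    _ = _ := by group⟩

theorem exists_eNC [h : S.CN.Normal] : Nonempty (S.N ⧸ S.CN ≃* DihedralGroup 4) := by
  obtain ⟨f, hf, hft⟩ := S.exists_hom
  let π : S.N ⧸ S.DN →* S.N ⧸ S.CN :=
    QuotientGroup.map S.DN S.CN (MonoidHom.id _) (fun x hx => S.D_le_CD hx)
  let k := π.comp (f.comp (MonoidHom.inl (DihedralGroup 4) (Multiplicative (ZMod 2))))
  have hπt : π S.qt = 1 := (QuotientGroup.eq_one_iff _).mpr S.τ_CD
  have hsur : Function.Surjective k := by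
    intro q
    obtain ⟨x, rfl⟩ := QuotientGroup.mk'_surjective S.CN q
    obtain ⟨⟨e, i⟩, he⟩ := hf.2 (S.qm x)
    refine ⟨e, ?_⟩
    show π (f (e, 1)) = _
    have hi : i = 1 ∨ i = Multiplicative.ofAdd 1 := by
      rcases (show Multiplicative.toAdd i = 0 ∨ Multiplicative.toAdd i = 1 by
        generalize Multiplicative.toAdd i = u; revert u; decide) with h | h
      · exact Or.inl (Multiplicative.toAdd.injective h)
      · exact Or.inr (Multiplicative.toAdd.injective h)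
    have : π (f (e, i)) = QuotientGroup.mk' S.CN x := by rw [he]; rfl
    rw [← this, show ((e, i) : DihedralGroup 4 × Multiplicative (ZMod 2)) = (e, 1) * (1, i) by simp, map_mul,
      map_mul]
    rcases hi with rfl | rfl
    · rw [show ((1, 1) : DihedralGroup 4 × Multiplicative (ZMod 2)) = 1 from rfl, map_one, map_one, mul_one]
    · rw [hft, hπt, mul_one]
  have hc : Nat.card (S.N ⧸ S.CN) = 8 := by
    have := Subgroup.card_eq_card_quotient_mul_card_subgroup S.CN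
    rw [S.card_N, Nat.card_congr (Subgroup.subgroupOfEquivOfLe S.CD_le_N).toEquiv, S.card_CD] at this
    omega
  exact ⟨(MulEquiv.ofBijective k ((Nat.bijective_iff_surjective_and_card k).mpr
    ⟨hsur, by rw [DihedralGroup.nat_card, hc]⟩)).symm⟩

end Setup8

end CfsgLib.McLThree.Sym8
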