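import Cfsg.Agent.Lib.McLThree.Index

/-!
# Thompson's transfer: the subgroup of index two
-/

set_option autoImplicit false
set_option linter.unusedSectionVars false

open Equiv

namespace CfsgLib.McLThree

theorem cent_card_divisible : ∀ k : ℕ, k ≤ 4 → k ≠ 0 →
    128 ∣ Nat.factorial (8 - 2 * k) * 2 ^ k * Nat.factorial k → k = 4 := by
  have h : ∀ k < 5, k ≠ 0 → 128 ∣ Nat.factorial (8 - 2 * k) * 2 ^ k * Nat.factorial k → k = 4 := by
    decide +kernel
  exact fun k hk => h k (by omega)

theorem support_of_big_centralizer {x : Perm (Fin 8)} (hx : x * x = 1) (hx1 : x ≠ 1)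
    (h : 128 ∣ Nat.card (Subgroup.centralizer ({x} : Set (Perm (Fin 8))))) : x.support.card = 8 := by
  obtain ⟨h1, h2⟩ := Sym8.invol_type hx
  have hle := (Sym8.card_support_even hx).2
  set k := x.cycleType.card with hk
  have hk0 : k ≠ 0 := fun h0 => hx1 (Perm.cycleType_eq_zero.mp (Multiset.card_eq_zero.mp h0))
  have hc : Nat.card (Subgroup.centralizer ({x} : Set (Perm (Fin 8)))) =
      Nat.factorial (8 - 2 * k) * 2 ^ k * Nat.factorial k := by
    rw [Perm.nat_card_centralizer, Fintype.card_fin, h1, Multiset.sum_replicate, Multiset.prod_replicate,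
      Multiset.toFinset_replicate, if_neg hk0, Finset.prod_singleton, Multiset.count_replicate_self, smul_eq_mul,
      mul_comm k 2]
  rw [hc] at h
  have := cent_card_divisible k (by omega) hk0 h
  omega

namespace Twist

variable {G : Type*} [Group G] [Finite G] {H : Hyp G} {D : Data H} (W : Twist D)

include W in
theorem exists_index_two (E : H.C ⧸ H.T ≃* Perm (Fin 8)) (S : Sym8.Setup8 (H.C ⧸ H.T))
    (hz : S.z = H.bar H.zC) (ha : S.a = H.bar D.aC) (hg : S.g = H.bar D.gC) :
    ∃ M : Subgroup G, M.Normal ∧ M.index = 2 ∧ W.ν ∉ M := by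
  classical
  haveI : Fact (Nat.Prime 2) := ⟨Nat.prime_two⟩
  obtain ⟨he4, hn6, hg8⟩ := W.classes E S hz ha hg
  have invol_img : ∀ u : H.C, (u : G) * u = 1 → E (H.bar u) * E (H.bar u) = 1 := fun u hu => by
    rw [← map_mul, ← map_mul, show u * u = 1 from Subtype.ext hu, map_one, map_one]
  have conj_of_card : ∀ u v : H.C, E (H.bar u) * E (H.bar u) = 1 → E (H.bar v) * E (H.bar v) = 1 →
      (E (H.bar u)).support.card = (E (H.bar v)).support.card → IsConj (H.bar u) (H.bar v) := by
    intro u v hu hv h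
    have h2 := E.symm.toMonoidHom.map_isConj (Sym8.invol_conj hu hv h)
    simpa using h2
  have hg2 : E (H.bar D.gC) * E (H.bar D.gC) = 1 := invol_img _ D.g3_sq
  have he2 : E (H.bar ⟨W.e1, W.e1_C⟩) * E (H.bar ⟨W.e1, W.e1_C⟩) = 1 := by
    rw [← map_mul, ← map_mul, show (⟨W.e1, W.e1_C⟩ : H.C) * ⟨W.e1, W.e1_C⟩ = H.tC from Subtype.ext W.e1_sq,
      H.bar_t, map_one]
  let χ : H.C →* ℤˣ := (Perm.sign.comp E.toMonoidHom).comp H.bar
  have hχ : ∀ u, χ u = Perm.sign (E (H.bar u)) := fun u => rfl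
  -- involutions in the kernel are conjugate to `t`
  have fus : ∀ u : H.C, (u : G) * u = 1 → (u : G) ≠ 1 → χ u = 1 → ∃ k : G, k * (u : G) * k⁻¹ = H.t := by
    intro u hu hu1 hs
    have hU := invol_img u hu
    rw [hχ, Sym8.invol_sign hU] at hs
    obtain ⟨hev, hle⟩ := Sym8.card_support_even hU
    set m := (E (H.bar u)).support.card with hm
    have hcases : m = 0 ∨ m = 4 ∨ m = 8 := by
      rcases (show m = 0 ∨ m = 2 ∨ m = 4 ∨ m = 6 ∨ m = 8 by omega) with h | h | h | h | h
      · exact Or.inl h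
      · rw [h] at hs; exact absurd hs (by decide)
      · exact Or.inr (Or.inl h)
      · rw [h] at hs; exact absurd hs (by decide)
      · exact Or.inr (Or.inr h)
    rcases hcases with h | h | h
    · have h1 : H.bar u = 1 := E.injective (by
        rw [map_one, ← Perm.support_eq_empty_iff, ← Finset.card_eq_zero]; exact h)
      have hmem : u ∈ H.T := (QuotientGroup.eq_one_iff u).mp h1
      rcases H.mem_T.mp hmem with e | e
      · exact absurd e hu1
      · exact ⟨1, by rw [e]; group⟩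
    · exfalso
      have := W.sq_eq_t_of_bar (conj_of_card u _ hU he2 (h.trans he4.symm))
      rw [hu] at this
      exact H.t_not_Q (this ▸ one_mem _)
    · exact W.conj_t_of_bar (conj_of_card u _ hU hg2 (h.trans hg8.symm))
  -- a Sylow subgroup of the centralizer containing the inverting involution
  set νC : H.C := ⟨W.ν, W.hN.1⟩ with hνC
  have hν2 : νC ^ 2 = 1 := Subtype.ext (by show W.ν ^ 2 = 1; rw [pow_two]; exact W.sq)
  obtain ⟨R, hR⟩ := (show IsPGroup 2 (Subgroup.zpowers νC) from fun x => ⟨1, Subtype.ext (by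
    obtain ⟨k, hk⟩ := Subgroup.mem_zpowers_iff.mp x.2
    show (x : H.C) ^ (2 ^ 1) = 1
    rw [← hk, pow_one, ← zpow_natCast, ← zpow_mul, mul_comm, zpow_mul, zpow_natCast, hν2, one_zpow])⟩).exists_le_sylow
  have hT : Nat.card H.T = 2 := by
    rw [Hyp.T, Nat.card_zpowers]
    exact orderOf_eq_prime (Subtype.ext (by rw [pow_two]; exact H.t_sq)) fun e => H.t_not_Q (by
      rw [show H.t = 1 from congrArg Subtype.val e]; exact one_mem _)
  have hC : Nat.card H.C = 80640 := by
    rw [Subgroup.card_eq_card_quotient_mul_card_subgroup H.T, hT, Nat.card_congr E.toEquiv, Nat.card_perm,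
      Nat.card_fin]
    rfl
  have hR256 : 256 ∣ Nat.card (R : Subgroup H.C) := by
    have h := (R : Subgroup H.C).card_mul_index
    rw [hC] at h
    refine Nat.Coprime.dvd_of_dvd_mul_right ?_ (h ▸ (by norm_num : 256 ∣ 80640))
    rw [show (256 : ℕ) = 2 ^ 8 from rfl]
    exact Nat.Coprime.pow_left _ ((Nat.prime_two.coprime_iff_not_dvd).mpr R.not_dvd_index)
  let RG : Subgroup G := (R : Subgroup H.C).map H.C.subtype
  obtain ⟨P, hP⟩ := (R.2.map H.C.subtype).exists_le_sylow
  have hPR : (P : Subgroup G) = RG := by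
    by_contra hne
    haveI := P.2.isNilpotent
    obtain ⟨xP, hxn, hxR⟩ : ∃ x : P, x ∈ Subgroup.normalizer (RG.subgroupOf (P : Subgroup G) : Set P) ∧
        x ∉ RG.subgroupOf (P : Subgroup G) := by
      have hlt : RG.subgroupOf (P : Subgroup G) < ⊤ := lt_top_iff_ne_top.mpr fun e => hne
        (le_antisymm (fun y hy => (e ▸ Subgroup.mem_top (⟨y, hy⟩ : P) : (⟨y, hy⟩ : P) ∈ RG.subgroupOf _)) hP)
      exact SetLike.exists_of_lt (Group.normalizerCondition_of_isNilpotent _ hlt)
    obtain ⟨x, hxP⟩ := xP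
    have hxC : x ∉ H.C := fun hxC => by
      have hsup : (P : Subgroup G).subgroupOf H.C = (R : Subgroup H.C) :=
        R.3 (P.2.comap_subtype) fun y hy => hP ⟨y, hy, rfl⟩
      exact hxR ⟨⟨x, hxC⟩, hsup ▸ hxP, rfl⟩
    have htR : H.t ∈ RG := by
      refine ⟨H.tC, ?_, rfl⟩
      have hp : IsPGroup 2 H.T := IsPGroup.of_card (n := 1) (by rw [hT, pow_one])
      have hsup := R.3 (hp.to_sup_of_normal_left R.2) le_sup_right
      rw [← hsup]
      exact Subgroup.mem_sup_left (Subgroup.mem_zpowers _)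
    have hconjR : ∀ y ∈ RG, x * y * x⁻¹ ∈ RG := fun y hy =>
      (Subgroup.mem_normalizer_iff.mp hxn ⟨y, hP hy⟩).mp hy
    have hconjR' : ∀ y ∈ RG, x⁻¹ * y * x ∈ RG := fun y hy => by
      have h : x⁻¹ * y * x⁻¹⁻¹ ∈ RG :=
        (Subgroup.mem_normalizer_iff.mp (inv_mem hxn) ⟨y, hP hy⟩).mp hy
      rwa [inv_inv] at h
    obtain ⟨u, huR, hu⟩ := hconjR _ htR
    change (u : G) = x * H.t * x⁻¹ at hu
    have hu2 : (u : G) * u = 1 := by
      rw [hu, show x * H.t * x⁻¹ * (x * H.t * x⁻¹) = x * (H.t * H.t) * x⁻¹ by group, H.t_sq, mul_one,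
        mul_inv_cancel]
    have hut : (u : G) ≠ H.t := fun e => hxC (Subgroup.mem_centralizer_singleton_iff.mpr
      (mul_inv_eq_iff_eq_mul.mp (hu.symm.trans e)))
    have hu1 : (u : G) ≠ 1 := fun e => H.t_not_Q (by
      rw [hu] at e; rw [conj_eq_one_iff.mp e]; exact one_mem _)
    have hub : H.bar u ≠ 1 := fun h => by
      rcases H.mem_T.mp ((QuotientGroup.eq_one_iff u).mp h) with e | e
      · exact hu1 e
      · exact hut e
    let Cu : Subgroup H.C := Subgroup.centralizer ({u} : Set H.C)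
    have hRu : (R : Subgroup H.C) ≤ Cu := fun r hr => Subgroup.mem_centralizer_singleton_iff.mpr (Subtype.ext (by
      show (r : G) * u = u * r
      obtain ⟨r', hr', hrr⟩ := hconjR' r ⟨r, hr, rfl⟩
      change (r' : G) = x⁻¹ * r * x at hrr
      have h := Subgroup.mem_centralizer_singleton_iff.mp r'.2
      rw [hrr] at h
      rw [hu]
      calc (r : G) * (x * H.t * x⁻¹) = x * (x⁻¹ * r * x * H.t) * x⁻¹ := by group
        _ = x * (H.t * (x⁻¹ * r * x)) * x⁻¹ := by rw [h]
        _ = _ := by group))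
    let CB : Subgroup H.C := (Subgroup.centralizer ({H.bar u} : Set (H.C ⧸ H.T))).comap H.bar
    have hCuB : Cu ≤ CB := fun r hr => Subgroup.mem_centralizer_singleton_iff.mpr (by
      show H.bar r * H.bar u = H.bar u * H.bar r
      rw [← map_mul, ← map_mul, Subgroup.mem_centralizer_singleton_iff.mp hr])
    have hTB : H.T ≤ CB := fun r hr => by
      show H.bar r ∈ Subgroup.centralizer ({H.bar u} : Set (H.C ⧸ H.T))
      rw [show H.bar r = 1 from (QuotientGroup.eq_one_iff r).mpr hr]
      exact one_mem _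
    have hcardB : Nat.card CB = Nat.card (Subgroup.centralizer ({E (H.bar u)} : Set (Perm (Fin 8)))) * 2 := by
      rw [card_of_surj ((H.bar.comp CB.subtype).codRestrict (Subgroup.centralizer ({H.bar u} : Set (H.C ⧸ H.T)))
          fun r => r.2) (fun ⟨q, hq⟩ => by
            obtain ⟨r, rfl⟩ := QuotientGroup.mk'_surjective H.T q
            exact ⟨⟨r, hq⟩, rfl⟩)
        (N := H.T.subgroupOf CB) (fun r => ⟨fun h => (QuotientGroup.eq_one_iff (r : H.C)).mp (congrArg Subtype.val h),
          fun h => Subtype.ext ((QuotientGroup.eq_one_iff (r : H.C)).mpr h)⟩),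
        Nat.card_congr (Subgroup.subgroupOfEquivOfLe hTB).toEquiv, hT]
      congr 1
      refine Nat.card_congr (Equiv.subtypeEquiv E.toEquiv fun q => ?_)
      rw [Subgroup.mem_centralizer_singleton_iff, Subgroup.mem_centralizer_singleton_iff]
      show q * H.bar u = H.bar u * q ↔ E q * E (H.bar u) = E (H.bar u) * E q
      rw [← map_mul, ← map_mul]
      exact E.injective.eq_iff.symm
    have h256 : 256 ∣ Nat.card Cu := hR256.trans (Subgroup.card_dvd_of_le hRu)
    have hU := invol_img u hu2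
    have h8 : (E (H.bar u)).support.card = 8 := by
      refine support_of_big_centralizer hU (fun h => hub ((map_eq_one_iff E E.injective).mp h)) ?_
      have := h256.trans (Subgroup.card_dvd_of_le hCuB)
      rw [hcardB, show (256 : ℕ) = 128 * 2 from rfl] at this
      exact Nat.dvd_of_mul_dvd_mul_right (by norm_num) this
    obtain ⟨c', hc', hcc⟩ := W.exists_g_swap
    obtain ⟨c, hc⟩ := lift_conj (conj_of_card u _ hU hg2 (h8.trans hg8.symm))
    -- the element moving `u`
    obtain ⟨m, hm⟩ : ∃ m : H.C, (m : G) * u * (m : G)⁻¹ = H.t * u := by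
      rcases hc with e | e
      all_goals
        refine ⟨c⁻¹ * ⟨c', hc'⟩ * c, ?_⟩
        have hct : Commute ((c : G)⁻¹) H.t :=
          (show Commute (c : G) H.t from Subgroup.mem_centralizer_singleton_iff.mp c.2).inv_left
        have hc't : Commute c' H.t := Subgroup.mem_centralizer_singleton_iff.mp hc'
        show (c : G)⁻¹ * c' * c * u * ((c : G)⁻¹ * c' * c)⁻¹ = H.t * u
      · calc (c : G)⁻¹ * c' * c * u * ((c : G)⁻¹ * c' * c)⁻¹
            = (c : G)⁻¹ * (c' * ((c : G) * u * (c : G)⁻¹) * c'⁻¹) * c := by group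
          _ = (c : G)⁻¹ * (H.t * D.g3) * c := by rw [e]; exact congrArg (fun w => (c : G)⁻¹ * w * c) hcc
          _ = H.t * ((c : G)⁻¹ * ((c : G) * u * (c : G)⁻¹) * c) := by
              rw [e, ← mul_assoc (c : G)⁻¹ H.t, hct.eq]
              show H.t * (c : G)⁻¹ * D.g3 * c = H.t * ((c : G)⁻¹ * D.g3 * c)
              group
          _ = _ := by group
      · calc (c : G)⁻¹ * c' * c * u * ((c : G)⁻¹ * c' * c)⁻¹
            = (c : G)⁻¹ * ((c' * H.t) * D.g3 * c'⁻¹) * c := by
              rw [show (c : G)⁻¹ * c' * c * u * ((c : G)⁻¹ * c' * c)⁻¹ =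
                (c : G)⁻¹ * (c' * ((c : G) * u * (c : G)⁻¹) * c'⁻¹) * c by group, e]
              show (c : G)⁻¹ * (c' * (H.t * D.g3) * c'⁻¹) * c = _
              group
          _ = (c : G)⁻¹ * (H.t * (H.t * D.g3)) * c := by rw [hc't.eq, ← hcc]; group
          _ = (c : G)⁻¹ * H.t * (H.t * D.g3) * c := by group
          _ = H.t * ((c : G)⁻¹ * ((c : G) * u * (c : G)⁻¹) * c) := by
              rw [hct.eq, e]
              show H.t * (c : G)⁻¹ * (H.t * D.g3) * c = H.t * ((c : G)⁻¹ * (H.t * D.g3) * c)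
              group
          _ = _ := by group
    have htu : H.t * (u : G) ≠ u := fun e => H.t_not_Q (by rw [mul_eq_right.mp e]; exact one_mem _)
    have hmB : m ∈ CB := Subgroup.mem_centralizer_singleton_iff.mpr (by
      refine mul_inv_eq_iff_eq_mul.mp ?_
      rw [← map_inv, ← map_mul, ← map_mul, H.bar_eq]
      exact Or.inr hm)
    have hmU : m ∉ Cu := fun h => htu (by
      rw [← hm]
      exact mul_inv_eq_iff_eq_mul.mpr (congrArg Subtype.val (Subgroup.mem_centralizer_singleton_iff.mp h)))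
    have hdbl := Sym8.card_double hCuB hmB hmU fun r hr => by
      have h : H.bar (r * u * r⁻¹) = H.bar u := by
        rw [map_mul, map_mul, map_inv]
        exact mul_inv_eq_iff_eq_mul.mpr (Subgroup.mem_centralizer_singleton_iff.mp hr)
      rcases H.bar_eq.mp h with e | e
      · exact Or.inl (Subgroup.mem_centralizer_singleton_iff.mpr (Subtype.ext (mul_inv_eq_iff_eq_mul.mp e)))
      · refine Or.inr (Subgroup.mem_centralizer_singleton_iff.mpr (Subtype.ext (mul_inv_eq_iff_eq_mul.mp ?_)))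
        have hmt : Commute ((m : G)⁻¹) H.t :=
          (show Commute (m : G) H.t from Subgroup.mem_centralizer_singleton_iff.mp m.2).inv_left
        have hmi : (m : G)⁻¹ * u * (m : G) = H.t * u := by
          calc (m : G)⁻¹ * u * (m : G) = (m : G)⁻¹ * (H.t * (H.t * u)) * (m : G) := by
                rw [← mul_assoc H.t, H.t_sq, one_mul]
            _ = H.t * (m : G)⁻¹ * (H.t * u) * (m : G) := by rw [← mul_assoc (m : G)⁻¹ H.t, hmt.eq]
            _ = H.t * (m : G)⁻¹ * ((m : G) * u * (m : G)⁻¹) * (m : G) := by rw [hm]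
            _ = H.t * u := by group
        show (r : G) * (m : G)⁻¹ * u * ((r : G) * (m : G)⁻¹)⁻¹ = u
        rw [show (r : G) * (m : G)⁻¹ * u * ((r : G) * (m : G)⁻¹)⁻¹ = (r : G) * ((m : G)⁻¹ * u * (m : G)) * (r : G)⁻¹
          by group, hmi, show (r : G) * (H.t * u) * (r : G)⁻¹ = ((r : G) * H.t) * u * (r : G)⁻¹ by group,
          Subgroup.mem_centralizer_singleton_iff.mp r.2,
          show H.t * (r : G) * u * (r : G)⁻¹ = H.t * ((r : G) * u * (r : G)⁻¹) by group]
        change (r : G) * u * (r : G)⁻¹ = H.t * u at e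
        rw [e, ← mul_assoc, H.t_sq, one_mul]
    have hB768 : Nat.card CB = 768 := by
      rw [hcardB, Perm.nat_card_centralizer, Fintype.card_fin]
      obtain ⟨h1, h2⟩ := Sym8.invol_type hU
      have h4 : (E (H.bar u)).cycleType.card = 4 := by omega
      rw [h1, h4]
      simp [Multiset.replicate, Nat.factorial]
    rw [hB768] at hdbl
    rw [show Nat.card Cu = 384 by omega] at h256
    exact absurd h256 (by norm_num)
  -- the transfer
  have hle : (P : Subgroup G) ≤ H.C := hPR.le.trans (Subgroup.map_subtype_le _)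
  let χP : (P : Subgroup G) →* ℤˣ := χ.comp (Subgroup.inclusion hle)
  have hνP : W.ν ∈ (P : Subgroup G) := hPR ▸ ⟨νC, hR (Subgroup.mem_zpowers _), rfl⟩
  have hνχ : χ νC = -1 := by
    rw [hχ, Sym8.invol_sign (invol_img νC W.sq), hn6]; rfl
  refine CfsgLib.Transfer.exists_index_two_of_hom (MonoidHom.transfer χP) (u := W.ν) fun htr => ?_
  have hne : χP ⟨W.ν, hνP⟩ ≠ 1 := by
    show χ νC ≠ 1
    rw [hνχ]; decide
  have hodd : Odd (P : Subgroup G).index := Nat.not_even_iff_odd.mp fun h => P.not_dvd_index h.two_dvd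
  obtain ⟨k, -, hk, hk1⟩ := CfsgLib.Transfer.exists_conj_ker_of_transfer_eq_one χP
    CfsgLib.Transfer.intUnits_unique W.sq hνP hne hodd htr ⊥ IsPGroup.of_bot bot_le
  obtain ⟨l, hl⟩ := fus ⟨_, hle hk⟩ (by
      show k⁻¹ * W.ν * k * (k⁻¹ * W.ν * k) = 1
      rw [show k⁻¹ * W.ν * k * (k⁻¹ * W.ν * k) = k⁻¹ * (W.ν * W.ν) * k by group, W.sq, mul_one, inv_mul_cancel])
    (fun e => by
      have e' : W.ν = 1 := by
        calc W.ν = k * (k⁻¹ * W.ν * k) * k⁻¹ := by group
          _ = 1 := by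
            show k * (k⁻¹ * W.ν * k) * k⁻¹ = 1
            rw [show k⁻¹ * W.ν * k = 1 from e, mul_one, mul_inv_cancel]
      refine hne ?_
      rw [show (⟨W.ν, hνP⟩ : (P : Subgroup G)) = 1 from Subtype.ext e', map_one]) hk1
  exact W.ν_not_conj (l * k⁻¹) (by rw [← hl]; show _ = l * (k⁻¹ * W.ν * k) * l⁻¹; group)

end Twist

end CfsgLib.McLThree
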