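import Cfsg.Agent.Lib.McLThree.One
import Cfsg.Agent.Lib.McLThree.Nu

/-!
# No element of order four squares to an element inverting both lines
-/

set_option autoImplicit false
set_option linter.unusedSectionVars false

open Equiv

namespace CfsgLib.McLThree

namespace Twist

variable {G : Type*} [Group G] [Finite G] {H : Hyp G} {D : Data H} (W : Twist D)

include W in
/-- No element of order four of `C` squares to an element inverting both lines. -/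
theorem no_four_inverting {s : G} (hs : s ∈ H.C) (hsJ : s ∈ H.NJ) (h4 : s * s * (s * s) = 1)
    (hZ : s * s * H.z * (s * s)⁻¹ = H.z⁻¹) : False := by
  obtain ⟨x, hxK, hxJ, hxZ, hxB⟩ := D.exists_b_inverter
  have h12 : (1 : ZMod 3) ≠ 0 ∧ (2 : ZMod 3) ≠ 0 := by decide
  obtain ⟨p, q, r, s', x1, x2, x3, hxact⟩ := D.diag hxJ h12.1 h12.2 (by rw [hxZ]; rfl) (by rw [hxB]; rfl)
  have hxx := D.K_square hxK hxJ hxB
  simp only [hxact] at hxx
  have hwz : D.F.act hsJ (D.F.act hsJ eZ) = -eZ := by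
    rw [← D.F.act_mul hsJ hsJ]
    exact (D.z_dir (mul_mem hsJ hsJ)).2 hZ
  set f := s * D.g3 with hf
  have hfJ : f ∈ H.NJ := mul_mem hsJ D.g3_NJ
  have hfC : f ∈ H.C := mul_mem hs D.g3_C
  have gz : gMap D.ga D.gp D.gq eZ = D.ga.val • eB := by rw [smul_eval]; simp [gMap, eZ, eB]
  have gb : gMap D.ga D.gp D.gq eB = D.ga.val • eZ := by rw [smul_eval]; simp [gMap, eZ, eB]
  have hsZ := D.lines_C hsJ hs (Or.inl (rfl : eZ = eZ))
  have hsB := D.lines_C hsJ hs (Or.inr (rfl : eB = eB))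
  obtain ⟨σ, hσ, eσ⟩ : ∃ σ : ZMod 3, σ ≠ 0 ∧ D.F.act hsJ eZ = σ.val • eB ∧ D.F.act hsJ eB = (-σ).val • eZ := by
    rcases hsZ with e | e | e | e
    · rw [e, e] at hwz; exact absurd hwz (by decide)
    · rw [e, map_neg, e] at hwz; exact absurd hwz (by decide)
    · rw [e] at hwz
      exact ⟨1, h12.1, by rw [e]; decide, by rw [hwz]; decide⟩
    · rw [e, map_neg, neg_inj] at hwz
      exact ⟨2, h12.2, by rw [e]; decide, by rw [hwz]; decide⟩
  have hfact : ∀ v, D.F.act hfJ v = D.F.act hsJ (gMap D.ga D.gp D.gq v) := fun v => by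
    rw [D.F.act_mul hsJ D.g3_NJ, D.g3_act]
  have hxxJ : f * x ∈ H.NJ := mul_mem hfJ hxJ
  have key : ∀ a σ : ZMod 3, a ≠ 0 → σ ≠ 0 → (a.val • (-σ).val • eZ : V4) = -((a * σ).val • eZ) ∧
      -(a.val • σ.val • eB : V4) = -((a * σ).val • eB) ∧ (a * σ = 1 ∨ a * σ = 2) := by decide +kernel
  obtain ⟨k1, k2, k3⟩ := key D.ga σ D.ga0 hσ
  have hFZ : D.F.act hxxJ eZ = -((D.ga * σ).val • eZ) := by
    rw [D.F.act_mul hfJ hxJ, hxZ, hfact, gz, map_nsmul, eσ.2, ← k1]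
  have hFB : D.F.act hxxJ eB = -((D.ga * σ).val • eB) := by
    rw [D.F.act_mul hfJ hxJ, hxB, map_neg, hfact, gb, map_nsmul, eσ.1, k2]
  have one_smul' : ∀ u : V4, u = (1 : ZMod 3).val • u ∧ u = (2 : ZMod 3).val • -u := by decide +kernel
  -- adjust by the inverting involution
  obtain ⟨ε, hε0, h, hhC, hhJ, hhZ, hhB, hεv⟩ : ∃ ε : ZMod 3, ε ≠ 0 ∧ ∃ h, ∃ _ : h ∈ H.C, ∃ hhJ : h ∈ H.NJ,
      D.F.act hhJ eZ = eZ ∧ D.F.act hhJ eB = eB ∧ ∀ v, D.F.act hxxJ v = ε.val • D.F.act hhJ v := by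
    rcases k3 with e | e
    · rw [e] at hFZ hFB
      have hh : W.ν * (f * x) ∈ H.NJ := mul_mem W.hJ hxxJ
      refine ⟨2, h12.2, W.ν * (f * x), mul_mem W.hN.1 (mul_mem hfC hxK.1), hh, ?_, ?_, fun v => ?_⟩
      · rw [D.F.act_mul W.hJ hxxJ, W.act, hFZ]; decide
      · rw [D.F.act_mul W.hJ hxxJ, W.act, hFB]; decide
      · rw [D.F.act_mul W.hJ hxxJ, W.act]
        exact (one_smul' _).2
    · rw [e] at hFZ hFB
      exact ⟨1, h12.1, f * x, mul_mem hfC hxK.1, hxxJ, by rw [hFZ]; decide, by rw [hFB]; decide,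
        fun v => (one_smul' _).1⟩
  obtain ⟨k, s0, hs0, hk⟩ := W.fix_lines hhC hhJ hhZ hhB
  have hsv : ∀ v, D.F.act hsJ v = ε.val • fixMap k s0 (dMap 1 2 p q r s' (dMap 1 2 p q r s'
      (dMap 1 2 p q r s' (gMap D.ga D.gp D.gq v)))) := fun v => by
    rw [← hk, ← hεv, D.F.act_mul hfJ hxJ, hxact, hfact]
    congr 1
    rcases hxx with e | e
    · rw [e, e, (gMap_facts D.ga D.gp D.gq D.ga0 D.gpq v).1]
    · rw [e, e, tauV_tauV, (gMap_facts D.ga D.gp D.gq D.ga0 D.gpq v).1]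
  refine no_four p q r s' x1 x2 (x3.trans (by decide)) hxx D.ga D.gp D.gq D.ga0 D.gpq k s0 hs0 ε hε0
    ⟨fun v _ => ?_, ?_⟩
  · simp only [← hsv]
    rw [← D.F.act_mul hsJ hsJ, ← D.F.act_mul hsJ hsJ, ← D.F.act_mul (mul_mem hsJ hsJ) (mul_mem hsJ hsJ),
      D.F.act_of_J _ (by rw [h4]; exact one_mem _)]
  · simp only [← hsv]
    exact hwz

end Twist

end CfsgLib.McLThree
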